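import Cfsg.Agent.Lib.SolvSignalizer.FrameFalse
import Cfsg.Agent.Lib.PGroup.CoprimeHall

/-!
# The solvable signalizer functor theorem

`exists_complete`: for an elementary abelian `p`-group `A` of order at least `p ^ 3` and a solvable
`A`-signalizer functor `θ` some member of the family contains every `θ a`.
-/

set_option autoImplicit false
set_option linter.style.haveILetI false
set_option linter.unusedSectionVars false
set_option maxHeartbeats 400000

open Subgroup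
open CfsgLib.Coprime (IsPiNum IsHallIn conjBy)
open Cfsg (signalizerFamily signalizerInf)

namespace CfsgLib.SolvSignalizer

universe u

section Basic

variable {G : Type u} [Group G] [Finite G] {p : ℕ} [hp : Fact p.Prime] {A : Subgroup G}
  {θ : G → Subgroup G}

theorem not_cyclic_of_exponent (hA : Cfsg.IsElementaryAbelian p A) (hA2 : p ^ 2 ≤ Nat.card A) :
    ¬ IsCyclic A := fun hc => by
  obtain ⟨g, hg⟩ := hc.exists_generator
  have h1 : Nat.card A ∣ p := by
    rw [← orderOf_eq_card_of_forall_mem_zpowers hg]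
    exact orderOf_dvd_of_pow_eq_one (Subtype.ext (hA.2 g g.2))
  have h2 := hA2.trans (Nat.le_of_dvd hp.out.pos h1)
  have h3 := hp.out.two_le
  nlinarith

/-- An invariant subgroup of order prime to `p` is generated by its fixed points. -/
theorem le_of_fixed_points (hA : Cfsg.IsElementaryAbelian p A) (hA2 : p ^ 2 ≤ Nat.card A)
    {X W : Subgroup G} (hAX : A ≤ normalizer (X : Set G)) (hX : ¬ p ∣ Nat.card X)
    (hW : ∀ a ∈ A, a ≠ 1 → X ⊓ centralizer ({a} : Set G) ≤ W) : X ≤ W :=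
  haveI := hA.1
  CfsgLib.Coprime.le_of_centralizers_le (not_cyclic_of_exponent hA hA2) hAX
    (CfsgLib.Invol.coprime_card_of_not_dvd (CfsgLib.Invol.isPGroup_of_isElementaryAbelian hA) hX) hW

theorem sup_mem_of (hA : Cfsg.IsElementaryAbelian p A) {X Y : Subgroup G}
    (hX : X ∈ signalizerFamily p A θ) (hY : Y ∈ signalizerFamily p A θ)
    (hn : Y ≤ normalizer (X : Set G)) : X ⊔ Y ∈ signalizerFamily p A θ :=
  CfsgLib.Invol.sup_mem_family hA hX hY hn

theorem A_normalizes_centralizer (hA : Cfsg.IsElementaryAbelian p A) {a : G} (ha : a ∈ A) :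
    A ≤ normalizer (centralizer ({a} : Set G) : Set G) := by
  refine le_trans ?_ le_normalizer
  exact fun b hb => mem_centralizer_singleton_iff.2 (CfsgLib.EABasic.comm_of_isElementaryAbelian hA hb ha)

/-! ### The `π`-part of a functor -/

/-- The intersection of the invariant Hall `π`-subgroups of `θ a`. -/
def piPart (π : Set ℕ) (A : Subgroup G) (θ : G → Subgroup G) (a : G) : Subgroup G :=
  θ a ⊓ ⨅ H : {H : Subgroup G // IsHallIn π H (θ a) ∧ A ≤ normalizer (H : Set G)}, (H : Subgroup G)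

variable {π : Set ℕ}

theorem piPart_le {a : G} : piPart π A θ a ≤ θ a := inf_le_left

variable (hA : Cfsg.IsElementaryAbelian p A) (hθ : Cfsg.IsSolvableSignalizerFunctor p A θ)

include hA hθ

theorem theta_coprime {a : G} (ha : a ∈ A) (ha1 : a ≠ 1) :
    (Nat.card A).Coprime (Nat.card (θ a)) :=
  CfsgLib.Invol.coprime_card_of_not_dvd (CfsgLib.Invol.isPGroup_of_isElementaryAbelian hA)
    (hθ.1.2.1 a ha ha1)

theorem piPart_isPiNum {a : G} (ha : a ∈ A) (ha1 : a ≠ 1) :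
    IsPiNum π (Nat.card (piPart π A θ a)) := by
  obtain ⟨H, hH, hHA⟩ := CfsgLib.PGroup.exists_invariant_hall
    (CfsgLib.Invol.family_normalizer (CfsgLib.Invol.theta_mem_family hθ ha ha1))
    (theta_coprime hA hθ ha ha1) (hθ.2 a ha ha1) π
  exact hH.2.1.of_dvd (card_dvd_of_le (inf_le_right.trans
    (iInf_le (fun H : {H : Subgroup G // IsHallIn π H (θ a) ∧ A ≤ normalizer (H : Set G)} =>
      (H : Subgroup G)) ⟨H, hH, hHA⟩)))

theorem A_normalizes_piPart {a : G} (ha : a ∈ A) (ha1 : a ≠ 1) :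
    A ≤ normalizer (piPart π A θ a : Set G) := by
  refine CfsgLib.Coprime.inf_le_normalizer
    (CfsgLib.Invol.family_normalizer (CfsgLib.Invol.theta_mem_family hθ ha ha1))
    (CfsgLib.Invol.le_normalizer_of_forall_conj fun b hb x hx => ?_)
  rw [Subgroup.mem_iInf] at hx ⊢
  exact fun H => CfsgLib.Coprime.conj_mem_of_le_normalizer H.2.2 hb (hx H)

theorem inf_normalizes_piPart {a : G} (ha : a ∈ A) (ha1 : a ≠ 1) :
    signalizerInf A θ ≤ normalizer (piPart π A θ a : Set G) := by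
  refine CfsgLib.Invol.le_normalizer_of_forall_conj fun c hc x hx => ?_
  have hcθ := CfsgLib.Invol.signalizerInf_le_theta ha ha1 hc
  have hcA := CfsgLib.Invol.signalizerInf_le_centralizer hθ hc
  obtain ⟨hxθ, hxI⟩ := mem_inf.1 hx
  refine mem_inf.2 ⟨mul_mem (mul_mem hcθ hxθ) (inv_mem hcθ), ?_⟩
  rw [Subgroup.mem_iInf] at hxI ⊢
  rintro ⟨H, hH, hHA⟩
  have e : conjBy c⁻¹ (θ a) = θ a :=
    CfsgLib.Coprime.conjBy_eq_self_iff.2 (le_normalizer (inv_mem hcθ))
  have hH' : IsHallIn π (conjBy c⁻¹ H) (θ a) := by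
    refine ⟨?_, by rw [CfsgLib.Coprime.card_conjBy]; exact hH.2.1, ?_⟩
    · rw [← e]; exact map_mono hH.1
    · rw [← e]
      show IsPiNum πᶜ ((H.map (MulAut.conj c⁻¹).toMonoidHom).relIndex
        ((θ a).map (MulAut.conj c⁻¹).toMonoidHom))
      rw [relIndex_map_map_of_injective _ _ (MulAut.conj c⁻¹).injective]
      exact hH.2.2
  have h1 := hxI ⟨_, hH', CfsgLib.Coprime.normalizer_conjBy_le (inv_mem hcA) hHA⟩
  rwa [CfsgLib.Coprime.mem_conjBy, inv_inv] at h1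

theorem le_piPart {a : G} (ha : a ∈ A) (ha1 : a ≠ 1) {U : Subgroup G} (hU : U ≤ θ a)
    (hUA : A ≤ normalizer (U : Set G)) (hUC : signalizerInf A θ ≤ normalizer (U : Set G))
    (hUπ : IsPiNum π (Nat.card U)) : U ≤ piPart π A θ a := by
  refine le_inf hU (le_iInf fun H => ?_)
  have hAθ := CfsgLib.Invol.family_normalizer (CfsgLib.Invol.theta_mem_family hθ ha ha1)
  obtain ⟨H₁, hH₁, hH₁A, hUH₁⟩ := CfsgLib.PGroup.exists_invariant_hall_ge hAθ
    (theta_coprime hA hθ ha ha1) (hθ.2 a ha ha1) π hU hUA hUπ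
  obtain ⟨c, hc, e⟩ := CfsgLib.PGroup.invariant_hall_conj hAθ (theta_coprime hA hθ ha ha1)
    (hθ.2 a ha ha1) hH₁ H.2.1 hH₁A H.2.2
  have hcU : conjBy c U = U := CfsgLib.Coprime.conjBy_eq_self_iff.2
    (hUC (CfsgLib.Invol.mem_signalizerInf_of_centralizer hθ ha ha1 hc.1 hc.2))
  rw [← hcU, ← e]
  exact map_mono hUH₁

theorem piPart_functor : Cfsg.IsSolvableSignalizerFunctor p A (piPart π A θ) := by
  refine ⟨⟨fun a ha ha1 => piPart_le.trans (hθ.1.1 a ha ha1),
    fun a ha ha1 hd => hθ.1.2.1 a ha ha1 (hd.trans (card_dvd_of_le piPart_le)),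
    fun a ha ha1 b hb x hx =>
      CfsgLib.Coprime.conj_mem_of_le_normalizer (A_normalizes_piPart hA hθ ha ha1) hb hx,
    fun a ha ha1 b hb hb1 => ?_⟩, fun a ha ha1 => CfsgLib.Coprime.isSolvable_of_le piPart_le (hθ.2 a ha ha1)⟩
  have hCb : signalizerInf A θ ≤ normalizer (centralizer ({b} : Set G) : Set G) :=
    ((CfsgLib.Invol.signalizerInf_le_theta hb hb1).trans (hθ.1.1 b hb hb1)).trans le_normalizer
  exact le_piPart hA hθ hb hb1 ((inf_le_inf_right _ piPart_le).trans (hθ.1.2.2.2 a ha ha1 b hb hb1))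
    (CfsgLib.Coprime.inf_le_normalizer (A_normalizes_piPart hA hθ ha ha1) (A_normalizes_centralizer hA hb))
    (CfsgLib.Coprime.inf_le_normalizer (inf_normalizes_piPart hA hθ ha ha1) hCb)
    ((piPart_isPiNum hA hθ ha ha1).of_dvd (card_dvd_of_le inf_le_left))

end Basic

/-- The points of `A` other than `1`. -/
noncomputable def nonidPoints {G : Type u} [Group G] [Finite G] (A : Subgroup G) : Finset G :=
  (Set.toFinite {a : G | a ∈ A ∧ a ≠ 1}).toFinset

/-- The sum of the orders of the values of `θ`. -/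
noncomputable def thetaSize {G : Type u} [Group G] [Finite G] (A : Subgroup G) (θ : G → Subgroup G) : ℕ :=
  ∑ a ∈ nonidPoints A, Nat.card (θ a)

theorem mem_nonidPoints {G : Type u} [Group G] [Finite G] {A : Subgroup G} {a : G} :
    a ∈ nonidPoints A ↔ a ∈ A ∧ a ≠ 1 := by rw [nonidPoints, Set.Finite.mem_toFinset]; rfl

theorem thetaSize_lt {G : Type u} [Group G] [Finite G] {A : Subgroup G} {θ φ : G → Subgroup G}
    (hle : ∀ a ∈ A, a ≠ 1 → φ a ≤ θ a) {a : G} (ha : a ∈ A) (ha1 : a ≠ 1) (hne : ¬ θ a ≤ φ a) :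
    thetaSize A φ < thetaSize A θ := by
  refine Finset.sum_lt_sum (fun b hb => ?_) ⟨a, mem_nonidPoints.2 ⟨ha, ha1⟩, ?_⟩
  · exact Nat.le_of_dvd Nat.card_pos
      (card_dvd_of_le (hle b (mem_nonidPoints.1 hb).1 (mem_nonidPoints.1 hb).2))
  · refine lt_of_le_of_ne (Nat.le_of_dvd Nat.card_pos (card_dvd_of_le (hle a ha ha1))) fun e => hne ?_
    exact (eq_of_le_of_card_ge (hle a ha ha1) e.ge).ge

/-- The statement proved by induction on `thetaSize`. -/
def CompleteBelow (p n : ℕ) : Prop :=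
  ∀ (G : Type u) [Group G] [Finite G] (A : Subgroup G) (θ : G → Subgroup G),
    Cfsg.IsElementaryAbelian p A → Nat.card A = p ^ 3 → Cfsg.IsSolvableSignalizerFunctor p A θ →
    thetaSize A θ < n → ∃ X ∈ signalizerFamily p A θ, ∀ a ∈ A, a ≠ 1 → θ a ≤ X

section Induction

variable {G : Type u} [Group G] [Finite G] {p : ℕ} [hp : Fact p.Prime] {A : Subgroup G}
  {θ : G → Subgroup G}

variable (hA : Cfsg.IsElementaryAbelian p A) (hA3 : Nat.card A = p ^ 3)
  (hθ : Cfsg.IsSolvableSignalizerFunctor p A θ) (ih : CompleteBelow.{u} p (thetaSize A θ))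

include hA hA3 hθ ih

/-- A nontrivial member normalised by every value gives a complete member. -/
theorem complete_of_normalized {N : Subgroup G} (hN : N ∈ signalizerFamily p A θ) (hN1 : N ≠ ⊥)
    (hn : ∀ a ∈ A, a ≠ 1 → θ a ≤ normalizer (N : Set G)) :
    ∃ X ∈ signalizerFamily p A θ, ∀ a ∈ A, a ≠ 1 → θ a ≤ X := by
  classical
  have hA2 : p ^ 2 ≤ Nat.card A := hA3 ▸ Nat.pow_le_pow_right hp.out.pos (by norm_num)
  set H := normalizer (N : Set G) with hH
  have hAH : A ≤ H := CfsgLib.Invol.family_normalizer hN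
  have hNH : N ≤ H := le_normalizer
  set N' := N.subgroupOf H with hN'
  haveI : N'.Normal := normal_in_normalizer
  set f := QuotientGroup.mk' N' with hf
  have hfs : Function.Surjective f := QuotientGroup.mk'_surjective N'
  set A' := A.subgroupOf H with hA'
  set θ' : H → Subgroup H := fun a => (θ (a : G)).subgroupOf H with hθ'
  have hA'e : Cfsg.IsElementaryAbelian p A' :=
    ⟨⟨⟨fun a b => Subtype.ext (Subtype.ext
      (CfsgLib.EABasic.comm_of_isElementaryAbelian hA a.2 b.2))⟩⟩, fun a ha => Subtype.ext (hA.2 _ ha)⟩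
  have hA'1 : ∀ {a : H}, a ≠ 1 → (a : G) ≠ 1 := fun ha e => ha (Subtype.ext e)
  have hθ'f : Cfsg.IsSolvableSignalizerFunctor p A' θ' := by
    refine ⟨⟨fun a ha ha1 x hx => ?_, fun a ha ha1 => ?_, fun a ha ha1 b hb x hx => ?_,
      fun a ha ha1 b hb hb1 x hx => ?_⟩, fun a ha ha1 => ?_⟩
    · exact mem_centralizer_singleton_iff.2
        (Subtype.ext (mem_centralizer_singleton_iff.1 (hθ.1.1 _ ha (hA'1 ha1) hx)))
    · show ¬ p ∣ Nat.card ((θ (a : G)).subgroupOf H)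
      rw [Nat.card_congr (subgroupOfEquivOfLe (hn (a : G) ha (hA'1 ha1))).toEquiv]
      exact hθ.1.2.1 _ ha (hA'1 ha1)
    · exact hθ.1.2.2.1 _ ha (hA'1 ha1) _ hb _ hx
    · exact hθ.1.2.2.2 _ ha (hA'1 ha1) _ hb (hA'1 hb1) ⟨hx.1,
        mem_centralizer_singleton_iff.2 (congrArg Subtype.val (mem_centralizer_singleton_iff.1 hx.2))⟩
    · exact CfsgLib.Coprime.isSolvable_congr (subgroupOfEquivOfLe (hn _ ha (hA'1 ha1))).symm
        (hθ.2 _ ha (hA'1 ha1))
  -- `A'` meets `N'` trivially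
  have hinj : ∀ a ∈ A', f a = 1 → a = 1 := by
    intro a ha e
    have haN : (a : G) ∈ N := (QuotientGroup.eq_one_iff a).1 e
    by_contra ha1
    refine hN.2.1 ?_
    rw [← orderOf_eq_prime (hA.2 (a : G) ha) (hA'1 ha1), ← orderOf_mk (a : G) haN]
    exact orderOf_dvd_natCard _
  have huniq : ∀ a ∈ A', ∀ b ∈ A', f a = f b → a = b := fun a ha b hb e =>
    inv_mul_eq_one.1 (hinj _ (mul_mem (inv_mem ha) hb) (by rw [map_mul, map_inv, e, inv_mul_cancel]))
  set B := A'.map f with hB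
  let φ : H ⧸ N' → Subgroup (H ⧸ N') := fun x =>
    ⨆ a : {a : H // a ∈ A' ∧ a ≠ 1 ∧ f a = x}, (θ' a).map f
  have hφ : ∀ a ∈ A', a ≠ 1 → φ (f a) = (θ' a).map f := by
    intro a ha ha1
    refine le_antisymm (iSup_le fun b => ?_)
      (le_iSup (fun b : {b : H // b ∈ A' ∧ b ≠ 1 ∧ f b = f a} => (θ' b).map f) ⟨a, ha, ha1, rfl⟩)
    rw [huniq _ b.2.1 _ ha b.2.2.2]
  have hBe : Cfsg.IsElementaryAbelian p B := by
    refine ⟨⟨⟨?_⟩⟩, ?_⟩
    · rintro ⟨_, a, ha, rfl⟩ ⟨_, b, hb, rfl⟩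
      refine Subtype.ext ?_
      show f a * f b = f b * f a
      rw [← map_mul, ← map_mul, CfsgLib.EABasic.comm_of_isElementaryAbelian hA'e ha hb]
    · rintro _ ⟨a, ha, rfl⟩
      rw [← map_pow, hA'e.2 a ha, map_one]
  have hB3 : Nat.card B = p ^ 3 := by
    rw [← hA3, hB, CfsgLib.PGroup.card_map_mk'_of_inf_eq_bot N',
      Nat.card_congr (subgroupOfEquivOfLe hAH).toEquiv]
    exact (eq_bot_iff_forall _).2 fun a ha => hinj a ha.1 ((QuotientGroup.eq_one_iff a).2 ha.2)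
  have hBpre : ∀ x ∈ B, x ≠ 1 → ∃ a ∈ A', a ≠ 1 ∧ f a = x := by
    rintro _ ⟨a, ha, rfl⟩ hx
    exact ⟨a, ha, fun e => hx (by rw [e, map_one]), rfl⟩
  have hφf : Cfsg.IsSolvableSignalizerFunctor p B φ := by
    refine ⟨⟨fun x hx hx1 => ?_, fun x hx hx1 => ?_, fun x hx hx1 y hy z hz => ?_,
      fun x hx hx1 y hy hy1 => ?_⟩, fun x hx hx1 => ?_⟩
    · obtain ⟨a, ha, ha1, rfl⟩ := hBpre x hx hx1
      rw [hφ a ha ha1]
      rintro _ ⟨z, hz, rfl⟩
      rw [mem_centralizer_singleton_iff, ← map_mul, ← map_mul,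
        mem_centralizer_singleton_iff.1 (hθ'f.1.1 a ha ha1 hz)]
    · obtain ⟨a, ha, ha1, rfl⟩ := hBpre x hx hx1
      rw [hφ a ha ha1]
      exact fun hd => hθ'f.1.2.1 a ha ha1 (hd.trans (CfsgLib.Coprime.card_map_dvd_card f _))
    · obtain ⟨a, ha, ha1, rfl⟩ := hBpre x hx hx1
      obtain ⟨b, hb, rfl⟩ := hy
      rw [hφ a ha ha1] at hz ⊢
      obtain ⟨w, hw, rfl⟩ := hz
      exact ⟨b * w * b⁻¹, hθ'f.1.2.2.1 a ha ha1 b hb w hw, by rw [map_mul, map_mul, map_inv]⟩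
    · obtain ⟨a, ha, ha1, rfl⟩ := hBpre x hx hx1
      obtain ⟨b, hb, hb1, rfl⟩ := hBpre y hy hy1
      rw [hφ a ha ha1, hφ b hb hb1]
      exact CfsgLib.Invol.quotient_balance hA'e hθ'f N' ha ha1 hb hb1
    · obtain ⟨a, ha, ha1, rfl⟩ := hBpre x hx hx1
      rw [hφ a ha ha1]
      haveI := hθ'f.2 a ha ha1
      exact Group.isSolvable_of_surjective (f.subgroupMap_surjective (θ' a))
  -- the sum drops
  obtain ⟨a₀, ha₀, ha₀1, hmeet⟩ : ∃ a ∈ A, a ≠ 1 ∧ ¬ N ⊓ centralizer ({a} : Set G) ≤ ⊥ := by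
    by_contra hall
    push Not at hall
    exact hN1 (le_bot_iff.1 (le_of_fixed_points hA hA2 (CfsgLib.Invol.family_normalizer hN) hN.2.1 hall))
  have hlt : thetaSize B φ < thetaSize A θ := by
    have hsum : thetaSize B φ = ∑ a ∈ nonidPoints A,
        Nat.card (if ha : a ∈ H then φ (f ⟨a, ha⟩) else ⊥ : Subgroup (H ⧸ N')) := by
      refine (Finset.sum_bij' (fun a ha => f ⟨a, hAH (mem_nonidPoints.1 ha).1⟩)
        (fun x hx => ((hBpre x (mem_nonidPoints.1 hx).1 (mem_nonidPoints.1 hx).2).choose : H))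
        (fun a ha => ?_) (fun x hx => ?_) (fun a ha => ?_) (fun x hx => ?_) (fun a ha => ?_)).symm
      · exact mem_nonidPoints.2 ⟨mem_map_of_mem f (mem_subgroupOf.2 (mem_nonidPoints.1 ha).1),
          fun e => (mem_nonidPoints.1 ha).2
            (congrArg Subtype.val (hinj _ (mem_subgroupOf.2 (mem_nonidPoints.1 ha).1) e))⟩
      · obtain ⟨h1, h2, -⟩ := (hBpre x (mem_nonidPoints.1 hx).1 (mem_nonidPoints.1 hx).2).choose_spec
        exact mem_nonidPoints.2 ⟨h1, hA'1 h2⟩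
      · have hx : f ⟨a, hAH (mem_nonidPoints.1 ha).1⟩ ∈ B ∧ f ⟨a, hAH (mem_nonidPoints.1 ha).1⟩ ≠ 1 :=
          ⟨mem_map_of_mem f (mem_subgroupOf.2 (mem_nonidPoints.1 ha).1),
            fun e => (mem_nonidPoints.1 ha).2
              (congrArg Subtype.val (hinj _ (mem_subgroupOf.2 (mem_nonidPoints.1 ha).1) e))⟩
        obtain ⟨h1, -, h3⟩ := (hBpre _ hx.1 hx.2).choose_spec
        exact congrArg Subtype.val (huniq _ h1 _ (mem_subgroupOf.2 (mem_nonidPoints.1 ha).1) h3)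
      · obtain ⟨h1, -, h3⟩ := (hBpre x (mem_nonidPoints.1 hx).1 (mem_nonidPoints.1 hx).2).choose_spec
        exact h3
      · rw [dif_pos (hAH (mem_nonidPoints.1 ha).1)]
    rw [hsum]
    refine Finset.sum_lt_sum (fun a ha => ?_) ⟨a₀, mem_nonidPoints.2 ⟨ha₀, ha₀1⟩, ?_⟩
    · obtain ⟨haA, ha1⟩ := mem_nonidPoints.1 ha
      rw [dif_pos (hAH haA), hφ _ haA fun e => ha1 (congrArg Subtype.val e),
        ← Nat.card_congr (subgroupOfEquivOfLe (hn a haA ha1)).toEquiv]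
      exact Nat.le_of_dvd Nat.card_pos (CfsgLib.Coprime.card_map_dvd_card f _)
    · have hne : (⟨a₀, hAH ha₀⟩ : H) ≠ 1 := fun e => ha₀1 (congrArg Subtype.val e)
      rw [dif_pos (hAH ha₀), hφ _ ha₀ hne,
        ← Nat.card_congr (subgroupOfEquivOfLe (hn a₀ ha₀ ha₀1)).toEquiv]
      refine lt_of_le_of_ne (Nat.le_of_dvd Nat.card_pos (CfsgLib.Coprime.card_map_dvd_card f _))
        fun e => hmeet fun x hx => ?_
      have hxθ : x ∈ θ a₀ := hN.2.2.2 a₀ ha₀ ha₀1 hx
      have hbij := Function.Surjective.bijective_of_nat_card_le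
        (f.subgroupMap_surjective (θ' ⟨a₀, hAH ha₀⟩)) e.ge
      have h1 := @hbij.1 ⟨⟨x, hn a₀ ha₀ ha₀1 hxθ⟩, hxθ⟩ 1 (Subtype.ext (by
        rw [MonoidHom.subgroupMap_apply_coe, map_one, OneMemClass.coe_one]
        exact (QuotientGroup.eq_one_iff _).2 hx.1))
      exact mem_bot.2 (congrArg (fun z : θ' ⟨a₀, hAH ha₀⟩ => ((z : H) : G)) h1)
  obtain ⟨X₀, hX₀, hX₀θ⟩ := ih (H ⧸ N') B φ hBe hB3 hφf hlt
  set X := (X₀.comap f).map H.subtype with hX
  have hXH : X ≤ H := map_subtype_le _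
  have hker : N' ≤ X₀.comap f := fun x hx => by
    rw [mem_comap, show f x = 1 from (QuotientGroup.eq_one_iff x).2 hx]; exact one_mem _
  refine ⟨X, ⟨?_, ?_, ?_, ?_⟩, fun a ha ha1 x hx => ?_⟩
  · haveI := hX₀.1
    haveI : Group.IsSolvable N' := CfsgLib.Coprime.isSolvable_congr (subgroupOfEquivOfLe hNH).symm hN.1
    have hs : Group.IsSolvable (X₀.comap f) := Group.isSolvable_of_ker_le_range
      (Subgroup.inclusion hker) (f.subgroupComap X₀) (fun x hx => by
        refine ⟨⟨x, (QuotientGroup.eq_one_iff _).1 ?_⟩, Subtype.ext rfl⟩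
        exact congrArg Subtype.val (MonoidHom.mem_ker.1 hx))
    exact CfsgLib.Coprime.isSolvable_congr
      ((X₀.comap f).equivMapOfInjective H.subtype H.subtype_injective) hs
  · rw [hX, card_map_of_injective H.subtype_injective,
      CfsgLib.Coprime.card_eq_card_mul_card_map_mk' N' hker, map_comap_eq_self_of_surjective hfs,
      Nat.card_congr (subgroupOfEquivOfLe hNH).toEquiv]
    exact fun hd => (hp.out.dvd_mul.1 hd).elim hN.2.1 hX₀.2.1
  · rintro b hb _ ⟨x, hx, rfl⟩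
    refine ⟨⟨b, hAH hb⟩ * x * ⟨b, hAH hb⟩⁻¹, ?_, rfl⟩
    rw [SetLike.mem_coe, mem_comap, map_mul, map_mul, map_inv]
    exact hX₀.2.2.1 _ (mem_map_of_mem f (mem_subgroupOf.2 hb)) _ hx
  · intro a ha ha1
    rintro _ ⟨⟨x, hx, rfl⟩, hxa⟩
    have hne : (⟨a, hAH ha⟩ : H) ≠ 1 := fun e => ha1 (congrArg Subtype.val e)
    have hfne : f ⟨a, hAH ha⟩ ≠ 1 := fun e => hne (hinj _ (mem_subgroupOf.2 ha) e)
    have h1 := hX₀.2.2.2 _ (mem_map_of_mem f (mem_subgroupOf.2 ha)) hfne (mem_inf.2 ⟨hx, mem_centralizer_singleton_iff.2 (by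
      rw [← map_mul, ← map_mul]
      exact congrArg f (Subtype.ext (mem_centralizer_singleton_iff.1 hxa)))⟩)
    rw [hφ _ (mem_subgroupOf.2 ha) hne] at h1
    obtain ⟨y, hy, hxy⟩ := h1
    have hd : y⁻¹ * x ∈ N' := QuotientGroup.eq.1 hxy
    have h2 : ((y⁻¹ * x : H) : G) ∈ θ a := hN.2.2.2 a ha ha1 (mem_inf.2 ⟨hd,
      mul_mem (inv_mem (hθ.1.1 a ha ha1 hy)) (show (x : G) ∈ centralizer ({a} : Set G) from hxa)⟩)
    have := mul_mem (show (y : G) ∈ θ a from hy) h2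
    simpa using this
  · have hne : (⟨a, hAH ha⟩ : H) ≠ 1 := fun e => ha1 (congrArg Subtype.val e)
    have hfne : f ⟨a, hAH ha⟩ ≠ 1 := fun e => hne (hinj _ (mem_subgroupOf.2 ha) e)
    refine ⟨⟨x, hn a ha ha1 hx⟩, hX₀θ _ (mem_map_of_mem f (mem_subgroupOf.2 ha)) hfne ?_, rfl⟩
    rw [hφ _ (mem_subgroupOf.2 ha) hne]
    exact mem_map_of_mem f hx

/-- The hypotheses of a context hold at a counterexample of least sum. -/
theorem exists_complete_step : ∃ X ∈ signalizerFamily p A θ, ∀ a ∈ A, a ≠ 1 → θ a ≤ X := by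
  classical
  by_contra hno
  have hA2 : p ^ 2 ≤ Nat.card A := hA3 ▸ Nat.pow_le_pow_right hp.out.pos (by norm_num)
  have hnn : ∀ N ∈ signalizerFamily p A θ,
      (∀ a ∈ A, a ≠ 1 → θ a ≤ normalizer (N : Set G)) → N = ⊥ := fun N hN hn => by
    by_contra hN1
    exact hno (complete_of_normalized hA hA3 hθ ih hN hN1 hn)
  refine SFCtx.false (p := p) (A := A) (θ := θ) ⟨hA, hA3, hθ, hno, fun N hN hN1 => ?_, hnn, fun π hπ => ?_⟩
  · -- the values normalising `N`
    set φ : G → Subgroup G := fun a => θ a ⊓ normalizer (N : Set G) with hφ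
    have hAN : A ≤ normalizer (normalizer (N : Set G) : Set G) :=
      le_normalizer_normalizer_of (CfsgLib.Invol.family_normalizer hN)
    have hφf : Cfsg.IsSolvableSignalizerFunctor p A φ :=
      ⟨⟨fun a ha ha1 => inf_le_left.trans (hθ.1.1 a ha ha1),
        fun a ha ha1 hd => hθ.1.2.1 a ha ha1 (hd.trans (card_dvd_of_le inf_le_left)),
        fun a ha ha1 b hb x hx => CfsgLib.Coprime.conj_mem_of_le_normalizer (CfsgLib.Coprime.inf_le_normalizer
          (CfsgLib.Invol.family_normalizer (CfsgLib.Invol.theta_mem_family hθ ha ha1)) hAN) hb hx,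
        fun a ha ha1 b hb hb1 x hx =>
          mem_inf.2 ⟨hθ.1.2.2.2 a ha ha1 b hb hb1 ⟨hx.1.1, hx.2⟩, hx.1.2⟩⟩,
        fun a ha ha1 => CfsgLib.Coprime.isSolvable_of_le inf_le_left (hθ.2 a ha ha1)⟩
    obtain ⟨a₀, ha₀, ha₀1, hne⟩ : ∃ a ∈ A, a ≠ 1 ∧ ¬ θ a ≤ φ a := by
      by_contra hall
      push Not at hall
      exact hN1 (hnn N hN fun a ha ha1 => (hall a ha ha1).trans inf_le_right)
    obtain ⟨X, hX, hXφ⟩ := ih G A φ hA hA3 hφf
      (thetaSize_lt (fun a _ _ => inf_le_left) ha₀ ha₀1 hne)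
    have hXm : X ∈ signalizerFamily p A θ :=
      ⟨hX.1, hX.2.1, hX.2.2.1, fun a ha ha1 => (hX.2.2.2 a ha ha1).trans inf_le_left⟩
    have hM : X ⊓ normalizer (N : Set G) ∈ signalizerFamily p A θ :=
      CfsgLib.Invol.mem_family_of_le hXm inf_le_left
        (CfsgLib.Coprime.inf_le_normalizer (CfsgLib.Invol.family_normalizer hXm) hAN)
    refine ⟨N ⊔ (X ⊓ normalizer (N : Set G)), sup_mem_of hA hN hM inf_le_right, le_sup_left,
      sup_le le_normalizer inf_le_right, fun Y hY hYN => le_trans (le_inf ?_ hYN) le_sup_right⟩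
    exact le_of_fixed_points hA hA2 (CfsgLib.Invol.family_normalizer hY) hY.2.1 fun a ha ha1 x hx =>
      hXφ a ha ha1 ⟨hY.2.2.2 a ha ha1 hx, hYN hx.1⟩
  · -- the `π`-parts
    obtain ⟨a₀, ha₀, ha₀1, hne⟩ := hπ
    obtain ⟨X, hX, hXφ⟩ := ih G A (piPart π A θ) hA hA3 (piPart_functor hA hθ)
      (thetaSize_lt (fun a _ _ => piPart_le) ha₀ ha₀1
        fun hle => hne ((piPart_isPiNum hA hθ ha₀ ha₀1).of_dvd (card_dvd_of_le hle)))
    set K := ⨆ a : {a : G // a ∈ A ∧ a ≠ 1}, piPart π A θ (a : G) with hK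
    have hKX : K ≤ X := iSup_le fun a => hXφ a a.2.1 a.2.2
    have hAK : A ≤ normalizer (K : Set G) :=
      le_normalizer_iSup_of fun a => A_normalizes_piPart hA hθ a.2.1 a.2.2
    have hKφ : K ∈ signalizerFamily p A (piPart π A θ) := CfsgLib.Invol.mem_family_of_le hX hKX hAK
    refine ⟨K, ⟨hKφ.1, hKφ.2.1, hKφ.2.2.1, fun a ha ha1 => (hKφ.2.2.2 a ha ha1).trans piPart_le⟩, ?_,
      le_normalizer_iSup_of fun a => inf_normalizes_piPart hA hθ a.2.1 a.2.2, fun Y hY hYπ hYC => ?_⟩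
    · intro r hr hd
      haveI := Fact.mk hr
      obtain ⟨S, hS, hSA⟩ := CfsgLib.Coprime.exists_invariant_sylow hAK
        (CfsgLib.Invol.coprime_card_of_not_dvd (CfsgLib.Invol.isPGroup_of_isElementaryAbelian hA) hKφ.2.1)
        (Or.inl (CfsgLib.Coprime.isSolvable_of_isMulCommutative hA.1)) r
      by_contra hrπ
      have hSb : S ≤ ⊥ := le_of_fixed_points hA hA2 hSA
        (fun hd' => hKφ.2.1 (hd'.trans (card_dvd_of_le hS.1))) fun a ha ha1 => by
          obtain ⟨k, hk⟩ := IsPGroup.iff_card.1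
            (hS.isPGroup.to_le (inf_le_left : S ⊓ centralizer ({a} : Set G) ≤ S))
          rcases k with - | k
          · exact (card_eq_one.1 (hk.trans (pow_zero r))).le
          · exact absurd (piPart_isPiNum hA hθ ha ha1 r hr (((dvd_pow_self r (Nat.succ_ne_zero k)).trans
              hk.symm.dvd).trans (card_dvd_of_le ((inf_le_inf_right _ hS.1).trans (hKφ.2.2.2 a ha ha1))))) hrπ
      have h1 := hS.2
      rw [le_bot_iff.1 hSb, card_bot] at h1
      have h2 := hr.factorization_pos_of_dvd Nat.card_pos.ne' hd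
      exact (Nat.one_lt_pow h2.ne' hr.one_lt).ne h1
    · refine le_of_fixed_points hA hA2 (CfsgLib.Invol.family_normalizer hY) hY.2.1 fun a ha ha1 => ?_
      refine le_trans ?_ (le_iSup (fun a : {a : G // a ∈ A ∧ a ≠ 1} => piPart π A θ (a : G)) ⟨a, ha, ha1⟩)
      exact le_piPart hA hθ ha ha1 (hY.2.2.2 a ha ha1)
        (CfsgLib.Coprime.inf_le_normalizer (CfsgLib.Invol.family_normalizer hY) (A_normalizes_centralizer hA ha))
        (CfsgLib.Coprime.inf_le_normalizer hYC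
          (((CfsgLib.Invol.signalizerInf_le_theta ha ha1).trans (hθ.1.1 a ha ha1)).trans le_normalizer))
        (hYπ.of_dvd (card_dvd_of_le inf_le_left))

end Induction

/-- The solvable signalizer functor theorem. -/
theorem exists_complete {G : Type u} [Group G] [Finite G] {p : ℕ} [hp : Fact p.Prime] {A : Subgroup G}
    {θ : G → Subgroup G} (hA : Cfsg.IsElementaryAbelian p A) (hA3 : p ^ 3 ≤ Nat.card A)
    (hθ : Cfsg.IsSolvableSignalizerFunctor p A θ) :
    ∃ X ∈ signalizerFamily p A θ, ∀ a ∈ A, a ≠ 1 → θ a ≤ X := by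
  classical
  have hall : ∀ n, CompleteBelow.{u} p n := by
    intro n
    induction n with
    | zero => exact fun _ _ _ _ _ _ _ _ h => absurd h (Nat.not_lt_zero _)
    | succ n ihn =>
      intro H _ _ B φ hB hB3 hφ hlt
      refine exists_complete_step hB hB3 hφ ?_
      intro H' _ _ B' φ' hB' hB3' hφ' hlt'
      exact ihn H' B' φ' hB' hB3' hφ' (by omega)
  -- a subgroup of order `p ^ 3`
  obtain ⟨k, hk⟩ := IsPGroup.iff_card.1 (CfsgLib.Invol.isPGroup_of_isElementaryAbelian hA)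
  have hk3 : 3 ≤ k := (Nat.pow_le_pow_iff_right hp.out.one_lt).1 (hk ▸ hA3)
  obtain ⟨S, hS⟩ := Sylow.exists_subgroup_card_pow_prime (G := A) p (n := 3)
    (hk ▸ pow_dvd_pow p hk3)
  set B := S.map A.subtype with hB
  have hBA : B ≤ A := map_subtype_le S
  have hBe : Cfsg.IsElementaryAbelian p B :=
    ⟨⟨⟨fun a b => Subtype.ext (CfsgLib.EABasic.comm_of_isElementaryAbelian hA (hBA a.2) (hBA b.2))⟩⟩,
      fun a ha => hA.2 a (hBA ha)⟩
  have hB3 : Nat.card B = p ^ 3 := by rw [hB, card_map_of_injective A.subtype_injective, hS]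
  have hθB : Cfsg.IsSolvableSignalizerFunctor p B θ :=
    ⟨⟨fun a ha => hθ.1.1 a (hBA ha), fun a ha => hθ.1.2.1 a (hBA ha),
      fun a ha ha1 b hb => hθ.1.2.2.1 a (hBA ha) ha1 b (hBA hb),
      fun a ha ha1 b hb => hθ.1.2.2.2 a (hBA ha) ha1 b (hBA hb)⟩, fun a ha => hθ.2 a (hBA ha)⟩
  obtain ⟨X, hX, hXθ⟩ := hall (thetaSize B θ + 1) G B θ hBe hB3 hθB (Nat.lt_succ_self _)
  have hB2 : p ^ 2 ≤ Nat.card B := hB3 ▸ Nat.pow_le_pow_right hp.out.pos (by norm_num)
  set W := ⨆ b : {b : G // b ∈ B ∧ b ≠ 1}, θ (b : G) with hW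
  have hWX : W ≤ X := iSup_le fun b => hXθ b b.2.1 b.2.2
  have hWθ : ∀ b ∈ B, b ≠ 1 → θ b ≤ W := fun b hb hb1 =>
    le_iSup (fun b : {b : G // b ∈ B ∧ b ≠ 1} => θ (b : G)) ⟨b, hb, hb1⟩
  have hAW : A ≤ normalizer (W : Set G) := le_normalizer_iSup_of fun b =>
    CfsgLib.Invol.family_normalizer (CfsgLib.Invol.theta_mem_family hθ (hBA b.2.1) b.2.2)
  refine ⟨W, ⟨CfsgLib.Coprime.isSolvable_of_le hWX hX.1, fun hd => hX.2.1 (hd.trans (card_dvd_of_le hWX)),
    fun b hb x hx => CfsgLib.Coprime.conj_mem_of_le_normalizer hAW hb hx, fun a ha ha1 => ?_⟩,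
    fun a ha ha1 => ?_⟩
  · refine le_of_fixed_points hBe hB2 ?_
      (fun hd => hX.2.1 (hd.trans (card_dvd_of_le (inf_le_left.trans hWX)))) fun b hb hb1 x hx => ?_
    · exact CfsgLib.Coprime.inf_le_normalizer (hBA.trans hAW)
        (hBA.trans (A_normalizes_centralizer hA ha))
    · exact hθ.1.2.2.2 b (hBA hb) hb1 a ha ha1 ⟨hX.2.2.2 b hb hb1 ⟨hWX hx.1.1, hx.2⟩, hx.1.2⟩
  · refine le_of_fixed_points hBe hB2
      (hBA.trans (CfsgLib.Invol.family_normalizer (CfsgLib.Invol.theta_mem_family hθ ha ha1)))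
      (hθ.1.2.1 a ha ha1) fun b hb hb1 => ?_
    exact (hθ.1.2.2.2 a ha ha1 b (hBA hb) hb1).trans (hWθ b hb hb1)

end CfsgLib.SolvSignalizer
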