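import Cfsg.Prelude.Def_Transfer
import Cfsg.Agent.Lib.Coprime.Action
import Cfsg.Agent.Lib.Coprime.Hyperplanes
import Cfsg.Agent.Lib.PGroup.ElementaryBasic
import Mathlib.GroupTheory.PGroup

/-!
# An elementary abelian subgroup and the groups normalising it

`mv V g` is the subgroup of displacements `g v g⁻¹ v⁻¹`, so that `|mv V g| · |C_V(g)| = |V|`.
-/

set_option autoImplicit false
set_option linter.style.haveILetI false
set_option linter.unusedSectionVars false

open Subgroup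

namespace CfsgLib.SolvSignalizer

universe u

variable {G : Type u} [Group G]

/-- The displacements of `g` on `V`. -/
def mv (V : Subgroup G) (g : G) : Subgroup G :=
  closure {x | ∃ v ∈ V, g * v * g⁻¹ * v⁻¹ = x}

theorem mem_mv {V : Subgroup G} {g v : G} (hv : v ∈ V) : g * v * g⁻¹ * v⁻¹ ∈ mv V g :=
  subset_closure ⟨v, hv, rfl⟩

theorem mv_le {V : Subgroup G} {g : G} (hg : g ∈ normalizer (V : Set G)) : mv V g ≤ V := by
  refine (closure_le _).2 ?_
  rintro x ⟨v, hv, rfl⟩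
  exact mul_mem ((mem_normalizer_iff.1 hg v).1 hv) (inv_mem hv)

theorem mv_mono {V W : Subgroup G} (h : W ≤ V) (g : G) : mv W g ≤ mv V g := by
  refine (closure_le _).2 ?_
  rintro x ⟨v, hv, rfl⟩
  exact mem_mv (h hv)

theorem comm_of_elem {q : ℕ} {V : Subgroup G} (hV : Cfsg.IsElementaryAbelian q V) {a b : G}
    (ha : a ∈ V) (hb : b ∈ V) : a * b = b * a :=
  congrArg Subtype.val (hV.1.is_comm.comm (⟨a, ha⟩ : V) ⟨b, hb⟩)

/-- The displacement homomorphism. -/
def dsp {q : ℕ} {V : Subgroup G} (hV : Cfsg.IsElementaryAbelian q V) {g : G}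
    (hg : g ∈ normalizer (V : Set G)) : V →* V where
  toFun v := ⟨g * v * g⁻¹ * (v : G)⁻¹, mul_mem ((mem_normalizer_iff.1 hg v).1 v.2) (inv_mem v.2)⟩
  map_one' := Subtype.ext (by simp)
  map_mul' a b := by
    apply Subtype.ext
    show g * ((a : G) * b) * g⁻¹ * ((a : G) * b)⁻¹ =
      (g * a * g⁻¹ * (a : G)⁻¹) * (g * b * g⁻¹ * (b : G)⁻¹)
    have h : (a : G)⁻¹ * (g * b * g⁻¹ * (b : G)⁻¹) = (g * b * g⁻¹ * (b : G)⁻¹) * (a : G)⁻¹ :=
      comm_of_elem hV (inv_mem a.2) (mul_mem ((mem_normalizer_iff.1 hg b).1 b.2) (inv_mem b.2))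
    calc g * ((a : G) * b) * g⁻¹ * ((a : G) * b)⁻¹
        = g * a * g⁻¹ * ((g * b * g⁻¹ * (b : G)⁻¹) * (a : G)⁻¹) := by group
      _ = g * a * g⁻¹ * ((a : G)⁻¹ * (g * b * g⁻¹ * (b : G)⁻¹)) := by rw [h]
      _ = _ := by group

theorem mv_eq_range {q : ℕ} {V : Subgroup G} (hV : Cfsg.IsElementaryAbelian q V) {g : G}
    (hg : g ∈ normalizer (V : Set G)) : mv V g = (dsp hV hg).range.map V.subtype := by
  refine le_antisymm ((closure_le _).2 ?_) ?_
  · rintro x ⟨v, hv, rfl⟩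
    exact ⟨dsp hV hg ⟨v, hv⟩, ⟨⟨v, hv⟩, rfl⟩, rfl⟩
  · rintro x ⟨_, ⟨v, rfl⟩, rfl⟩
    exact mem_mv v.2

theorem exists_of_mem_mv {q : ℕ} {V : Subgroup G} (hV : Cfsg.IsElementaryAbelian q V) {g : G}
    (hg : g ∈ normalizer (V : Set G)) {x : G} (hx : x ∈ mv V g) :
    ∃ v ∈ V, g * v * g⁻¹ * v⁻¹ = x := by
  rw [mv_eq_range hV hg] at hx
  obtain ⟨_, ⟨v, rfl⟩, rfl⟩ := hx
  exact ⟨v, v.2, rfl⟩

theorem ker_dsp {q : ℕ} {V : Subgroup G} (hV : Cfsg.IsElementaryAbelian q V) {g : G}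
    (hg : g ∈ normalizer (V : Set G)) :
    (dsp hV hg).ker = (V ⊓ centralizer ({g} : Set G)).subgroupOf V := by
  ext v
  rw [MonoidHom.mem_ker, mem_subgroupOf, mem_inf, mem_centralizer_singleton_iff]
  constructor
  · intro h
    have e : g * v * g⁻¹ * (v : G)⁻¹ = 1 := congrArg Subtype.val h
    exact ⟨v.2, (mul_inv_eq_iff_eq_mul.1 (mul_inv_eq_one.1 e)).symm⟩
  · rintro ⟨-, h⟩
    apply Subtype.ext
    show g * v * g⁻¹ * (v : G)⁻¹ = 1
    rw [← h, mul_inv_cancel_right, mul_inv_cancel]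

theorem card_mv_mul [Finite G] {q : ℕ} {V : Subgroup G} (hV : Cfsg.IsElementaryAbelian q V)
    {g : G} (hg : g ∈ normalizer (V : Set G)) :
    Nat.card (mv V g) * Nat.card (V ⊓ centralizer ({g} : Set G) : Subgroup G) = Nat.card V := by
  rw [mv_eq_range hV hg,
    ← Nat.card_congr ((dsp hV hg).range.equivMapOfInjective V.subtype V.subtype_injective).toEquiv,
    ← Nat.card_congr (QuotientGroup.quotientKerEquivRange (dsp hV hg)).toEquiv, ker_dsp hV hg,
    ← Nat.card_congr (subgroupOfEquivOfLe (inf_le_left : V ⊓ centralizer ({g} : Set G) ≤ V)).toEquiv]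
  exact (card_eq_card_quotient_mul_card_subgroup _).symm

theorem mv_eq_bot_iff {V : Subgroup G} {g : G} :
    mv V g = ⊥ ↔ g ∈ centralizer (V : Set G) := by
  rw [mv, closure_eq_bot_iff, mem_centralizer_iff]
  constructor
  · intro h v hv
    have e : g * v * g⁻¹ * v⁻¹ = 1 := h ⟨v, hv, rfl⟩
    exact (mul_inv_eq_iff_eq_mul.1 (mul_inv_eq_one.1 e)).symm
  · rintro h x ⟨v, hv, rfl⟩
    simp [← h v hv]

theorem relIndex_centralizer_pair_le [Finite G] {V : Subgroup G} (a b : G) :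
    (centralizer ({a, b} : Set G)).relIndex V ≤
      (centralizer ({a} : Set G)).relIndex V * (centralizer ({b} : Set G)).relIndex V := by
  have h : centralizer ({a, b} : Set G) = centralizer ({a} : Set G) ⊓ centralizer ({b} : Set G) := by
    ext x
    simp only [mem_inf, mem_centralizer_iff, Set.mem_insert_iff, Set.mem_singleton_iff,
      forall_eq_or_imp, forall_eq]
  rw [h]
  exact relIndex_inf_le

/-- A `q`-group normalising a nontrivial `q`-group fixes a nontrivial element of it. -/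
theorem exists_fixed_ne_one [Finite G] {q : ℕ} [hq : Fact q.Prime] {W R : Subgroup G}
    (hW : IsPGroup q W) (hR : IsPGroup q R) (hRW : R ≤ normalizer (W : Set G)) (h : W ≠ ⊥) :
    W ⊓ centralizer (R : Set G) ≠ ⊥ := by
  let act : MulAction R W :=
    { smul := fun r w => ⟨r * w * (r : G)⁻¹, (mem_normalizer_iff.1 (hRW r.2) w).1 w.2⟩
      one_smul := fun w => Subtype.ext (by show (1 : G) * w * (1 : G)⁻¹ = w; simp)
      mul_smul := fun r s w => Subtype.ext (by
        show (r * s : G) * w * (r * s : G)⁻¹ = r * (s * w * (s : G)⁻¹) * (r : G)⁻¹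
        group) }
  have h1 := hR.card_modEq_card_fixedPoints W
  have h2 : q ∣ Nat.card W := by
    haveI : Nontrivial W := (Subgroup.nontrivial_iff_ne_bot W).2 h
    obtain ⟨n, hn, e⟩ := hW.nontrivial_iff_card.1 inferInstance
    exact e ▸ dvd_pow_self q hn.ne'
  intro hbot
  have h3 : MulAction.fixedPoints R W = {1} := by
    ext w
    constructor
    · intro hw
      have hmem : (w : G) ∈ W ⊓ centralizer (R : Set G) := mem_inf.2 ⟨w.2,
        mem_centralizer_iff.2 fun r hr => mul_inv_eq_iff_eq_mul.1 (congrArg Subtype.val (hw ⟨r, hr⟩))⟩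
      exact Subtype.ext (mem_bot.1 (hbot ▸ hmem))
    · rintro rfl r
      exact Subtype.ext (by show (r : G) * 1 * (r : G)⁻¹ = 1; simp)
  have h4 : Nat.card (MulAction.fixedPoints R W) = 1 := by
    rw [h3]; exact Nat.card_unique
  rw [h4] at h1
  have h5 : (q : ℕ) ∣ 1 := Nat.modEq_zero_iff_dvd.1 (h1.symm.trans (Nat.modEq_zero_iff_dvd.2 h2))
  exact hq.out.one_lt.ne' (Nat.dvd_one.1 h5)

end CfsgLib.SolvSignalizer
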