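import Cfsg.Agent.Lib.SolvSignalizer.Root
import Cfsg.Agent.Lib.PGroup.PqCore
import Cfsg.Agent.Lib.CFun.OddZgroupLength

/-!
# The pieces of an elementary group under an elementary group of coprime order

For a hyperplane `H` of `T`, `atom V T H` is the part of `[V, T]` fixed by `H`.
-/

set_option autoImplicit false
set_option linter.style.haveILetI false
set_option linter.unusedSectionVars false

open Subgroup
open CfsgLib.Coprime (conj_mem_of_le_normalizer)

namespace CfsgLib.SolvSignalizer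

universe u

variable {G : Type u} [Group G]

/-- The part of `[V, T]` fixed by `H`. -/
def atom (V T H : Subgroup G) : Subgroup G := ⁅V, T⁆ ⊓ centralizer (H : Set G)

/-- `H` is a hyperplane of the elementary `r`-group `T`. -/
def IsHyp (r : ℕ) (T H : Subgroup G) : Prop := H ≤ T ∧ H.relIndex T = r

/-- `g` induces the power `m` on `T` modulo `H`. -/
def Acts {r : ℕ} (T H : Subgroup G) (g : G) (m : ZMod r) : Prop :=
  ∀ t ∈ T, (t ^ m.val)⁻¹ * (g * t * g⁻¹) ∈ H

/-- The atoms of all hyperplanes other than `H`. -/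
def others (r : ℕ) (V T H : Subgroup G) : Subgroup G :=
  ⨆ H' : {H' : Subgroup G // IsHyp r T H' ∧ H' ≠ H}, atom V T (H' : Subgroup G)

theorem atom_le_others {r : ℕ} {V T H H' : Subgroup G} (h' : IsHyp r T H') (hne : H' ≠ H) :
    atom V T H' ≤ others r V T H :=
  le_iSup (fun K : {K : Subgroup G // IsHyp r T K ∧ K ≠ H} => atom V T (K : Subgroup G)) ⟨H', h', hne⟩

theorem card_le_card_mv [Finite G] {q : ℕ} {V M : Subgroup G} (hV : Cfsg.IsElementaryAbelian q V)
    {g : G} (hg : g ∈ normalizer (V : Set G)) (hM : M ≤ V)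
    (hf : M ⊓ centralizer ({g} : Set G) = ⊥) : Nat.card M ≤ Nat.card (mv V g) := by
  refine Nat.card_le_card_of_injective (fun w : M => (⟨g * w * g⁻¹ * (w : G)⁻¹, mem_mv (hM w.2)⟩ : mv V g)) ?_
  intro a b hab
  have e : dsp hV hg ⟨a, hM a.2⟩ = dsp hV hg ⟨b, hM b.2⟩ :=
    Subtype.ext (congrArg Subtype.val hab : g * (a : G) * g⁻¹ * (a : G)⁻¹ = _)
  have e2 : (⟨a, hM a.2⟩ : V) * (⟨b, hM b.2⟩ : V)⁻¹ ∈ (dsp hV hg).ker := by
    rw [MonoidHom.mem_ker, map_mul, map_inv, e, mul_inv_cancel]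
  rw [ker_dsp hV hg, mem_subgroupOf] at e2
  have hmem : (a : G) * (b : G)⁻¹ ∈ M ⊓ centralizer ({g} : Set G) :=
    mem_inf.2 ⟨mul_mem a.2 (inv_mem b.2), (mem_inf.1 e2).2⟩
  rw [hf, mem_bot, mul_inv_eq_one] at hmem
  exact Subtype.ext hmem

theorem card_mv_mul_card_mv_le [Finite G] {q : ℕ} {V W₁ W₂ : Subgroup G}
    (hV : Cfsg.IsElementaryAbelian q V) {g : G} (h₁V : W₁ ≤ V) (h₂V : W₂ ≤ V)
    (h₁ : g ∈ normalizer (W₁ : Set G)) (h₂ : g ∈ normalizer (W₂ : Set G)) (hd : W₁ ⊓ W₂ = ⊥) :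
    Nat.card (mv W₁ g) * Nat.card (mv W₂ g) ≤ Nat.card (mv V g) := by
  rw [← CfsgLib.CFun.ZLen.card_sup_eq ?_
    (le_bot_iff.1 ((inf_le_inf (mv_le h₁) (mv_le h₂)).trans hd.le))]
  · exact card_le_of_le (sup_le (mv_mono h₁V g) (mv_mono h₂V g))
  · intro x hx
    refine CfsgLib.Coprime.centralizer_le_normalizer_self _ (mem_centralizer_iff.2 fun y hy => ?_)
    exact comm_of_elem hV (h₁V (mv_le h₁ hy)) (h₂V (mv_le h₂ hx))

section Acts

variable {r : ℕ} [hr : Fact r.Prime] {T H : Subgroup G} (hT : Cfsg.IsElementaryAbelian r T)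
  (hH : IsHyp r T H)

include hT hH

theorem IsHyp.sup_zpowers [Finite G] {t : G} (ht : t ∈ T) (htH : t ∉ H) : H ⊔ zpowers t = T := by
  have hle : H ⊔ zpowers t ≤ T := sup_le hH.1 (zpowers_le.2 ht)
  have h1 := relIndex_mul_relIndex H (H ⊔ zpowers t) T le_sup_left hle
  rw [hH.2] at h1
  rcases (Nat.dvd_prime hr.out).1 (Dvd.intro _ h1) with h | h
  · rw [relIndex_eq_one] at h
    exact absurd (h (mem_sup_right (mem_zpowers t))) htH
  · rw [h] at h1
    exact le_antisymm hle (relIndex_eq_one.1 (Nat.eq_of_mul_eq_mul_left hr.out.pos (h1.trans (mul_one r).symm)))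

theorem IsHyp.exists_not_mem : ∃ t ∈ T, t ∉ H :=
  Set.not_subset.1 fun h => hr.out.one_lt.ne' (hH.2.symm.trans (relIndex_eq_one.2 h))

theorem IsHyp.exists_pow [Finite G] {t : G} (ht : t ∈ T) (htH : t ∉ H) {u : G} (hu : u ∈ T) :
    ∃ i : ZMod r, (t ^ i.val)⁻¹ * u ∈ H := by
  rw [← hH.sup_zpowers hT ht htH, sup_comm] at hu
  obtain ⟨z, hz, h, hh, rfl⟩ := CfsgLib.Coprime.mem_sup_exists (fun x hx =>
    CfsgLib.Coprime.centralizer_le_normalizer_self _ (mem_centralizer_iff.2 fun y hy =>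
      comm_of_elem hT (zpowers_le.2 ht hy) (hH.1 hx))) hu
  obtain ⟨n, rfl⟩ := mem_powers_iff_mem_zpowers.2 hz
  refine ⟨(n : ZMod r), ?_⟩
  have e : t ^ ((n : ZMod r)).val = t ^ n := by
    rw [ZMod.val_natCast]
    conv_rhs => rw [← Nat.mod_add_div n r, pow_add, pow_mul, hT.2 t ht, one_pow, mul_one]
  rwa [e, inv_mul_cancel_left]

theorem acts_one : Acts T H (1 : G) (1 : ZMod r) := fun t _ => by simp [ZMod.val_one]

theorem pow_val_mul {t : G} (ht : t ∈ T) (a b : ZMod r) : t ^ (a * b).val = (t ^ a.val) ^ b.val := by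
  rw [ZMod.val_mul, ← pow_mul]
  conv_rhs => rw [← Nat.mod_add_div (a.val * b.val) r, pow_add, pow_mul t r, hT.2 t ht, one_pow, mul_one]

theorem Acts.mul {g k : G} {m n : ZMod r} (hgT : g ∈ normalizer (T : Set G))
    (hgH : g ∈ normalizer (H : Set G)) (hkT : k ∈ normalizer (T : Set G)) (hg : Acts T H g m)
    (hk : Acts T H k n) : Acts T H (g * k) (m * n) := by
  intro t ht
  have hu : k * t * k⁻¹ ∈ T := (mem_normalizer_iff.1 hkT t).1 ht
  have h1 : g * ((t ^ n.val)⁻¹ * (k * t * k⁻¹)) * g⁻¹ ∈ H := (mem_normalizer_iff.1 hgH _).1 (hk t ht)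
  have h2 := hg (t ^ n.val) (pow_mem ht _)
  have e : (t ^ (m * n).val)⁻¹ * ((g * k) * t * (g * k)⁻¹) =
      ((t ^ n.val) ^ m.val)⁻¹ * (g * t ^ n.val * g⁻¹) * (g * ((t ^ n.val)⁻¹ * (k * t * k⁻¹)) * g⁻¹) := by
    rw [mul_comm m n, pow_val_mul hT hH ht]
    group
  rw [e]
  exact mul_mem h2 h1

theorem Acts.unique {g : G} {m n : ZMod r} (hg : Acts T H g m) (hg' : Acts T H g n) : m = n := by
  obtain ⟨t, ht, htH⟩ := hH.exists_not_mem hT
  by_contra hne
  apply htH
  have h1 : (t ^ m.val)⁻¹ * t ^ n.val ∈ H := by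
    have := mul_mem (hg t ht) (inv_mem (hg' t ht))
    simpa [mul_assoc] using this
  have hd : n - m ≠ 0 := sub_ne_zero.2 (Ne.symm hne)
  have h2 : t ^ (n - m).val ∈ H := by
    have e : t ^ n.val = t ^ m.val * t ^ (n - m).val := by
      rw [← pow_add]
      conv_rhs => rw [← Nat.mod_add_div (m.val + (n - m).val) r, pow_add, pow_mul t r, hT.2 t ht,
        one_pow, mul_one, ← ZMod.val_add, add_sub_cancel]
    rwa [e, inv_mul_cancel_left] at h1
  have h3 : t ^ ((n - m) * (n - m)⁻¹).val ∈ H := by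
    rw [pow_val_mul hT hH ht]; exact pow_mem h2 _
  rwa [mul_inv_cancel₀ hd, ZMod.val_one, pow_one] at h3

theorem exists_acts [Finite G] {g : G} (hgT : g ∈ normalizer (T : Set G))
    (hgH : g ∈ normalizer (H : Set G)) : ∃ m : ZMod r, Acts T H g m := by
  obtain ⟨t, ht, htH⟩ := hH.exists_not_mem hT
  obtain ⟨m, hm⟩ := hH.exists_pow hT ht htH ((mem_normalizer_iff.1 hgT t).1 ht)
  refine ⟨m, fun u hu => ?_⟩
  obtain ⟨i, hi⟩ := hH.exists_pow hT ht htH hu
  have hh' : g * ((t ^ i.val)⁻¹ * u) * g⁻¹ ∈ H := (mem_normalizer_iff.1 hgH _).1 hi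
  have hti : g * t ^ i.val * g⁻¹ = (g * t * g⁻¹) ^ i.val := conj_pow.symm
  have hx : g * t * g⁻¹ ∈ T := (mem_normalizer_iff.1 hgT t).1 ht
  have hcu : Commute (t ^ i.val) ((t ^ i.val)⁻¹ * u) :=
    comm_of_elem hT (pow_mem ht _) (hH.1 hi)
  have e1 : u ^ m.val = (t ^ i.val) ^ m.val * ((t ^ i.val)⁻¹ * u) ^ m.val := by
    rw [← hcu.mul_pow, mul_inv_cancel_left]
  have hct : Commute (t ^ m.val)⁻¹ (g * t * g⁻¹) := comm_of_elem hT (inv_mem (pow_mem ht _)) hx
  have h1 : ((t ^ m.val)⁻¹ * (g * t * g⁻¹)) ^ i.val ∈ H := pow_mem hm _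
  rw [hct.mul_pow, inv_pow, ← pow_mul, mul_comm m.val, pow_mul] at h1
  have e2 : (u ^ m.val)⁻¹ * (g * u * g⁻¹) = (((t ^ i.val)⁻¹ * u) ^ m.val)⁻¹ *
      ((((t ^ i.val) ^ m.val)⁻¹ * (g * t * g⁻¹) ^ i.val) * (g * ((t ^ i.val)⁻¹ * u) * g⁻¹)) := by
    rw [e1, ← hti]; group
  rw [e2]
  exact mul_mem (inv_mem (pow_mem hi _)) (mul_mem h1 hh')

theorem Acts.pow {g : G} {m : ZMod r} (hgT : g ∈ normalizer (T : Set G))
    (hgH : g ∈ normalizer (H : Set G)) (hg : Acts T H g m) : ∀ n : ℕ, Acts T H (g ^ n) (m ^ n)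
  | 0 => by rw [pow_zero, pow_zero]; exact acts_one hT hH
  | n + 1 => by
    rw [pow_succ, pow_succ]
    exact Acts.mul hT hH (pow_mem hgT n) (pow_mem hgH n) hgT (Acts.pow hgT hgH hg n) hg

theorem Acts.pow_eq_one [Finite G] {g : G} {m : ZMod r} (hgT : g ∈ normalizer (T : Set G))
    (hgH : g ∈ normalizer (H : Set G)) (hg : Acts T H g m) {n : ℕ} (hn : g ^ n = 1) : m ^ n = 1 :=
  (hn ▸ Acts.pow hT hH hgT hgH hg n).unique hT hH (acts_one hT hH)

end Acts

section Atom

variable [Finite G] {q r : ℕ} [hq : Fact q.Prime] [hr : Fact r.Prime] {V T : Subgroup G}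
  (hV : Cfsg.IsElementaryAbelian q V) (hT : Cfsg.IsElementaryAbelian r T)
  (hTV : T ≤ normalizer (V : Set G)) (hrq : r ≠ q)

include hV hT hTV hrq

theorem coprime_T_V : (Nat.card T).Coprime (Nat.card V) := by
  obtain ⟨a, ha⟩ := IsPGroup.iff_card.1 (CfsgLib.EABasic.isPGroup_of_isElementaryAbelian hT)
  obtain ⟨b, hb⟩ := IsPGroup.iff_card.1 (CfsgLib.EABasic.isPGroup_of_isElementaryAbelian hV)
  rw [ha, hb]
  exact Nat.coprime_pow_primes _ _ hr.out hq.out hrq

theorem commV_le : ⁅V, T⁆ ≤ V := by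
  rw [commutator_le]
  intro v hv t ht
  rw [commutatorElement_def, mul_assoc v t v⁻¹, mul_assoc v]
  exact mul_mem hv (conj_mem_of_le_normalizer hTV ht (inv_mem hv))

theorem atom_le (H : Subgroup G) : atom V T H ≤ V := inf_le_left.trans (commV_le hV hT hTV hrq)

theorem commV_fixed : ⁅V, T⁆ ⊓ centralizer (T : Set G) = ⊥ := by
  refine le_bot_iff.1 (le_trans ?_ (CfsgLib.Coprime.centralizer_inf_commutator_eq_bot hV.1 hTV
    (coprime_T_V hV hT hTV hrq)).le)
  exact le_inf (le_inf (inf_le_left.trans (commV_le hV hT hTV hrq)) inf_le_right) inf_le_left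

theorem atom_fixed_bot {H : Subgroup G} (hH : IsHyp r T H) {t : G} (ht : t ∈ T) (htH : t ∉ H) :
    atom V T H ⊓ centralizer ({t} : Set G) = ⊥ := by
  refine le_bot_iff.1 (le_trans ?_ (commV_fixed hV hT hTV hrq).le)
  refine le_inf (inf_le_left.trans inf_le_left) ?_
  rw [← hH.sup_zpowers hT ht htH, le_centralizer_iff]
  refine sup_le ?_ (zpowers_le.2 (mem_centralizer_iff.2 fun v hv => ?_))
  · rw [le_centralizer_iff]; exact inf_le_left.trans inf_le_right
  · exact mem_centralizer_singleton_iff.1 hv.2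

/-- An element normalising `V` and `T` moves atoms to atoms. -/
theorem conj_atom {g : G} (hgV : g ∈ normalizer (V : Set G)) (hgT : g ∈ normalizer (T : Set G))
    (H : Subgroup G) :
    (atom V T H).map (MulAut.conj g).toMonoidHom =
      atom V T (H.map (MulAut.conj g).toMonoidHom) := by
  have e : ∀ {K : Subgroup G}, g ∈ normalizer (K : Set G) →
      K.map (MulAut.conj g).toMonoidHom = K := fun {K} hK => by
    ext x
    constructor
    · rintro ⟨y, hy, rfl⟩
      exact (mem_normalizer_iff.1 hK y).1 hy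
    · intro hx
      exact ⟨g⁻¹ * x * g, (mem_normalizer_iff''.1 hK x).1 hx, by simp [mul_assoc]⟩
  rw [atom, map_inf _ _ _ (MulAut.conj g).injective, map_commutator, e hgV, e hgT, atom]
  congr 1
  ext x
  simp only [mem_map, mem_centralizer_iff, SetLike.mem_coe, MulEquiv.coe_toMonoidHom, MulAut.conj_apply]
  constructor
  · rintro ⟨y, hy, rfl⟩ _ ⟨h, hh, rfl⟩
    calc g * h * g⁻¹ * (g * y * g⁻¹) = g * (h * y) * g⁻¹ := by group
      _ = g * (y * h) * g⁻¹ := by rw [hy h hh]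
      _ = _ := by group
  · intro hx
    refine ⟨g⁻¹ * x * g, fun h hh => ?_, by group⟩
    calc h * (g⁻¹ * x * g) = g⁻¹ * (g * h * g⁻¹ * x) * g := by group
      _ = g⁻¹ * (x * (g * h * g⁻¹)) * g := by rw [hx _ ⟨h, hh, rfl⟩]
      _ = _ := by group

theorem mem_normalizer_atom {g : G} (hgV : g ∈ normalizer (V : Set G))
    (hgT : g ∈ normalizer (T : Set G)) {H : Subgroup G} (hgH : H.map (MulAut.conj g).toMonoidHom = H) :
    g ∈ normalizer (atom V T H : Set G) := by
  rw [mem_normalizer_iff]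
  intro x
  conv_rhs => rw [← hgH, ← conj_atom hV hT hTV hrq hgV hgT H]
  exact (mem_map_iff_mem (MulAut.conj g).injective).symm

theorem T_norm_atom {H : Subgroup G} (hH : IsHyp r T H) :
    T ≤ normalizer (atom V T H : Set G) := by
  intro t ht
  refine mem_normalizer_atom hV hT hTV hrq (hTV ht) (le_normalizer ht) ?_
  ext x
  simp only [mem_map, MulEquiv.coe_toMonoidHom, MulAut.conj_apply]
  have e : ∀ h ∈ H, t * h * t⁻¹ = h := fun h hh => by
    rw [comm_of_elem hT ht (hH.1 hh), mul_inv_cancel_right]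
  exact ⟨fun ⟨h, hh, hx⟩ => hx ▸ (e h hh).symm ▸ hh, fun hx => ⟨x, hx, e x hx⟩⟩

theorem others_le (H : Subgroup G) : others r V T H ≤ V :=
  iSup_le fun H' => atom_le hV hT hTV hrq H'

/-- The atom of `H` meets the other atoms trivially. -/
theorem atom_inf_others {H : Subgroup G} (hH : IsHyp r T H) :
    atom V T H ⊓ others r V T H = ⊥ := by
  classical
  haveI : IsMulCommutative V := hV.1
  haveI := Fintype.ofFinite H
  haveI := Fintype.ofFinite V
  letI : CommGroup V := { (inferInstance : Group V) with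
    mul_comm := fun a b => Subtype.ext (comm_of_elem hV a.2 b.2) }
  let f : V →* V :=
    { toFun := fun v => ∏ h : H, ⟨(h : G) * v * (h : G)⁻¹,
        conj_mem_of_le_normalizer hTV (hH.1 h.2) v.2⟩
      map_one' := Finset.prod_eq_one fun h _ => Subtype.ext (by simp)
      map_mul' := fun a b => by
        rw [← Finset.prod_mul_distrib]
        exact Finset.prod_congr rfl fun h _ => Subtype.ext (by simp [mul_assoc]) }
  have hfix : ∀ v : V, ∀ k : H, (k : G) * (f v : V) * (k : G)⁻¹ = (f v : V) := by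
    intro v k
    let c : V →* V :=
      { toFun := fun w => ⟨(k : G) * w * (k : G)⁻¹, conj_mem_of_le_normalizer hTV (hH.1 k.2) w.2⟩
        map_one' := Subtype.ext (by simp)
        map_mul' := fun a b => Subtype.ext (by simp [mul_assoc]) }
    have e : c (f v) = f v := by
      show c (∏ h : H, _) = ∏ h : H, _
      rw [map_prod]
      exact Fintype.prod_equiv (Equiv.mulLeft k) _ _ fun h => Subtype.ext (by simp [c, mul_assoc])
    exact congrArg Subtype.val e
  have hkill : ∀ H' : Subgroup G, IsHyp r T H' → H' ≠ H →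
      ∀ v : V, (v : G) ∈ atom V T H' → f v = 1 := by
    intro H' h' hne v hv
    obtain ⟨t, ht, htH⟩ : ∃ t ∈ H', t ∉ H := Set.not_subset.1 fun hle => hne (by
      refine eq_of_le_of_card_ge hle (le_of_eq ?_)
      have a := relIndex_mul_relIndex ⊥ H T bot_le hH.1
      have b := relIndex_mul_relIndex ⊥ H' T bot_le h'.1
      rw [relIndex_bot_left, relIndex_bot_left, hH.2] at a
      rw [relIndex_bot_left, relIndex_bot_left, h'.2] at b
      exact Nat.eq_of_mul_eq_mul_right hr.out.pos (a.trans b.symm))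
    have hmem : ((f v : V) : G) ∈ atom V T H' := by
      refine Subgroup.prod_mem ((atom V T H').subgroupOf V) (fun h _ => ?_) (f := fun h : H =>
        (⟨(h : G) * v * (h : G)⁻¹, conj_mem_of_le_normalizer hTV (hH.1 h.2) v.2⟩ : V))
      exact conj_mem_of_le_normalizer (T_norm_atom hV hT hTV hrq h') (hH.1 h.2) hv
    have h2 : ((f v : V) : G) ∈ atom V T H ⊓ centralizer ({t} : Set G) :=
      mem_inf.2 ⟨mem_inf.2 ⟨hmem.1, mem_centralizer_iff.2 fun k hk =>
        (mul_inv_eq_iff_eq_mul.1 (hfix v ⟨k, hk⟩))⟩,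
        mem_centralizer_singleton_iff.2 (mem_centralizer_iff.1 hmem.2 t ht).symm⟩
    rw [atom_fixed_bot hV hT hTV hrq hH (h'.1 ht) htH, mem_bot] at h2
    exact Subtype.ext h2
  refine le_bot_iff.1 fun v hv => ?_
  have hle : others r V T H ≤ f.ker.map V.subtype := iSup_le fun H' w hw =>
    ⟨⟨w, atom_le hV hT hTV hrq _ hw⟩, hkill _ H'.2.1 H'.2.2 _ hw, rfl⟩
  obtain ⟨vV, hker, rfl⟩ := hle hv.2
  have e1 : f vV = 1 := hker
  have e2 : f vV = vV ^ Nat.card H := by
    rw [Nat.card_eq_fintype_card, ← Finset.card_univ, ← Finset.prod_const]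
    exact Finset.prod_congr rfl fun h _ => Subtype.ext (mul_inv_eq_iff_eq_mul.2
      (mem_centralizer_iff.1 hv.1.2 h h.2))
  have e3 : (Nat.card H).Coprime (orderOf vV) := by
    refine Nat.Coprime.coprime_dvd_right ?_ (((coprime_T_V hV hT hTV hrq).coprime_dvd_left
      (card_dvd_of_le hH.1)))
    exact orderOf_dvd_natCard vV
  have e4 : vV = 1 := by
    have := (orderOf_eq_one_iff (x := vV)).1 (Nat.eq_one_of_dvd_coprimes e3
      (orderOf_dvd_of_pow_eq_one (e2.symm.trans e1)) dvd_rfl)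
    exact this
  exact mem_bot.2 (congrArg Subtype.val e4)

theorem atom_disjoint {H H₁ : Subgroup G} (hH : IsHyp r T H) (h₁ : IsHyp r T H₁) (n₁ : H₁ ≠ H) :
    atom V T H ⊓ atom V T H₁ = ⊥ := by
  exact le_bot_iff.1 ((inf_le_inf_left _ (atom_le_others h₁ n₁)).trans
    (atom_inf_others hV hT hTV hrq hH).le)

theorem conj_others {g : G} (hgV : g ∈ normalizer (V : Set G)) (hgT : g ∈ normalizer (T : Set G))
    (H : Subgroup G) :
    (others r V T H).map (MulAut.conj g).toMonoidHom ≤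
      others r V T (H.map (MulAut.conj g).toMonoidHom) := by
  rw [others, Subgroup.map_iSup]
  refine iSup_le fun H' => ?_
  rw [conj_atom hV hT hTV hrq hgV hgT]
  have e : T.map (MulAut.conj g).toMonoidHom = T := by
    ext x
    constructor
    · rintro ⟨y, hy, rfl⟩
      exact (mem_normalizer_iff.1 hgT y).1 hy
    · intro hx
      exact ⟨g⁻¹ * x * g, (mem_normalizer_iff''.1 hgT x).1 hx, by simp [mul_assoc]⟩
  refine atom_le_others ⟨le_of_le_of_eq (map_mono H'.2.1.1) e, ?_⟩ fun h =>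
    H'.2.2 (map_injective (MulAut.conj g).injective h)
  calc _ = ((H' : Subgroup G).map (MulAut.conj g).toMonoidHom).relIndex
        (T.map (MulAut.conj g).toMonoidHom) := congrArg _ e.symm
    _ = (H' : Subgroup G).relIndex T :=
        relIndex_map_map_of_injective _ _ (MulAut.conj g).injective
    _ = r := H'.2.1.2

theorem commV_le_of_atoms {W : Subgroup G} (hne : T ≠ ⊥)
    (h : ∀ H, IsHyp r T H → atom V T H ≤ W) : ⁅V, T⁆ ≤ W := by
  obtain ⟨k, hk⟩ := IsPGroup.iff_card.1 (CfsgLib.EABasic.isPGroup_of_isElementaryAbelian hT)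
  rcases k with - | - | k
  · exact absurd (card_eq_one.1 (by simpa using hk)) hne
  · refine le_trans ?_ (h ⊥ ⟨bot_le, by rw [relIndex_bot_left, hk, zero_add, pow_one]⟩)
    exact le_inf le_rfl fun x _ => mem_centralizer_iff.2 fun y hy => by simp [mem_bot.1 hy]
  · refine CfsgLib.Coprime.le_of_hyperplanes hT (by rw [hk]; exact Nat.pow_le_pow_right hr.out.pos (by omega)) ?_ ?_
      fun E h1 h2 => h E ⟨h1, h2⟩
    · intro hd
      exact hr.out.one_lt.ne' (Nat.eq_one_of_dvd_coprimes (coprime_T_V hV hT hTV hrq)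
        (by rw [hk]; exact dvd_pow_self r (by omega))
        (hd.trans (card_dvd_of_le (commV_le hV hT hTV hrq))))
    · exact CfsgLib.PGroup.le_normalizer_commutator hTV le_normalizer

/-- An element of `T` lying in every hyperplane with a nontrivial atom centralises `V`. -/
theorem mem_centralizer_of_atoms {t : G} (ht : t ∈ T)
    (h : ∀ H, IsHyp r T H → atom V T H ≠ ⊥ → t ∈ H) : t ∈ centralizer (V : Set G) := by
  by_cases hne : T = ⊥
  · rw [hne, mem_bot] at ht
    rw [ht]; exact one_mem _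
  have h1 : ⁅V, T⁆ ≤ centralizer ({t} : Set G) := by
    refine commV_le_of_atoms hV hT hTV hrq hne fun H hH v hv => ?_
    by_cases ha : atom V T H = ⊥
    · rw [ha, mem_bot] at hv
      rw [hv]; exact one_mem _
    · exact mem_centralizer_singleton_iff.2 (mem_centralizer_iff.1 hv.2 t (h H hH ha)).symm
  have h2 := CfsgLib.Coprime.commutator_sup_centralizer hTV (coprime_T_V hV hT hTV hrq)
    (Or.inl (CfsgLib.Coprime.isSolvable_of_isMulCommutative hT.1))
  have h3 : V ≤ centralizer ({t} : Set G) := h2 ▸ sup_le h1 (inf_le_right.trans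
    (centralizer_le (Set.singleton_subset_iff.2 ht)))
  exact mem_centralizer_iff.2 fun v hv => mem_centralizer_singleton_iff.1 (h3 hv)

theorem four_le_atom {H : Subgroup G} (hH : IsHyp r T H) (ha : atom V T H ≠ ⊥) :
    q ≤ Nat.card (atom V T H) ∧ (q = 2 → 4 ≤ Nat.card (atom V T H)) := by
  obtain ⟨k, hk⟩ := IsPGroup.iff_card.1 ((CfsgLib.EABasic.isPGroup_of_isElementaryAbelian hV).to_le
    (atom_le hV hT hTV hrq H))
  have hk0 : k ≠ 0 := fun h => ha (card_eq_one.1 (by rw [hk, h, pow_zero]))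
  refine ⟨hk ▸ Nat.le_self_pow hk0 q, fun hq2 => ?_⟩
  have hk1 : k ≠ 1 := by
    intro h
    subst hq2
    rw [h, pow_one] at hk
    obtain ⟨t, ht, htH⟩ := hH.exists_not_mem hT
    refine ha (le_bot_iff.1 (le_trans ?_ (atom_fixed_bot hV hT hTV hrq hH ht htH).le))
    intro v hv
    refine mem_inf.2 ⟨hv, ?_⟩
    obtain ⟨a, b, hab, huniv⟩ := Nat.card_eq_two_iff.1 hk
    by_cases hv1 : v = 1
    · rw [hv1]; exact one_mem _
    have hw := conj_mem_of_le_normalizer (T_norm_atom hV hT hTV hrq hH) ht hv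
    have all : ∀ z : atom V T H, z = 1 ∨ z = ⟨v, hv⟩ := fun z => by
      have hz : z ∈ ({a, b} : Set _) := huniv ▸ Set.mem_univ z
      have h1' : (1 : atom V T H) ∈ ({a, b} : Set _) := huniv ▸ Set.mem_univ _
      have hv' : (⟨v, hv⟩ : atom V T H) ∈ ({a, b} : Set _) := huniv ▸ Set.mem_univ _
      have hne : (⟨v, hv⟩ : atom V T H) ≠ 1 := fun e => hv1 (congrArg Subtype.val e)
      simp only [Set.mem_insert_iff, Set.mem_singleton_iff] at hz h1' hv'
      rcases h1' with e1 | e1 <;> rcases hv' with e2 | e2 <;> rcases hz with e3 | e3 <;>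
        first
          | exact Or.inl (e3.trans e1.symm)
          | exact Or.inr (e3.trans e2.symm)
          | exact absurd (e2.trans e1.symm) hne
    rcases all ⟨_, hw⟩ with e | e
    · have e' : t * v * t⁻¹ = 1 := congrArg Subtype.val e
      exact absurd (conj_eq_one_iff.1 e') hv1
    · exact mem_centralizer_singleton_iff.2 (mul_inv_eq_iff_eq_mul.1 (congrArg Subtype.val e)).symm
  subst hq2
  rw [hk]
  exact le_of_eq_of_le (by norm_num) (Nat.pow_le_pow_right two_pos (by omega : 2 ≤ k))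

/-- The root bound on an atom. -/
theorem pow_le_card_atom {H : Subgroup G} (hH : IsHyp r T H) (ha : atom V T H ≠ ⊥) {g : G}
    (hgV : g ∈ normalizer (V : Set G)) (hgT : g ∈ normalizer (T : Set G))
    (hgH : H.map (MulAut.conj g).toMonoidHom = H) {m : ZMod r} (hm : Acts T H g m) :
    q ^ orderOf m ≤ Nat.card (atom V T H) := by
  obtain ⟨t, ht, htH⟩ := hH.exists_not_mem hT
  have hc : ∀ h ∈ H, h ∈ centralizer (atom V T H : Set G) := fun h hh =>
    mem_centralizer_iff.2 fun v hv => (mem_centralizer_iff.1 hv.2 h hh).symm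
  exact pow_le_card_of_conj_pow (CfsgLib.EABasic.isElementaryAbelian_le hV (atom_le hV hT hTV hrq H))
    ha (T_norm_atom hV hT hTV hrq hH ht) (mem_normalizer_atom hV hT hTV hrq hgV hgT hgH)
    (by rw [hT.2 t ht]; exact one_mem _) (atom_fixed_bot hV hT hTV hrq hH ht htH) m (hc _ (hm t ht))

end Atom

end CfsgLib.SolvSignalizer
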