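import Cfsg.Agent.Lib.SolvSignalizer.Small
import Mathlib.GroupTheory.SemidirectProduct

/-!
# Applying the small element and offender lemmas to sections of a group

`V₀` is an elementary abelian `q`-subgroup, `D` a subgroup of it, and the groups acting are mapped
into the holomorph of `V₀ / D`.
-/

set_option autoImplicit false
set_option linter.style.haveILetI false
set_option linter.unusedSectionVars false

open Subgroup
open CfsgLib.Coprime (conj_mem_of_le_normalizer)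

namespace CfsgLib.SolvSignalizer

universe u

variable {G : Type u} [Group G]

/-- The elements normalising both ends of a section. -/
def stab (V₀ D : Subgroup G) : Subgroup G :=
  normalizer (V₀ : Set G) ⊓ normalizer (D : Set G)

/-- The section `V₀ / D`. -/
abbrev Sec (V₀ D : Subgroup G) : Type u := V₀ ⧸ D.subgroupOf V₀

variable (V₀ D : Subgroup G) [hn : (D.subgroupOf V₀).Normal]

/-- The action of the stabiliser on the section. -/
noncomputable def secAut : stab V₀ D →* MulAut (Sec V₀ D) :=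
  MonoidHom.mk' (fun g => QuotientGroup.congr _ _ (normalizerMonoidHom V₀ ⟨g, g.2.1⟩) (by
      ext x
      constructor
      · rintro ⟨y, hy, rfl⟩
        exact (mem_normalizer_iff.1 g.2.2 _).1 hy
      · intro hx
        refine ⟨⟨(g : G)⁻¹ * x * g, (mem_normalizer_iff''.1 g.2.1 _).1 x.2⟩,
          (mem_normalizer_iff''.1 g.2.2 _).1 hx, Subtype.ext ?_⟩
        show (g : G) * ((g : G)⁻¹ * x * g) * (g : G)⁻¹ = x
        group))
    fun g h => MulEquiv.ext fun m => by
      obtain ⟨x, rfl⟩ := QuotientGroup.mk_surjective m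
      show QuotientGroup.mk (normalizerMonoidHom V₀ ⟨g * h, _⟩ x) =
        QuotientGroup.mk (normalizerMonoidHom V₀ ⟨g, _⟩ (normalizerMonoidHom V₀ ⟨h, _⟩ x))
      refine congrArg _ (Subtype.ext ?_)
      show (g : G) * h * x * ((g : G) * h)⁻¹ = (g : G) * ((h : G) * x * (h : G)⁻¹) * (g : G)⁻¹
      group

theorem secAut_mk (g : stab V₀ D) (v : V₀) :
    secAut V₀ D g (QuotientGroup.mk v) =
      QuotientGroup.mk ⟨(g : G) * v * (g : G)⁻¹, (mem_normalizer_iff.1 g.2.1 _).1 v.2⟩ :=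
  rfl

/-- The holomorph of the section. -/
abbrev Holo : Type u := Sec V₀ D ⋊[MonoidHom.id _] MulAut (Sec V₀ D)

/-- The stabiliser mapped into the holomorph. -/
noncomputable def secHom : stab V₀ D →* Holo V₀ D :=
  SemidirectProduct.inr.comp (secAut V₀ D)

/-- The image of a subgroup. -/
noncomputable def secImg (X : Subgroup G) : Subgroup (Holo V₀ D) :=
  (X.subgroupOf (stab V₀ D)).map (secHom V₀ D)

/-- The section inside the holomorph. -/
def secTop : Subgroup (Holo V₀ D) :=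
  (SemidirectProduct.inl : Sec V₀ D →* Holo V₀ D).range

theorem secHom_mem {X : Subgroup G} {x : stab V₀ D} (hx : (x : G) ∈ X) :
    secHom V₀ D x ∈ secImg V₀ D X :=
  ⟨x, hx, rfl⟩

theorem secHom_conj (g : stab V₀ D) (w : Sec V₀ D) :
    secHom V₀ D g * SemidirectProduct.inl w * (secHom V₀ D g)⁻¹ =
      SemidirectProduct.inl (secAut V₀ D g w) := by
  refine SemidirectProduct.ext ?_ ?_ <;> simp [secHom]

theorem secHom_eq_one {g : stab V₀ D} :
    secHom V₀ D g = 1 ↔ ∀ v ∈ V₀, (g : G) * v * (g : G)⁻¹ * v⁻¹ ∈ D := by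
  rw [secHom, MonoidHom.comp_apply, map_eq_one_iff _ SemidirectProduct.inr_injective]
  constructor
  · intro h v hv
    have := secAut_mk V₀ D g ⟨v, hv⟩
    rw [h] at this
    have h2 : (⟨(g : G) * v * (g : G)⁻¹, _⟩ : V₀)⁻¹ * ⟨v, hv⟩ ∈ D.subgroupOf V₀ :=
      QuotientGroup.eq.1 this.symm
    have h3 := hn.conj_mem _ (inv_mem h2) ⟨v, hv⟩
    simpa [mem_subgroupOf, mul_assoc] using h3
  · intro h
    refine MulEquiv.ext fun m => ?_
    obtain ⟨v, rfl⟩ := QuotientGroup.mk_surjective m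
    rw [secAut_mk, MulAut.one_apply, QuotientGroup.eq]
    have h3 := hn.conj_mem _ (inv_mem (show (⟨(g : G) * v * (g : G)⁻¹ * (v : G)⁻¹,
      mul_mem ((mem_normalizer_iff.1 g.2.1 _).1 v.2) (inv_mem v.2)⟩ : V₀) ∈ D.subgroupOf V₀ from
        h v v.2)) v⁻¹
    simpa [mem_subgroupOf, mul_assoc] using h3

theorem secHom_mem_centralizer {g : stab V₀ D} :
    secHom V₀ D g ∈ centralizer (secTop V₀ D : Set (Holo V₀ D)) ↔ secHom V₀ D g = 1 := by
  refine ⟨fun h => ?_, fun h => h ▸ one_mem _⟩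
  rw [secHom, MonoidHom.comp_apply, map_eq_one_iff _ SemidirectProduct.inr_injective]
  refine MulEquiv.ext fun m => SemidirectProduct.inl_injective
    (N := Sec V₀ D) (G := MulAut (Sec V₀ D)) (φ := MonoidHom.id _) ?_
  rw [← secHom_conj, ← mem_centralizer_iff.1 h _ ⟨m, rfl⟩, mul_inv_cancel_right]
  rfl

theorem secImg_inf_centralizer (X : Subgroup G) :
    secImg V₀ D X ⊓ centralizer (secTop V₀ D : Set (Holo V₀ D)) = ⊥ := by
  rw [eq_bot_iff]
  rintro _ ⟨⟨g, -, rfl⟩, hc⟩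
  exact (secHom_mem_centralizer V₀ D).1 hc

theorem secImg_le_normalizer_top (X : Subgroup G) :
    secImg V₀ D X ≤ normalizer (secTop V₀ D : Set (Holo V₀ D)) := by
  haveI : (secTop V₀ D).Normal := by
    rw [secTop, SemidirectProduct.range_inl_eq_ker_rightHom]
    infer_instance
  rw [normalizer_eq_top]
  exact le_top

theorem secImg_le_normalizer {X H : Subgroup G} (h : X ≤ normalizer (H : Set G))
    (hX : X ≤ stab V₀ D) : secImg V₀ D X ≤ normalizer (secImg V₀ D H : Set (Holo V₀ D)) := by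
  have h1 : X.subgroupOf (stab V₀ D) ≤
      normalizer ((H.subgroupOf (stab V₀ D) : Subgroup (stab V₀ D)) : Set (stab V₀ D)) := by
    intro x hx
    rw [mem_normalizer_iff]
    intro y
    exact mem_normalizer_iff.1 (h hx) y
  exact (map_mono h1).trans (le_normalizer_map _)

theorem secImg_isPGroup {r : ℕ} {X : Subgroup G} (h : IsPGroup r X) :
    IsPGroup r (secImg V₀ D X) :=
  IsPGroup.map (h.of_injective (MonoidHom.mk' (fun x : X.subgroupOf (stab V₀ D) =>
    (⟨((x : stab V₀ D) : G), x.2⟩ : X)) fun a b => rfl) fun a b e => by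
      ext
      exact congrArg (fun z : X => (z : G)) e) _

theorem secImg_commute {X : Subgroup G} (h : ∀ a ∈ X, ∀ b ∈ X, a * b = b * a) :
    ∀ a ∈ secImg V₀ D X, ∀ b ∈ secImg V₀ D X, a * b = b * a := by
  rintro _ ⟨a, ha, rfl⟩ _ ⟨b, hb, rfl⟩
  rw [← map_mul, ← map_mul]
  exact congrArg _ (Subtype.ext (h _ ha _ hb))

theorem secImg_mono {X Y : Subgroup G} (h : X ≤ Y) : secImg V₀ D X ≤ secImg V₀ D Y :=
  map_mono (comap_mono h)

theorem secTop_isElementary {q : ℕ} (hV : Cfsg.IsElementaryAbelian q V₀) :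
    Cfsg.IsElementaryAbelian q (secTop V₀ D) := by
  refine ⟨⟨⟨?_⟩⟩, ?_⟩
  · rintro ⟨_, a, rfl⟩ ⟨_, b, rfl⟩
    apply Subtype.ext
    show SemidirectProduct.inl a * SemidirectProduct.inl b = SemidirectProduct.inl b * SemidirectProduct.inl a
    rw [← map_mul, ← map_mul]
    obtain ⟨x, rfl⟩ := QuotientGroup.mk_surjective a
    obtain ⟨y, rfl⟩ := QuotientGroup.mk_surjective b
    rw [← QuotientGroup.mk_mul, ← QuotientGroup.mk_mul, hV.1.is_comm.comm x y]
  · rintro _ ⟨a, rfl⟩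
    obtain ⟨x, rfl⟩ := QuotientGroup.mk_surjective a
    rw [← map_pow, ← QuotientGroup.mk_pow, show x ^ q = 1 from Subtype.ext (hV.2 x x.2)]
    simp

variable [Finite G]

instance : Finite (Holo V₀ D) :=
  Finite.of_equiv _ (SemidirectProduct.equivProd (φ := MonoidHom.id (MulAut (Sec V₀ D)))).symm

variable {p q : ℕ} [hp : Fact p.Prime] [hq : Fact q.Prime]

/-- The hypotheses of an operator configuration on a section. -/
structure SecData (p q : ℕ) (V₀ D A H R Q : Subgroup G) : Prop where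
  velem : Cfsg.IsElementaryAbelian q V₀
  hA : A ≤ stab V₀ D
  hH : H ≤ stab V₀ D
  hR : R ≤ stab V₀ D
  hAH : A ≤ normalizer (H : Set G)
  hRH : R ≤ normalizer (H : Set G)
  hAR : A ≤ normalizer (R : Set G)
  pA : IsPGroup p A
  commA : ∀ a ∈ A, ∀ b ∈ A, a * b = b * a
  qR : IsPGroup q R
  pH : ¬ p ∣ Nat.card H
  hpq : p ≠ q
  QH : Q ≤ H
  Qn : (Q.subgroupOf H).Normal
  nil : letI := Qn; Group.IsNilpotent (H ⧸ Q.subgroupOf H)
  qi : ¬ q ∣ Q.relIndex H
  Qtriv : ∀ x ∈ Q, ∀ v ∈ V₀, x * v * x⁻¹ * v⁻¹ ∈ D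
  fix : ∀ h ∈ H ⊓ centralizer (A : Set G), ∀ r ∈ R, ∀ v ∈ V₀,
    (h * r * h⁻¹ * r⁻¹) * v * (h * r * h⁻¹ * r⁻¹)⁻¹ * v⁻¹ ∈ D

theorem SecData.toSData {A H R Q : Subgroup G} (h : SecData p q V₀ D A H R Q) :
    SData p q (secTop V₀ D) (secImg V₀ D A) (secImg V₀ D H) (secImg V₀ D R) := by
  haveI := h.Qn
  let f : H →* Holo V₀ D := (secHom V₀ D).comp (inclusion h.hH)
  have hf : f.range = secImg V₀ D H := by
    rw [MonoidHom.range_comp, Subgroup.inclusion_range]
    rfl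
  have hker : Q.subgroupOf H ≤ f.ker := fun x hx =>
    (secHom_eq_one V₀ D).2 fun v hv => h.Qtriv _ hx v hv
  have hrange : (QuotientGroup.lift (Q.subgroupOf H) f hker).range = secImg V₀ D H := by
    rw [← hf]
    ext y
    constructor
    · rintro ⟨z, rfl⟩
      obtain ⟨x, rfl⟩ := QuotientGroup.mk_surjective z
      exact ⟨x, rfl⟩
    · rintro ⟨x, rfl⟩
      exact ⟨QuotientGroup.mk x, rfl⟩
  have hcard : Nat.card (secImg V₀ D H) ∣ Q.relIndex H := by
    rw [← hrange]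
    exact Subgroup.card_range_dvd _
  refine
    { velem := secTop_isElementary V₀ D h.velem
      hAV := secImg_le_normalizer_top V₀ D A
      hNV := secImg_le_normalizer_top V₀ D H
      hRV := secImg_le_normalizer_top V₀ D R
      faith := secImg_inf_centralizer V₀ D H
      hAN := secImg_le_normalizer V₀ D h.hAH h.hA
      hRN := secImg_le_normalizer V₀ D h.hRH h.hR
      hAR := secImg_le_normalizer V₀ D h.hAR h.hA
      pA := secImg_isPGroup V₀ D h.pA
      commA := secImg_commute V₀ D h.commA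
      qR := secImg_isPGroup V₀ D h.qR
      nilN := ?_
      pN := fun hd => h.pH ((hd.trans hcard).trans (Subgroup.relIndex_dvd_card _ _))
      qN := fun hd => h.qi (hd.trans hcard)
      hpq := h.hpq
      fix := ?_ }
  · rw [← hrange]
    haveI := h.nil
    exact Group.nilpotent_of_surjective (QuotientGroup.lift (Q.subgroupOf H) f hker).rangeRestrict
      (MonoidHom.rangeRestrict_surjective _)
  · rintro _ ⟨⟨x, hx, rfl⟩, hc⟩
    set H₀ : Subgroup G := H ⊓ (secHom V₀ D).ker.map (stab V₀ D).subtype with hH₀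
    have hK : stab V₀ D ≤ normalizer (((secHom V₀ D).ker.map (stab V₀ D).subtype : Subgroup G) : Set G) := by
      have h1 := le_normalizer_map (stab V₀ D).subtype (H := (secHom V₀ D).ker)
      rwa [normalizer_eq_top, ← MonoidHom.range_eq_map, range_subtype] at h1
    have hA₀ : A ≤ normalizer (H₀ : Set G) :=
      CfsgLib.Coprime.inf_le_normalizer h.hAH (h.hA.trans hK)
    have hcop : (Nat.card A).Coprime (Nat.card H₀) := by
      obtain ⟨n, hn⟩ := IsPGroup.iff_card.1 h.pA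
      rw [hn]
      exact (hp.out.coprime_iff_not_dvd.2 fun hd =>
        h.pH (hd.trans (card_dvd_of_le inf_le_left))).pow_left n
    have hxN : (x : G) ∈ normalizer (H₀ : Set G) :=
      CfsgLib.Coprime.inf_le_normalizer (A := H) le_normalizer (h.hH.trans hK) hx
    have hfix : ∀ a ∈ A, a * (x : G) * a⁻¹ * (x : G)⁻¹ ∈ H₀ := by
      intro a ha
      refine mem_inf.2 ⟨mul_mem (conj_mem_of_le_normalizer h.hAH ha hx) (inv_mem hx), ?_⟩
      set a' : stab V₀ D := ⟨a, h.hA ha⟩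
      refine mem_map.2 ⟨a' * x * a'⁻¹ * x⁻¹, ?_, rfl⟩
      have he := mem_centralizer_iff.1 hc _ (secHom_mem V₀ D (x := a') ha)
      rw [MonoidHom.mem_ker, map_mul, map_mul, map_mul, map_inv, map_inv, he, mul_inv_cancel_right,
        mul_inv_cancel]
    obtain ⟨n, hn, hxn⟩ := CfsgLib.Coprime.exists_fixed_in_coset hA₀ hcop
      (Or.inl (CfsgLib.Coprime.isSolvable_of_isMulCommutative
        ⟨⟨fun a b => Subtype.ext (h.commA a a.2 b b.2)⟩⟩)) hxN hfix
    obtain ⟨z, hz, hzn⟩ := hn.2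
    have e : secHom V₀ D x = secHom V₀ D (x * z) := by
      rw [map_mul, MonoidHom.mem_ker.1 hz, mul_one]
    rw [e, mem_centralizer_iff]
    rintro _ ⟨r, hr, rfl⟩
    have hmem : (x : G) * z ∈ H ⊓ centralizer (A : Set G) := by
      rw [show (z : G) = n from hzn]
      exact ⟨mul_mem hx hn.1, hxn⟩
    have h1 : secHom V₀ D ((x * z) * r * (x * z)⁻¹ * r⁻¹) = 1 := (secHom_eq_one V₀ D).2 fun v hv => by
      exact h.fix _ hmem (r : G) hr v hv
    rw [map_mul, map_mul, map_mul, map_inv, map_inv] at h1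
    exact (mul_inv_eq_iff_eq_mul.1 (mul_inv_eq_one.1 h1)).symm

theorem card_mv_secTop_le (x : stab V₀ D) :
    Nat.card (mv (secTop V₀ D) (secHom V₀ D x)) ≤ Nat.card (mv V₀ (x : G)) := by
  let φ : V₀ →* Holo V₀ D := SemidirectProduct.inl.comp (QuotientGroup.mk' (D.subgroupOf V₀))
  have hle : mv V₀ (x : G) ≤ V₀ := mv_le x.2.1
  have h : mv (secTop V₀ D) (secHom V₀ D x) ≤ ((mv V₀ (x : G)).subgroupOf V₀).map φ := by
    rw [mv, closure_le]
    rintro _ ⟨_, ⟨w, rfl⟩, rfl⟩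
    obtain ⟨v, rfl⟩ := QuotientGroup.mk_surjective w
    refine ⟨⟨(x : G) * v * (x : G)⁻¹ * (v : G)⁻¹, hle (mem_mv v.2)⟩, mem_mv v.2, ?_⟩
    rw [secHom_conj, secAut_mk, ← map_inv (SemidirectProduct.inl : Sec V₀ D →* Holo V₀ D), ← map_mul]
    rfl
  exact (Nat.le_of_dvd Nat.card_pos ((card_dvd_of_le h).trans
    (CfsgLib.Coprime.card_map_dvd_card φ _))).trans
      (Nat.card_congr (subgroupOfEquivOfLe hle).toEquiv).le

/-- An element of order `q` moving at most `q ^ 2` points of the section commutes with the image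
of `H`. -/
theorem SecData.small {A H R Q : Subgroup G} (h : SecData p q V₀ D A H R Q) {x : G} (hxR : x ∈ R)
    (hxq : x ^ q = 1) (hloss : Nat.card (mv V₀ x) ≤ q ^ 2) :
    ∀ g ∈ H, ∀ v ∈ V₀, (g * x * g⁻¹ * x⁻¹) * v * (g * x * g⁻¹ * x⁻¹)⁻¹ * v⁻¹ ∈ D := by
  intro g hg
  set x' : stab V₀ D := ⟨x, h.hR hxR⟩
  set g' : stab V₀ D := ⟨g, h.hH hg⟩
  have hc := h.toSData.mem_centralizer_of_small (secHom_mem V₀ D (x := x') hxR)
    (by rw [← map_pow, show x' ^ q = 1 from Subtype.ext hxq, map_one])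
    ((card_mv_secTop_le V₀ D x').trans hloss)
  have h1 : secHom V₀ D (g' * x' * g'⁻¹ * x'⁻¹) = 1 := by
    rw [map_mul, map_mul, map_mul, map_inv, map_inv,
      mem_centralizer_iff.1 hc _ (secHom_mem V₀ D (x := g') hg), mul_inv_cancel_right, mul_inv_cancel]
  exact (secHom_eq_one V₀ D).1 h1

omit hn in
/-- The offender lemma for an elementary subgroup. -/
theorem offender_of_sec {V₀ A H R Q : Subgroup G} [((⊥ : Subgroup G).subgroupOf V₀).Normal]
    (h : SecData p q V₀ ⊥ A H R Q) {Z₀ : Subgroup G} (hZV : Z₀ ≤ V₀)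
    (hRZ : R ≤ centralizer (Z₀ : Set G))
    (hgen : ∀ W : Subgroup G, Z₀ ≤ W → W ≤ V₀ → H ≤ normalizer (W : Set G) → W = V₀)
    {d : ℕ} (hd : d ≤ 1) {E : Subgroup G} (hER : E ≤ R) (hE : Cfsg.IsElementaryAbelian q E)
    (hloss : (centralizer (E : Set G)).relIndex V₀ * Nat.card (E ⊓ centralizer (V₀ : Set G) : Subgroup G) ≤
      q ^ d * Nat.card E) :
    ∀ g ∈ H, ∀ e ∈ E, g * e * g⁻¹ * e⁻¹ ∈ centralizer (V₀ : Set G) := by
  intro g hg e he
  let φ : V₀ →* Holo V₀ (⊥ : Subgroup G) :=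
    SemidirectProduct.inl.comp (QuotientGroup.mk' ((⊥ : Subgroup G).subgroupOf V₀))
  have hφ : Function.Injective φ := by
    refine SemidirectProduct.inl_injective.comp fun a b hab => ?_
    have := QuotientGroup.eq.1 hab
    rw [mem_subgroupOf, mem_bot] at this
    exact Subtype.ext (inv_mul_eq_one.1 (by simpa using this))
  have hφr : φ.range = secTop V₀ ⊥ := by
    rw [MonoidHom.range_comp, MonoidHom.range_eq_top.2 (QuotientGroup.mk'_surjective _),
      ← MonoidHom.range_eq_map]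
    rfl
  have hconj : ∀ (y : stab V₀ ⊥) (v : V₀), secHom V₀ ⊥ y * φ v * (secHom V₀ ⊥ y)⁻¹ =
      φ ⟨(y : G) * v * (y : G)⁻¹, (mem_normalizer_iff.1 y.2.1 _).1 v.2⟩ := fun y v => by
    rw [MonoidHom.comp_apply, secHom_conj]
    rfl
  have hES : E ≤ stab V₀ ⊥ := hER.trans h.hR
  set X := secImg V₀ ⊥ E with hX
  have hXe : Cfsg.IsElementaryAbelian q X := by
    refine ⟨⟨⟨fun a b => Subtype.ext (secImg_commute V₀ ⊥
      (fun a ha b hb => congrArg Subtype.val (hE.1.is_comm.comm ⟨a, ha⟩ ⟨b, hb⟩)) _ a.2 _ b.2)⟩⟩, ?_⟩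
    rintro _ ⟨y, hy, rfl⟩
    rw [← map_pow, show y ^ q = 1 from Subtype.ext (hE.2 _ hy), map_one]
  -- cardinalities
  have hcardX : Nat.card X * Nat.card (E ⊓ centralizer (V₀ : Set G) : Subgroup G) = Nat.card E := by
    let f : E →* Holo V₀ (⊥ : Subgroup G) := (secHom V₀ ⊥).comp (inclusion hES)
    have hf : f.range = X := by
      rw [MonoidHom.range_comp, Subgroup.inclusion_range]
      rfl
    have hker : f.ker = (E ⊓ centralizer (V₀ : Set G)).subgroupOf E := by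
      ext y
      rw [MonoidHom.mem_ker, mem_subgroupOf, mem_inf, MonoidHom.comp_apply, secHom_eq_one,
        mem_centralizer_iff]
      constructor
      · refine fun hh => ⟨y.2, fun v hv => ?_⟩
        have := hh v hv
        rw [mem_bot, mul_inv_eq_one, mul_inv_eq_iff_eq_mul] at this
        exact this.symm
      · intro hh v hv
        rw [mem_bot, mul_inv_eq_one, mul_inv_eq_iff_eq_mul]
        exact (hh.2 v hv).symm
    have h2 := f.ker.index_mul_card
    rw [Subgroup.index_ker, hf, hker, Nat.card_congr (subgroupOfEquivOfLe inf_le_left).toEquiv] at h2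
    exact h2
  have hidx : (centralizer (X : Set (Holo V₀ ⊥))).relIndex (secTop V₀ ⊥) =
      (centralizer (E : Set G)).relIndex V₀ := by
    rw [← hφr, MonoidHom.range_eq_map, ← relIndex_comap, relIndex_top_right, Subgroup.relIndex]
    congr 1
    ext v
    rw [mem_comap, mem_subgroupOf, mem_centralizer_iff, mem_centralizer_iff]
    constructor
    · intro hh y hy
      have h1 := hconj ⟨y, hES hy⟩ v
      rw [hh _ (secHom_mem V₀ ⊥ (x := ⟨y, hES hy⟩) hy), mul_inv_cancel_right] at h1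
      exact mul_inv_eq_iff_eq_mul.1 (congrArg Subtype.val (hφ h1)).symm
    · rintro hh _ ⟨y, hy, rfl⟩
      have h1 := hconj y v
      have h2 : (⟨(y : G) * v * (y : G)⁻¹, (mem_normalizer_iff.1 y.2.1 _).1 v.2⟩ : V₀) = v :=
        Subtype.ext (mul_inv_eq_iff_eq_mul.2 (hh _ hy))
      rw [h2, mul_inv_eq_iff_eq_mul] at h1
      exact h1
  set Z' := (Z₀.subgroupOf V₀).map φ with hZ'
  have hZtop : Z' ≤ secTop V₀ ⊥ := hφr ▸ map_le_range _ _
  have hRZ' : secImg V₀ ⊥ R ≤ centralizer (Z' : Set (Holo V₀ ⊥)) := by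
    rintro _ ⟨r, hr, rfl⟩
    rw [mem_centralizer_iff]
    rintro _ ⟨v, hv, rfl⟩
    have h1 := hconj r v
    have h2 : (⟨(r : G) * v * (r : G)⁻¹, (mem_normalizer_iff.1 r.2.1 _).1 v.2⟩ : V₀) = v :=
      Subtype.ext (mul_inv_eq_iff_eq_mul.2 (mem_centralizer_iff.1 (hRZ hr) _ hv).symm)
    rw [h2, mul_inv_eq_iff_eq_mul] at h1
    exact h1.symm
  have hgen' : ∀ W : Subgroup (Holo V₀ ⊥), Z' ≤ W → W ≤ secTop V₀ ⊥ →
      secImg V₀ ⊥ H ≤ normalizer (W : Set (Holo V₀ ⊥)) → W = secTop V₀ ⊥ := by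
    intro W hZW hWV hHW
    refine le_antisymm hWV ?_
    have hW₀ := hgen ((W.comap φ).map V₀.subtype)
      (fun z hz => ⟨⟨z, hZV hz⟩, hZW ⟨⟨z, hZV hz⟩, hz, rfl⟩, rfl⟩) (map_subtype_le _) ?_
    · rw [← hφr]
      rintro _ ⟨v, rfl⟩
      have hv : (v : G) ∈ (W.comap φ).map V₀.subtype := by
        rw [hW₀]; exact v.2
      obtain ⟨w, hw, e⟩ := hv
      rw [show v = w from Subtype.ext e.symm]
      exact hw
    · intro k hk
      rw [mem_normalizer_iff]
      intro y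
      constructor
      · rintro ⟨v, hv, rfl⟩
        refine mem_map.2 ⟨⟨k * (v : G) * k⁻¹, (mem_normalizer_iff.1 (h.hH hk).1 _).1 v.2⟩, ?_, rfl⟩
        show φ ⟨k * (v : G) * k⁻¹, (mem_normalizer_iff.1 (h.hH hk).1 _).1 v.2⟩ ∈ W
        rw [← hconj ⟨k, h.hH hk⟩ v]
        exact (mem_normalizer_iff.1 (hHW (secHom_mem V₀ ⊥ (x := ⟨k, h.hH hk⟩) hk)) _).1 hv
      · rintro ⟨v, hv, e⟩
        have hy : y ∈ V₀ := (mem_normalizer_iff.1 (h.hH hk).1 y).2 (e ▸ v.2)
        refine ⟨⟨y, hy⟩, ?_, rfl⟩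
        have hh := (mem_normalizer_iff.1 (hHW (secHom_mem V₀ ⊥ (x := ⟨k, h.hH hk⟩) hk)) (φ ⟨y, hy⟩)).2
        apply hh
        rw [hconj, show (⟨k * y * k⁻¹, _⟩ : V₀) = v from Subtype.ext e.symm]
        exact hv
  have hbound : (centralizer (X : Set (Holo V₀ ⊥))).relIndex (secTop V₀ ⊥) ≤ q ^ d * Nat.card X := by
    rw [hidx]
    refine Nat.le_of_mul_le_mul_right ?_
      (Nat.card_pos (α := (E ⊓ centralizer (V₀ : Set G) : Subgroup G)))
    rw [mul_assoc, hcardX]
    exact hloss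
  have hXC := h.toSData.offender hRZ' hgen' hZtop hd X (secImg_mono V₀ ⊥ hER) hXe
    (secImg_inf_centralizer V₀ ⊥ E) hbound
  have hce := mem_centralizer_iff.1 (hXC (secHom_mem V₀ ⊥ (x := ⟨e, hES he⟩) he)) _
    (secHom_mem V₀ ⊥ (x := ⟨g, h.hH hg⟩) hg)
  have h1 : secHom V₀ ⊥ (⟨g, h.hH hg⟩ * ⟨e, hES he⟩ * ⟨g, h.hH hg⟩⁻¹ * ⟨e, hES he⟩⁻¹) = 1 := by
    rw [map_mul, map_mul, map_mul, map_inv, map_inv, hce, mul_inv_cancel_right, mul_inv_cancel]
  rw [mem_centralizer_iff]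
  intro v hv
  have h2 := (secHom_eq_one V₀ ⊥).1 h1 v hv
  simp only [coe_mul, coe_inv] at h2
  rw [mem_bot, mul_inv_eq_one, mul_inv_eq_iff_eq_mul] at h2
  exact h2.symm

end CfsgLib.SolvSignalizer
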