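import Cfsg.Agent.Lib.SolvSignalizer.Generation
import Cfsg.Agent.Lib.Invol.SignalizerTransitivity
import Cfsg.Agent.Lib.CFun.OddCores
import Cfsg.Agent.Lib.Coprime.Solvable
import Cfsg.Agent.Lib.LocalStructure.FStar

/-!
# A minimal incomplete solvable signalizer functor: members and first consequences
-/

set_option autoImplicit false
set_option linter.style.haveILetI false
set_option linter.unusedSectionVars false

open Subgroup
open scoped commutatorElement
open CfsgLib.Coprime (conj_mem_of_le_normalizer conjBy IsPiNum)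
open CfsgLib.CFun (core coCore)
open Cfsg (signalizerFamily signalizerInf)

namespace CfsgLib.SolvSignalizer

universe u

variable {G : Type u} [Group G]

/-- The properties of a minimal incomplete solvable signalizer functor that the proof uses. -/
structure SFCtx (p : ℕ) (A : Subgroup G) (θ : G → Subgroup G) : Prop where
  elem : Cfsg.IsElementaryAbelian p A
  card : Nat.card A = p ^ 3
  functor : Cfsg.IsSolvableSignalizerFunctor p A θ
  incomplete : ¬ ∃ X ∈ signalizerFamily p A θ, ∀ a ∈ A, a ≠ 1 → θ a ≤ X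
  largest : ∀ N ∈ signalizerFamily p A θ, N ≠ ⊥ →
    ∃ M ∈ signalizerFamily p A θ, N ≤ M ∧ M ≤ normalizer (N : Set G) ∧
      ∀ X ∈ signalizerFamily p A θ, X ≤ normalizer (N : Set G) → X ≤ M
  nn : ∀ N ∈ signalizerFamily p A θ,
    (∀ a ∈ A, a ≠ 1 → θ a ≤ normalizer (N : Set G)) → N = ⊥
  piMember : ∀ π : Set ℕ, (∃ a ∈ A, a ≠ 1 ∧ ¬ IsPiNum π (Nat.card (θ a))) →
    ∃ K ∈ signalizerFamily p A θ, IsPiNum π (Nat.card K) ∧
      signalizerInf A θ ≤ normalizer (K : Set G) ∧
      ∀ X ∈ signalizerFamily p A θ, IsPiNum π (Nat.card X) →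
        signalizerInf A θ ≤ normalizer (X : Set G) → X ≤ K

/-- A maximal member. -/
def IsMaxMem (p : ℕ) (A : Subgroup G) (θ : G → Subgroup G) (Z : Subgroup G) : Prop :=
  Z ∈ signalizerFamily p A θ ∧ ∀ X ∈ signalizerFamily p A θ, Z ≤ X → X = Z

/-- `[H, f]` is normalised by `H`. -/
theorem le_normalizer_commutator_left [Finite G] (H F : Subgroup G) :
    H ≤ normalizer ((⁅H, F⁆ : Subgroup G) : Set G) := by
  refine CfsgLib.Invol.le_normalizer_of_forall_conj fun a ha x hx => ?_
  suffices hle : (⁅H, F⁆ : Subgroup G).map (MulAut.conj a).toMonoidHom ≤ ⁅H, F⁆ from hle ⟨x, hx, rfl⟩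
  rw [map_le_iff_le_comap, commutator_le]
  intro h hh g hg
  show a * ⁅h, g⁆ * a⁻¹ ∈ (⁅H, F⁆ : Subgroup G)
  rw [show a * ⁅h, g⁆ * a⁻¹ = ⁅a * h, g⁆ * ⁅a, g⁆⁻¹ by simp [commutatorElement_def]; group]
  exact mul_mem (commutator_mem_commutator (mul_mem ha hh) hg)
    (inv_mem (commutator_mem_commutator ha hg))

variable [Finite G] {p : ℕ} [hp : Fact p.Prime] {A : Subgroup G} {θ : G → Subgroup G}

namespace SFCtx

variable (h : SFCtx p A θ)

include h

theorem card_le : p ^ 3 ≤ Nat.card A := h.card.ge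

theorem A_ne_bot : A ≠ ⊥ := CfsgLib.Invol.ne_bot_of_card (by norm_num) h.card_le

theorem commA {a b : G} (ha : a ∈ A) (hb : b ∈ A) : a * b = b * a :=
  congrArg Subtype.val (h.elem.1.is_comm.comm (⟨a, ha⟩ : A) ⟨b, hb⟩)

theorem pA : IsPGroup p A := CfsgLib.Invol.isPGroup_of_isElementaryAbelian h.elem

theorem not_cyclic {B : Subgroup G} (hB : B ≤ A) (hB2 : p ^ 2 ≤ Nat.card B) : ¬ IsCyclic B := by
  intro hc
  obtain ⟨g, hg⟩ := hc.exists_generator
  have h1 : Nat.card B ∣ p := by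
    rw [← orderOf_eq_card_of_forall_mem_zpowers hg]
    exact orderOf_dvd_of_pow_eq_one (Subtype.ext (h.elem.2 g (hB g.2)))
  have h2 := hB2.trans (Nat.le_of_dvd hp.out.pos h1)
  have h3 := hp.out.two_le
  nlinarith

theorem not_dvd {X : Subgroup G} (hX : X ∈ signalizerFamily p A θ) : ¬ p ∣ Nat.card X := hX.2.1

theorem coprime {X : Subgroup G} (hX : X ∈ signalizerFamily p A θ) :
    (Nat.card A).Coprime (Nat.card X) :=
  CfsgLib.Invol.coprime_card_of_not_dvd h.pA hX.2.1

theorem theta_mem {a : G} (ha : a ∈ A) (ha1 : a ≠ 1) : θ a ∈ signalizerFamily p A θ :=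
  CfsgLib.Invol.theta_mem_family h.functor ha ha1

theorem theta_le_centralizer {a : G} (ha : a ∈ A) (ha1 : a ≠ 1) :
    θ a ≤ centralizer ({a} : Set G) := h.functor.1.1 a ha ha1

theorem le_normA {X : Subgroup G} (hX : X ∈ signalizerFamily p A θ) :
    A ≤ normalizer (X : Set G) := CfsgLib.Invol.family_normalizer hX

theorem mem_of_le {U X : Subgroup G} (hX : X ∈ signalizerFamily p A θ) (hle : U ≤ X)
    (hinv : A ≤ normalizer (U : Set G)) : U ∈ signalizerFamily p A θ :=
  CfsgLib.Invol.mem_family_of_le hX hle hinv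

theorem inf_mem {U X : Subgroup G} (hX : X ∈ signalizerFamily p A θ)
    (hinv : A ≤ normalizer (U : Set G)) : X ⊓ U ∈ signalizerFamily p A θ :=
  h.mem_of_le hX inf_le_left (CfsgLib.Coprime.inf_le_normalizer (h.le_normA hX) hinv)

theorem sup_mem {X Y : Subgroup G} (hX : X ∈ signalizerFamily p A θ)
    (hY : Y ∈ signalizerFamily p A θ) (hn : Y ≤ normalizer (X : Set G)) :
    X ⊔ Y ∈ signalizerFamily p A θ :=
  CfsgLib.Invol.sup_mem_family h.elem hX hY hn

theorem fix_le {X : Subgroup G} (hX : X ∈ signalizerFamily p A θ) {a : G} (ha : a ∈ A)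
    (ha1 : a ≠ 1) : X ⊓ centralizer ({a} : Set G) ≤ θ a := hX.2.2.2 a ha ha1

/-- A member is generated by its intersections with the values of the functor. -/
theorem le_of_fix {X W : Subgroup G} (hX : X ∈ signalizerFamily p A θ)
    (hW : ∀ a ∈ A, a ≠ 1 → X ⊓ θ a ≤ W) : X ≤ W := by
  haveI := h.elem.1
  refine CfsgLib.Coprime.le_of_centralizers_le (h.not_cyclic le_rfl ?_) (h.le_normA hX) (h.coprime hX)
    fun a ha ha1 => le_trans (le_inf inf_le_left (h.fix_le hX ha ha1)) (hW a ha ha1)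
  exact le_trans (Nat.pow_le_pow_right hp.out.pos (by norm_num)) h.card_le

/-- `θ(C_G(A))`. -/
theorem inf_mem_family : signalizerInf A θ ∈ signalizerFamily p A θ :=
  CfsgLib.Invol.signalizerInf_mem_family h.functor le_rfl h.A_ne_bot

theorem C_le_theta {a : G} (ha : a ∈ A) (ha1 : a ≠ 1) : signalizerInf A θ ≤ θ a :=
  CfsgLib.Invol.signalizerInf_le_theta ha ha1

theorem C_le_centralizer : signalizerInf A θ ≤ centralizer (A : Set G) :=
  CfsgLib.Invol.signalizerInf_le_centralizer h.functor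

/-- The fixed points of `A` in a member lie in `θ(C_G(A))`. -/
theorem fixA_le {X : Subgroup G} (hX : X ∈ signalizerFamily p A θ) :
    X ⊓ centralizer (A : Set G) ≤ signalizerInf A θ := by
  obtain ⟨a, ha, ha1⟩ := (bot_or_exists_ne_one A).resolve_left h.A_ne_bot
  exact fun x hx => CfsgLib.Invol.mem_signalizerInf_of_centralizer h.functor ha ha1
    (h.fix_le hX ha ha1 ⟨hx.1, centralizer_le (Set.singleton_subset_iff.2 ha) hx.2⟩) hx.2

theorem theta_fix_le {a : G} {E : Subgroup G} (ha1 : a ≠ 1) (haE : a ∈ E) (hE : E ≤ A) :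
    θ a ⊓ centralizer (E : Set G) ≤ signalizerInf E θ := by
  intro x hx
  refine mem_iInf.2 fun b => ?_
  exact h.functor.1.2.2.2 a (hE haE) ha1 b.1 (hE b.2.1) b.2.2
    ⟨hx.1, centralizer_le (Set.singleton_subset_iff.2 b.2.1) hx.2⟩

theorem infPlane_le_centralizer {E : Subgroup G} (hE : E ≤ A) :
    signalizerInf E θ ≤ centralizer (E : Set G) := by
  intro x hx
  rw [mem_centralizer_iff]
  intro e he
  rcases eq_or_ne e 1 with rfl | he1
  · simp
  · exact (mem_centralizer_singleton_iff.1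
      (h.theta_le_centralizer (hE he) he1 (CfsgLib.Invol.signalizerInf_le_theta he he1 hx))).symm

theorem plane_ne_bot {E : Subgroup G} (hE : E ≤ A) (hi : E.relIndex A = p) : E ≠ ⊥ := by
  rintro rfl
  rw [relIndex_bot_left, h.card] at hi
  have := hp.out.one_lt
  nlinarith [sq_nonneg (p - 1), Nat.pow_le_pow_right hp.out.pos (show 2 ≤ 3 by norm_num)]

theorem plane_card {E : Subgroup G} (hE : E ≤ A) (hi : E.relIndex A = p) : Nat.card E = p ^ 2 := by
  have h1 := CfsgLib.Coprime.card_mul_relIndex hE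
  rw [hi, h.card, pow_succ] at h1
  exact Nat.eq_of_mul_eq_mul_right hp.out.pos h1

theorem plane_mem {E : Subgroup G} (hE : E ≤ A) (hi : E.relIndex A = p) :
    signalizerInf E θ ∈ signalizerFamily p A θ :=
  CfsgLib.Invol.signalizerInf_mem_family h.functor hE (h.plane_ne_bot hE hi)

/-- Two planes of `A` meet. -/
theorem planes_meet {E F : Subgroup G} (hE : E ≤ A) (hEi : E.relIndex A = p) (hF : F ≤ A)
    (hFi : F.relIndex A = p) : ∃ e, e ∈ E ∧ e ∈ F ∧ e ≠ 1 := by
  by_contra hne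
  push Not at hne
  have hbot : E ⊓ F = ⊥ := (eq_bot_iff_forall _).2 fun x hx => hne x hx.1 hx.2
  let f : E × F → A := fun z => ⟨(z.1 : G) * z.2, mul_mem (hE z.1.2) (hF z.2.2)⟩
  have hf : Function.Injective f := by
    rintro ⟨x₁, y₁⟩ ⟨x₂, y₂⟩ e
    have e' : (x₁ : G) * y₁ = x₂ * y₂ := congrArg Subtype.val e
    have h1 : (x₂ : G)⁻¹ * x₁ = (y₂ : G) * (y₁ : G)⁻¹ := by
      rw [eq_mul_inv_iff_mul_eq, mul_assoc, e', inv_mul_cancel_left]
    have h2 : (x₂ : G)⁻¹ * x₁ ∈ E ⊓ F :=
      mem_inf.2 ⟨mul_mem (inv_mem x₂.2) x₁.2, h1 ▸ mul_mem y₂.2 (inv_mem y₁.2)⟩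
    rw [hbot, mem_bot] at h2
    have hx : x₁ = x₂ := Subtype.ext (inv_mul_eq_one.1 h2).symm
    subst hx
    rw [Prod.mk.injEq]
    exact ⟨rfl, Subtype.ext (mul_left_cancel e')⟩
  have hle := Nat.card_le_card_of_injective f hf
  rw [Nat.card_prod, h.plane_card hE hEi, h.plane_card hF hFi, h.card] at hle
  have h1 := hp.out.one_lt
  nlinarith [Nat.pow_pos (n := 3) hp.out.pos]

/-- A plane through a given element. -/
theorem exists_plane {a : G} (ha : a ∈ A) :
    ∃ E : Subgroup G, E ≤ A ∧ E.relIndex A = p ∧ a ∈ E := by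
  have hpow : Nat.card (zpowers a) ∣ p := by
    rw [Nat.card_zpowers]
    exact orderOf_dvd_of_pow_eq_one (h.elem.2 a ha)
  have hp2 : p ^ 2 ∣ Nat.card A := h.card ▸ pow_dvd_pow p (by norm_num)
  obtain ⟨k, hk, hk'⟩ := (Nat.dvd_prime_pow hp.out).1 (hpow.trans (dvd_pow_self p (n := 2) (by norm_num)))
  have hle : (zpowers a).subgroupOf A = (zpowers a).subgroupOf A := rfl
  obtain ⟨K, hK, haK⟩ := Sylow.exists_subgroup_card_pow_prime_le (p := p) (n := k) (m := 2)
    hp2 ((zpowers a).subgroupOf A)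
    ((Nat.card_congr (subgroupOfEquivOfLe (zpowers_le.2 ha)).toEquiv).trans hk') hk
  refine ⟨K.map A.subtype, map_subtype_le K, ?_, ⟨⟨a, ha⟩, haK (mem_subgroupOf.2 (mem_zpowers a)), rfl⟩⟩
  have h1 := CfsgLib.Coprime.card_mul_relIndex (map_subtype_le K : K.map A.subtype ≤ A)
  rw [card_map_of_injective A.subtype_injective, hK, h.card, pow_succ] at h1
  exact Nat.eq_of_mul_eq_mul_left (pow_pos hp.out.pos 2) h1

/-- A value of the functor is generated by the values at the planes through it. -/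
theorem theta_le_of_planes {W : Subgroup G} {a : G} (ha : a ∈ A) (ha1 : a ≠ 1)
    (hW : ∀ E : Subgroup G, E ≤ A → E.relIndex A = p → a ∈ E →
      θ a ⊓ centralizer (E : Set G) ≤ W) : θ a ≤ W := by
  refine CfsgLib.Coprime.le_of_hyperplanes h.elem
    (le_trans (Nat.pow_le_pow_right hp.out.pos (by norm_num)) h.card_le) (h.not_dvd (h.theta_mem ha ha1))
    (h.le_normA (h.theta_mem ha ha1)) fun E hE hi x hx => ?_
  obtain ⟨E', hE', hi', haE'⟩ := h.exists_plane ha
  by_cases haE : a ∈ E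
  · exact hW E hE hi haE hx
  · -- the fixed points of `A`
    refine hW E' hE' hi' haE' ⟨hx.1, centralizer_le (show (E' : Set G) ⊆ A from hE') ?_⟩
    have hA : E ⊔ zpowers a = A := by
      refine eq_of_le_of_card_ge (sup_le hE (zpowers_le.2 ha)) ?_
      have hlt : E < E ⊔ zpowers a :=
        lt_of_le_of_ne le_sup_left fun e => haE (e ▸ le_sup_right (α := Subgroup G) (mem_zpowers a))
      have hd := Subgroup.card_dvd_of_le (sup_le hE (zpowers_le.2 ha))
      rw [h.card, Nat.dvd_prime_pow hp.out] at hd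
      obtain ⟨i, hi3, hi'⟩ := hd
      have hlt' := (card_le_of_le hlt.le).lt_of_ne fun e => hlt.ne (eq_of_le_of_card_ge hlt.le e.ge)
      rw [h.plane_card hE hi, hi'] at hlt'
      have : 2 < i := (Nat.pow_lt_pow_iff_right hp.out.one_lt).1 hlt'
      rw [h.card, hi', show i = 3 by omega]
    rw [← hA, mem_centralizer_iff]
    intro y hy
    have h1 : (E ⊔ zpowers a : Subgroup G) ≤ centralizer ({x} : Set G) := by
      refine sup_le (fun e he => mem_centralizer_singleton_iff.2 (mem_centralizer_iff.1 hx.2 e he))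
        (zpowers_le.2 (mem_centralizer_singleton_iff.2 ?_))
      exact (mem_centralizer_singleton_iff.1 (h.theta_le_centralizer ha ha1 hx.1)).symm
    exact mem_centralizer_singleton_iff.1 (h1 hy)

/-- The centraliser of `A` in a value is fixed by every element of `A`. -/
theorem commute_of_fix {a f x : G} (ha : a ∈ A) (ha1 : a ≠ 1) {E : Subgroup G} (hE : E ≤ A)
    (hi : E.relIndex A = p) (haE : a ∉ E) (hf : f ∈ A)
    (hx : x ∈ θ a ⊓ centralizer (E : Set G)) : f * x = x * f := by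
  have hA : E ⊔ zpowers a = A := by
    refine eq_of_le_of_card_ge (sup_le hE (zpowers_le.2 ha)) ?_
    have hlt : E < E ⊔ zpowers a :=
      lt_of_le_of_ne le_sup_left fun e => haE (e ▸ le_sup_right (α := Subgroup G) (mem_zpowers a))
    have hd := Subgroup.card_dvd_of_le (sup_le hE (zpowers_le.2 ha))
    rw [h.card, Nat.dvd_prime_pow hp.out] at hd
    obtain ⟨i, hi3, hi'⟩ := hd
    have hlt' := (card_le_of_le hlt.le).lt_of_ne fun e => hlt.ne (eq_of_le_of_card_ge hlt.le e.ge)
    rw [h.plane_card hE hi, hi'] at hlt'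
    have : 2 < i := (Nat.pow_lt_pow_iff_right hp.out.one_lt).1 hlt'
    rw [h.card, hi', show i = 3 by omega]
  have h1 : (E ⊔ zpowers a : Subgroup G) ≤ centralizer ({x} : Set G) := by
    refine sup_le (fun e he => mem_centralizer_singleton_iff.2 (mem_centralizer_iff.1 hx.2 e he))
      (zpowers_le.2 (mem_centralizer_singleton_iff.2 ?_))
    exact (mem_centralizer_singleton_iff.1 (h.theta_le_centralizer ha ha1 hx.1)).symm
  exact mem_centralizer_singleton_iff.1 (h1 (hA.symm ▸ hf))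

/-- No member contains the values at the points of a plane. -/
theorem no_plane_member {X L : Subgroup G} (hX : X ∈ signalizerFamily p A θ) (hL : L ≤ A)
    (hi : L.relIndex A = p) (hXL : ∀ b ∈ L, b ≠ 1 → θ b ≤ X) : False := by
  refine h.incomplete ⟨X, hX, fun a ha ha1 => ?_⟩
  haveI : IsMulCommutative L := ⟨⟨fun x y => Subtype.ext (h.commA (hL x.2) (hL y.2))⟩⟩
  exact CfsgLib.Coprime.le_of_centralizers_le (h.not_cyclic hL (h.plane_card hL hi).ge)
    (hL.trans (h.le_normA (h.theta_mem ha ha1)))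
    ((h.coprime (h.theta_mem ha ha1)).coprime_dvd_left (card_dvd_of_le hL))
    fun b hb hb1 => (h.functor.1.2.2.2 a ha ha1 b (hL hb) hb1).trans (hXL b hb hb1)

/-- No member contains all the commutators with `f` of the values at the planes avoiding `f`. -/
theorem no_commutator_member {X : Subgroup G} {f : G} (hX : X ∈ signalizerFamily p A θ) (hf : f ∈ A)
    (hf1 : f ≠ 1)
    (hXf : ∀ E : Subgroup G, E ≤ A → E.relIndex A = p → f ∉ E →
      ⁅signalizerInf E θ, zpowers f⁆ ≤ X) : False := by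
  set N : Subgroup G :=
    ⨆ E : {E : Subgroup G // E ≤ A ∧ E.relIndex A = p ∧ f ∉ E}, ⁅signalizerInf E.1 θ, zpowers f⁆
    with hN
  have hAf : A ≤ normalizer (zpowers f : Set G) := by
    refine le_trans ?_ (CfsgLib.Coprime.centralizer_le_normalizer_self _)
    intro b hb
    exact mem_centralizer_iff.2 fun g hg => h.commA (zpowers_le.2 hf hg) hb
  have hAN : A ≤ normalizer (N : Set G) := by
    refine CfsgLib.Invol.le_normalizer_of_forall_conj fun b hb x hx => ?_
    suffices hle : N.map (MulAut.conj b).toMonoidHom ≤ N from hle ⟨x, hx, rfl⟩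
    rw [hN, Subgroup.map_iSup, iSup_le_iff]
    intro E
    refine le_trans ?_ (le_iSup (fun E : {E : Subgroup G // E ≤ A ∧ E.relIndex A = p ∧ f ∉ E} =>
      ⁅signalizerInf E.1 θ, zpowers f⁆) E)
    rintro _ ⟨y, hy, rfl⟩
    exact (mem_normalizer_iff.1 (CfsgLib.CFun.le_normalizer_commutator
      (h.le_normA (h.plane_mem E.2.1 E.2.2.1)) hAf hb) y).1 hy
  have hNX : N ≤ X := iSup_le fun E => hXf E.1 E.2.1 E.2.2.1 E.2.2.2
  have hNmem := h.mem_of_le hX hNX hAN
  -- commutators at each point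
  have hpoint : ∀ e ∈ A, e ≠ 1 → ⁅θ e, zpowers f⁆ ≤ N := by
    intro e he he1
    refine commutator_le_of_hyperplanes h.elem
      (le_trans (Nat.pow_le_pow_right hp.out.pos (by norm_num)) h.card_le)
      (h.not_dvd (h.theta_mem he he1)) (h.functor.2 e he he1) (h.le_normA (h.theta_mem he he1)) hf
      fun E hE hi hfE => ?_
    by_cases heE : e ∈ E
    · exact (commutator_mono (h.theta_fix_le he1 heE hE) le_rfl).trans
        (le_iSup (fun E : {E : Subgroup G // E ≤ A ∧ E.relIndex A = p ∧ f ∉ E} =>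
          ⁅signalizerInf E.1 θ, zpowers f⁆) ⟨E, hE, hi, hfE⟩)
    · rw [commutator_le]
      intro x hx g hg
      rw [commutatorElement_def, ← h.commute_of_fix he he1 hE hi heE (zpowers_le.2 hf hg) hx,
        mul_inv_cancel_right, mul_inv_cancel]
      exact one_mem _
  -- every plane value normalises `N`
  have hplane : ∀ M : Subgroup G, M ≤ A → M.relIndex A = p →
      signalizerInf M θ ≤ normalizer (N : Set G) := by
    intro M hM hMi
    refine CfsgLib.Invol.le_normalizer_of_forall_conj fun g hg x hx => ?_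
    suffices hle : N.map (MulAut.conj g).toMonoidHom ≤ N from hle ⟨x, hx, rfl⟩
    conv_lhs => rw [hN, Subgroup.map_iSup]
    rw [iSup_le_iff]
    intro E
    obtain ⟨e, heM, heE, he1⟩ := h.planes_meet hM hMi E.2.1 E.2.2.1
    rintro _ ⟨y, hy, rfl⟩
    refine hpoint e (hM heM) he1 ?_
    exact (mem_normalizer_iff.1 (le_normalizer_commutator_left _ _
      (CfsgLib.Invol.signalizerInf_le_theta heM he1 hg)) y).1
      (commutator_mono (CfsgLib.Invol.signalizerInf_le_theta heE he1) le_rfl hy)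
  have hbot := h.nn N hNmem fun a ha ha1 => h.theta_le_of_planes ha ha1 fun M hM hMi haM =>
    (h.theta_fix_le ha1 haM hM).trans (hplane M hM hMi)
  -- so `θ f` contains everything
  have hEf : ∀ E : Subgroup G, E ≤ A → E.relIndex A = p → signalizerInf E θ ≤ θ f := by
    intro E hE hi x hx
    obtain ⟨e, he, he1⟩ := (bot_or_exists_ne_one E).resolve_left (h.plane_ne_bot hE hi)
    refine h.functor.1.2.2.2 e (hE he) he1 f hf hf1
      ⟨CfsgLib.Invol.signalizerInf_le_theta he he1 hx, mem_centralizer_singleton_iff.2 ?_⟩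
    by_cases hfE : f ∈ E
    · exact (mem_centralizer_iff.1 (h.infPlane_le_centralizer hE hx) f hfE).symm
    · have h1 : ⁅x, f⁆ ∈ N := le_iSup (fun E : {E : Subgroup G // E ≤ A ∧ E.relIndex A = p ∧ f ∉ E} =>
        ⁅signalizerInf E.1 θ, zpowers f⁆) ⟨E, hE, hi, hfE⟩ (commutator_mem_commutator hx (mem_zpowers f))
      rw [hbot, mem_bot, commutatorElement_eq_one_iff_mul_comm] at h1
      exact h1
  exact h.incomplete ⟨θ f, h.theta_mem hf hf1, fun a ha ha1 =>
    h.theta_le_of_planes ha ha1 fun E hE hi haE => (h.theta_fix_le ha1 haE hE).trans (hEf E hE hi)⟩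

/-- Maximal members exist above every member. -/
theorem exists_max {X : Subgroup G} (hX : X ∈ signalizerFamily p A θ) :
    ∃ Z, IsMaxMem p A θ Z ∧ X ≤ Z := by
  obtain ⟨Z, hXZ, hZ⟩ := exists_maximal_ge_of_wellFoundedGT
    (fun Y : Subgroup G => Y ∈ signalizerFamily p A θ) X hX
  exact ⟨Z, ⟨hZ.prop, fun Y hY hle => le_antisymm (hZ.2 hY hle) hle⟩, hXZ⟩

/-- Members normalising a nontrivial normal member of a maximal member lie in it. -/
theorem le_max {Z N X : Subgroup G} (hZ : IsMaxMem p A θ Z) (hN : N ≤ Z)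
    (hNA : A ≤ normalizer (N : Set G)) (hN1 : N ≠ ⊥) (hZN : Z ≤ normalizer (N : Set G))
    (hX : X ∈ signalizerFamily p A θ) (hXN : X ≤ normalizer (N : Set G)) : X ≤ Z := by
  obtain ⟨M, hM, -, -, hMax⟩ := h.largest N (h.mem_of_le hZ.1 hN hNA) hN1
  rw [← hZ.2 M hM (hMax Z hZ.1 hZN)]
  exact hMax X hX hXN

/-- The members normalising a nontrivial member lie in one maximal member. -/
theorem exists_max_normalizer {N : Subgroup G} (hN : N ∈ signalizerFamily p A θ) (hN1 : N ≠ ⊥) :
    ∃ Z, IsMaxMem p A θ Z ∧ N ≤ Z ∧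
      ∀ X ∈ signalizerFamily p A θ, X ≤ normalizer (N : Set G) → X ≤ Z := by
  obtain ⟨M, hM, hNM, -, hMax⟩ := h.largest N hN hN1
  obtain ⟨Z, hZ, hMZ⟩ := h.exists_max hM
  exact ⟨Z, hZ, hNM.trans hMZ, fun X hX hXN => (hMax X hX hXN).trans hMZ⟩

/-! ### Primes -/

theorem theta_ne_bot : ∃ a ∈ A, a ≠ 1 ∧ θ a ≠ ⊥ := by
  by_contra hne
  push Not at hne
  exact h.incomplete ⟨⊥, CfsgLib.Invol.bot_mem_family, fun a ha ha1 => (hne a ha ha1).le⟩

theorem prime_ne_p {X : Subgroup G} (hX : X ∈ signalizerFamily p A θ) {q : ℕ}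
    (hd : q ∣ Nat.card X) : q ≠ p := fun e => hX.2.1 (e ▸ hd)

theorem isPGroup_of_pi {q : ℕ} [Fact q.Prime] {X : Subgroup G} (h0 : IsPiNum {q} (Nat.card X)) :
    IsPGroup q X := by
  have := h
  rw [CfsgLib.Coprime.isPGroup_iff_isPiNum]
  exact h0

/-- A `q`-member normalised by `θ(C_G(A))` lies in every maximal `q`-member. -/
theorem le_maxMember {q : ℕ} [Fact q.Prime] (hqp : q ≠ p) {U Q : Subgroup G}
    (hU : U ∈ signalizerFamily p A θ) (hUq : IsPGroup q U)
    (hUC : signalizerInf A θ ≤ normalizer (U : Set G))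
    (hQ : CfsgLib.Invol.IsMaxMember p A θ q Q) : U ≤ Q := by
  obtain ⟨Q₁, hQ₁, hUQ⟩ := CfsgLib.Invol.exists_maxMember_ge hU hUq
  obtain ⟨c, hc, e⟩ := CfsgLib.Invol.maxMember_conj h.elem h.card_le h.functor hqp _ Q₁ Q hQ₁ hQ rfl
  rw [← e, ← CfsgLib.Coprime.conjBy_eq_self_iff.2 (hUC hc)]
  exact map_mono hUQ

/-- The values of the functor are not all groups of one prime. -/
theorem not_single {q : ℕ} [Fact q.Prime] : ∃ a ∈ A, a ≠ 1 ∧ ¬ IsPiNum {q} (Nat.card (θ a)) := by
  by_contra hne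
  push Not at hne
  have hq : ∀ a ∈ A, a ≠ 1 → IsPGroup q (θ a) := fun a ha ha1 => h.isPGroup_of_pi (hne a ha ha1)
  obtain ⟨a₀, ha₀, ha₀1, hne0⟩ := h.theta_ne_bot
  have hqp : q ≠ p := by
    obtain ⟨n, hn⟩ := IsPGroup.iff_card.1 (hq a₀ ha₀ ha₀1)
    refine h.prime_ne_p (h.theta_mem ha₀ ha₀1) ?_
    rcases n with - | n
    · exact absurd (card_eq_one.1 (hn.trans (pow_zero q))) hne0
    · rw [hn, pow_succ]
      exact dvd_mul_left q _
  have hCq : IsPGroup q (signalizerInf A θ : Subgroup G) := (hq a₀ ha₀ ha₀1).to_le (h.C_le_theta ha₀ ha₀1)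
  obtain ⟨Q, hQ, hCQ⟩ := CfsgLib.Invol.exists_maxMember_ge h.inf_mem_family hCq
  refine h.incomplete ⟨Q, hQ.1, fun a ha ha1 => ?_⟩
  obtain ⟨Q₁, hQ₁, hle⟩ := CfsgLib.Invol.exists_maxMember_ge (h.theta_mem ha ha1) (hq a ha ha1)
  obtain ⟨c, hc, e⟩ := CfsgLib.Invol.maxMember_conj h.elem h.card_le h.functor hqp _ Q Q₁ hQ hQ₁ rfl
  rwa [← e, CfsgLib.Coprime.conjBy_eq_self_iff.2 (le_normalizer (hCQ hc))] at hle

/-- The largest member for a single prime. -/
theorem primeMember (q : ℕ) [Fact q.Prime] : ∃ K ∈ signalizerFamily p A θ, IsPGroup q K ∧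
    signalizerInf A θ ≤ normalizer (K : Set G) ∧
    ∀ X ∈ signalizerFamily p A θ, IsPGroup q X →
      signalizerInf A θ ≤ normalizer (X : Set G) → X ≤ K := by
  obtain ⟨K, hK, hKπ, hKC, hKmax⟩ := h.piMember {q} h.not_single
  refine ⟨K, hK, h.isPGroup_of_pi hKπ, hKC, fun X hX hXq hXC => hKmax X hX ?_ hXC⟩
  rwa [← CfsgLib.Coprime.isPGroup_iff_isPiNum]

/-- If `a` centralises the cores of a maximal member containing `θ a`, that is a contradiction. -/
theorem exists_core_moved {a : G} {J : Subgroup G} (ha : a ∈ A) (ha1 : a ≠ 1)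
    (hJ : IsMaxMem p A θ J) (haJ : θ a ≤ J) :
    ∃ r : ℕ, r.Prime ∧ ¬ core J r ≤ centralizer ({a} : Set G) := by
  by_contra hne
  push Not at hne
  haveI : Group.IsSolvable J := hJ.1.1
  have hap : a ^ p = 1 := h.elem.2 a ha
  -- `J` is centralised by `a`
  have hF : Cfsg.fittingOf J ≤ centralizer ({a} : Set G) := CfsgLib.CFun.fittingOf_le_of_cores hne
  have haN : a ∈ normalizer (J : Set G) := h.le_normA hJ.1 ha
  have hJa : J ≤ centralizer ({a} : Set G) := by
    intro j hj
    rw [mem_centralizer_singleton_iff]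
    set w := a * j * a⁻¹ * j⁻¹ with hw
    have hwJ : w ∈ J := mul_mem ((mem_normalizer_iff.1 haN j).1 hj) (inv_mem hj)
    have hwF : w ∈ Cfsg.fittingOf J := by
      refine CfsgLib.CFun.centralizer_fittingOf_le ⟨hwJ, mem_centralizer_iff.2 fun f hf => ?_⟩
      have h1 : a * f = f * a := (mem_centralizer_singleton_iff.1 (hF hf)).symm
      have h2 := (mem_centralizer_singleton_iff.1 (hF
        ((mem_normalizer_iff''.1 (CfsgLib.CFun.le_normalizer_fittingOf hj) f).1 hf))).symm
      calc f * w = f * a * j * a⁻¹ * j⁻¹ := by rw [hw]; group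
        _ = a * f * j * a⁻¹ * j⁻¹ := by rw [h1]
        _ = a * j * ((j⁻¹ * f * j) * a⁻¹) * j⁻¹ := by group
        _ = a * j * (a⁻¹ * (j⁻¹ * f * j)) * j⁻¹ := by
          rw [show (j⁻¹ * f * j) * a⁻¹ = a⁻¹ * (j⁻¹ * f * j) by
            rw [eq_inv_mul_iff_mul_eq, ← mul_assoc, h2, mul_inv_cancel_right]]
        _ = w * f := by rw [hw]; group
    have hcop : (orderOf a).Coprime (orderOf w) := by
      refine ((hp.out.coprime_iff_not_dvd.2 hJ.1.2.1).coprime_dvd_left
        (orderOf_dvd_of_pow_eq_one hap)).coprime_dvd_right ?_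
      rw [← orderOf_mk w hwJ]
      exact orderOf_dvd_natCard _
    have h1 := CfsgLib.Coprime.eq_one_of_conj_eq_mul (a := a) (x := j) (u := w)
      (by rw [hw]; group)
      (by rw [(mem_centralizer_singleton_iff.1 (hF hwF)).symm, mul_inv_cancel_right]) hcop
    rw [hw, mul_inv_eq_one, mul_inv_eq_iff_eq_mul] at h1
    exact h1.symm
  have hJθ : J ≤ θ a := fun x hx => h.fix_le hJ.1 ha ha1 ⟨hx, hJa hx⟩
  have hJne : J ≠ ⊥ := by
    rintro rfl
    obtain ⟨b, hb, hb1, hne⟩ := h.theta_ne_bot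
    exact hne (hJ.2 _ (h.theta_mem hb hb1) bot_le)
  have hCJ : signalizerInf A θ ≤ J := (h.C_le_theta ha ha1).trans haJ
  obtain ⟨u, hu, hU1⟩ : ∃ u : ℕ, u.Prime ∧ core J u ≠ ⊥ := by
    by_contra hnone
    push Not at hnone
    have hF0 : Cfsg.fittingOf J = ⊥ :=
      le_bot_iff.1 (CfsgLib.CFun.fittingOf_le_of_cores fun t ht => (hnone t ht).le)
    refine hJne (le_bot_iff.1 (hF0 ▸ fun x hx => CfsgLib.CFun.centralizer_fittingOf_le ⟨hx, ?_⟩))
    rw [hF0]
    exact mem_centralizer_iff.2 fun y hy => by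
      rw [SetLike.mem_coe, mem_bot] at hy
      simp [hy]
  haveI := Fact.mk hu
  set U := core J u with hU
  have hUA : A ≤ normalizer (U : Set G) := (h.le_normA hJ.1).trans
    (CfsgLib.LS.normalizer_le_normalizer_map_char (hW := CfsgLib.Coprime.pCore_characteristic u) _)
  have hUu : IsPGroup u U := CfsgLib.CFun.isPGroup_core
  have hUmem := h.mem_of_le hJ.1 CfsgLib.CFun.core_le hUA
  have hud : u ∣ Nat.card U := by
    obtain ⟨n, hn⟩ := IsPGroup.iff_card.1 hUu
    rcases n with - | n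
    · exact absurd (card_eq_one.1 (hn.trans (pow_zero u))) hU1
    · rw [hn, pow_succ]; exact dvd_mul_left u _
  have hup : u ≠ p := h.prime_ne_p hUmem hud
  have haU : U ≤ centralizer ({a} : Set G) := hne u hu
  have hUC : signalizerInf A θ ≤ normalizer (U : Set G) := hCJ.trans CfsgLib.CFun.le_normalizer_core
  -- `a` centralises the maximal `u`-members
  have hmaxU : ∀ Q : Subgroup G, CfsgLib.Invol.IsMaxMember p A θ u Q →
      Q ≤ centralizer ({a} : Set G) := by
    intro Q hQ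
    have hUQ : U ≤ Q := h.le_maxMember hup hUmem hUu hUC hQ
    have hC : Q ⊓ centralizer (U : Set G) ≤ centralizer (zpowers a : Set G) := by
      have hmem : Q ⊓ centralizer (U : Set G) ∈ signalizerFamily p A θ :=
        h.inf_mem hQ.1 (hUA.trans (CfsgLib.Coprime.normalizer_le_normalizer_centralizer U))
      have hle : Q ⊓ centralizer (U : Set G) ≤ J :=
        h.le_max hJ CfsgLib.CFun.core_le hUA hU1 CfsgLib.CFun.le_normalizer_core hmem
          (inf_le_right.trans (CfsgLib.Coprime.centralizer_le_normalizer_self U))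
      rw [zpowers_eq_closure, centralizer_closure]
      exact hle.trans hJa
    have hUa : U ≤ centralizer (zpowers a : Set G) := by
      rw [zpowers_eq_closure, centralizer_closure]; exact haU
    have hcop : (Nat.card (zpowers a)).Coprime u := by
      rw [Nat.card_zpowers]
      exact ((Nat.coprime_primes hp.out hu).2 hup.symm).coprime_dvd_left (orderOf_dvd_of_pow_eq_one hap)
    have := CfsgLib.Coprime.pq_lemma hUu hcop hQ.2.1 hUa (hUQ.trans le_normalizer)
      ((zpowers_le.2 ha).trans (h.le_normA hQ.1)) hC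
    rw [le_centralizer_iff, zpowers_eq_closure, centralizer_closure] at this
    exact this
  -- so the commutators with `a` lie in the `u'`-member
  obtain ⟨X, hX, hXπ, hXC, hXmax⟩ := h.piMember {r | r ≠ u} ⟨a, ha, ha1, fun hπ =>
    hπ u hu (hud.trans (card_dvd_of_le (CfsgLib.CFun.core_le.trans hJθ))) rfl⟩
  refine h.no_commutator_member hX ha ha1 fun E hE hi haE => ?_
  obtain ⟨e, he, he1⟩ := (bot_or_exists_ne_one E).resolve_left (h.plane_ne_bot hE hi)
  refine (commutator_mono (CfsgLib.Invol.signalizerInf_le_theta he he1) le_rfl).trans ?_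
  set H := θ e with hH
  have hHm := h.theta_mem (hE he) he1
  haveI : Group.IsSolvable H := hHm.1
  have hHA := h.le_normA hHm
  refine le_trans ?_ (hXmax (coCore H u) (h.mem_of_le hHm CfsgLib.CFun.coCore_le (hHA.trans
      (CfsgLib.LS.normalizer_le_normalizer_map_char
        (hW := CfsgLib.Coprime.pPrimeCore_characteristic u) _)))
    (fun r hr hd e => CfsgLib.CFun.not_dvd_coCore (e ▸ hd))
    ((h.C_le_theta (hE he) he1).trans CfsgLib.CFun.le_normalizer_coCore))
  -- the automorphism induced by `a`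
  obtain ⟨S, hS, hSA⟩ := CfsgLib.Coprime.exists_invariant_sylow hHA (h.coprime hHm)
    (Or.inl (CfsgLib.Coprime.isSolvable_of_isMulCommutative h.elem.1)) u
  obtain ⟨R, hR, hSR⟩ := CfsgLib.Invol.exists_maxMember_ge (h.mem_of_le hHm hS.1 hSA) hS.isPGroup
  have hSa : S ≤ centralizer ({a} : Set G) := hSR.trans (hmaxU R hR)
  set K := Cfsg.pPrimeCore u H with hK
  haveI : K.Normal := Subgroup.sSup_normal _ (fun _ hh => hh.1)
  haveI := CfsgLib.Coprime.pPrimeCore_characteristic (G := H) u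
  let φ : H ≃* H := normalizerMonoidHom H ⟨a, hHA ha⟩
  let ψ : H ⧸ K ≃* H ⧸ K := QuotientGroup.congr K K φ (characteristic_iff_map_eq.1 inferInstance φ)
  have hψ : ∀ x : H, ψ (QuotientGroup.mk x) = QuotientGroup.mk (φ x) := fun x => rfl
  haveI : Group.IsSolvable (H ⧸ K) := Group.isSolvable_of_surjective (QuotientGroup.mk'_surjective K)
  set O := Cfsg.pCore u (H ⧸ K) with hO
  haveI : O.Normal := CfsgLib.Coprime.pCore_normal' u
  have hfixO : ∀ o ∈ O, ψ o = o := by
    intro o ho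
    let P := hS.toSylow.mapSurjective (QuotientGroup.mk'_surjective K)
    have hmem := CfsgLib.Coprime.pCore_le_sylow P ho
    rw [Sylow.coe_mapSurjective] at hmem
    obtain ⟨s, hs, rfl⟩ := hmem
    have hsS : (s : G) ∈ S := by
      rw [← hS.map_toSylow]
      exact ⟨s, hs, rfl⟩
    refine congrArg QuotientGroup.mk (Subtype.ext ?_)
    show a * (s : G) * a⁻¹ = s
    rw [← mem_centralizer_singleton_iff.1 (hSa hsS), mul_inv_cancel_right]
  have hψid : ∀ x, ψ x = x := by
    intro x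
    set c := ψ x * x⁻¹ with hc
    have hcO : c ∈ O := by
      refine CfsgLib.Coprime.centralizer_pCore_le (CfsgLib.Coprime.pPrimeCore_quotient_eq_bot hu)
        (mem_centralizer_iff.2 fun o ho => ?_)
      have h1 := hfixO _ ((inferInstance : O.Normal).conj_mem o ho x)
      rw [map_mul, map_mul, map_inv, hfixO o ho] at h1
      calc o * c = ψ x * ((ψ x)⁻¹ * o * ψ x) * x⁻¹ := by rw [hc]; group
        _ = ψ x * (x⁻¹ * o * x) * x⁻¹ := by
          have h2 := hfixO _ ((inferInstance : O.Normal).conj_mem o ho x⁻¹)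
          rw [inv_inv, map_mul, map_mul, map_inv, hfixO o ho] at h2
          rw [h2]
        _ = c * o := by rw [hc]; group
    have hiter : ∀ n : ℕ, ((⇑ψ)^[n]) x = c ^ n * x := by
      intro n
      induction n with
      | zero => simp
      | succ n ih =>
        rw [Function.iterate_succ_apply', ih, map_mul, map_pow, hfixO c hcO, pow_succ, hc]
        group
    have hφ : ∀ (n : ℕ) (y : H), ((⇑ψ)^[n]) (QuotientGroup.mk y) =
        QuotientGroup.mk (((normalizerMonoidHom H) (⟨a, hHA ha⟩ ^ n)) y) := by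
      intro n
      induction n with
      | zero => intro y; simp
      | succ n ih =>
        intro y
        rw [Function.iterate_succ_apply', ih, hψ, pow_succ', map_mul]
        rfl
    obtain ⟨y, rfl⟩ := QuotientGroup.mk_surjective x
    have h1 := hφ p y
    rw [show (⟨a, hHA ha⟩ : normalizer (H : Set G)) ^ p = 1 from Subtype.ext hap, map_one, hiter] at h1
    have h3 : c ^ p = 1 := mul_eq_right.1 h1
    obtain ⟨k, hk⟩ := (CfsgLib.Coprime.pCore_isPGroup (G := H ⧸ K) u) ⟨c, hcO⟩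
    have hcone : c = 1 := orderOf_eq_one_iff.1 (Nat.eq_one_of_dvd_coprimes
      ((Nat.coprime_primes hp.out hu).2 hup.symm |>.pow_right k)
      (orderOf_dvd_of_pow_eq_one h3) (orderOf_dvd_of_pow_eq_one (congrArg Subtype.val hk)))
    rw [hc, mul_inv_eq_one] at hcone
    exact hcone
  have hstep : ∀ x : H, φ x * x⁻¹ ∈ K := fun x => by
    rw [← QuotientGroup.eq_one_iff, QuotientGroup.mk_mul, QuotientGroup.mk_inv, ← hψ, hψid,
      mul_inv_cancel]
  have hKn : H ≤ normalizer (coCore H u : Set G) := CfsgLib.CFun.le_normalizer_coCore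
  have haK : a ∈ normalizer (coCore H u : Set G) :=
    CfsgLib.LS.normalizer_le_normalizer_map_char K (hHA ha)
  rw [commutator_le]
  intro x hx g hg
  let F : Subgroup G :=
    { carrier := {g | g ∈ normalizer (H : Set G) ∧ g ∈ normalizer (coCore H u : Set G) ∧
        ∀ x ∈ H, g * x * g⁻¹ * x⁻¹ ∈ coCore H u}
      one_mem' := ⟨one_mem _, one_mem _, fun x _ => by simp⟩
      mul_mem' := fun {g k} hg hk => ⟨mul_mem hg.1 hk.1, mul_mem hg.2.1 hk.2.1, fun x hx => by
        rw [show g * k * x * (g * k)⁻¹ * x⁻¹ =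
          g * (k * x * k⁻¹ * x⁻¹) * g⁻¹ * (g * x * g⁻¹ * x⁻¹) by group]
        exact mul_mem ((mem_normalizer_iff.1 hg.2.1 _).1 (hk.2.2 x hx)) (hg.2.2 x hx)⟩
      inv_mem' := fun {g} hg => ⟨inv_mem hg.1, inv_mem hg.2.1, fun x hx => by
        rw [show g⁻¹ * x * g⁻¹⁻¹ * x⁻¹ = g⁻¹ * (g * x * g⁻¹ * x⁻¹)⁻¹ * g by group]
        exact (mem_normalizer_iff''.1 hg.2.1 _).1 (inv_mem (hg.2.2 x hx))⟩ }
  have hF' : zpowers a ≤ F := zpowers_le.2 ⟨hHA ha, haK, fun x hx => ⟨_, hstep ⟨x, hx⟩, rfl⟩⟩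
  have := inv_mem ((hF' hg).2.2 x hx)
  rw [commutatorElement_def]
  simpa [mul_assoc] using this

end SFCtx

end CfsgLib.SolvSignalizer
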