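import Mathlib.Algebra.Module.Torsion.Basic
import Mathlib.LinearAlgebra.LinearIndependent.Basic
import Mathlib.LinearAlgebra.Dual.Lemmas
import Mathlib.RingTheory.Nakayama
import Mathlib.RingTheory.Artinian.Ring
import Mathlib.RingTheory.Ideal.Quotient.Basic
import Mathlib.Algebra.CharP.Lemmas
import Mathlib.GroupTheory.OrderOfElement
import Mathlib.GroupTheory.Perm.Fin

/-!
# An abelian operator group normalised by a fixed point free element and a commuting element

`R` is abelian, `b` acts on it without fixed points and `b`, `z` act compatibly on the module `W`.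
If `R` fixes the displacement by `z` of every point fixed by `b`, then `z` does not change the
action of `R`.
-/

set_option autoImplicit false
set_option linter.style.haveILetI false
set_option linter.unusedSectionVars false

namespace CfsgLib.SolvSignalizer

universe u v

variable {W : Type u} [AddCommGroup W] [Finite W] {R : Type v} [CommGroup R] [Finite R]
  {p l : ℕ} [hp : Fact p.Prime] [hl : Fact l.Prime]

omit [Finite W] [Finite R] [AddCommGroup W] [CommGroup R] hl in
/-- Functions equal to their shift by a period prime to `p` and by `p` are constant on orbits. -/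
theorem iterate_eq_of_coprime {α : Type v} (f : α → α) (hfp : f^[p] = id) {β : Type*} (φ : α → β)
    {m : ℕ} (hm : ¬ p ∣ m) (h : ∀ a, φ (f^[m] a) = φ a) (a : α) : φ (f a) = φ a := by
  have hmul : ∀ k : ℕ, ∀ a, φ (f^[m * k] a) = φ a := by
    intro k
    induction k with
    | zero => intro a; simp
    | succ k ih => intro a; rw [Nat.mul_succ, Function.iterate_add_apply, ih, h]
  obtain ⟨k, -, hk⟩ := Nat.exists_mul_mod_eq_one_of_coprime
    ((hp.out.coprime_iff_not_dvd.2 hm).symm) hp.out.one_lt
  have e := Nat.mod_add_div (m * k) p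
  rw [hk] at e
  have hmk := hmul k a
  rw [← e, Function.iterate_add_apply, Function.iterate_mul, hfp, Function.iterate_id, id,
    Function.iterate_one] at hmk
  exact hmk

omit [Finite R] hp hl in
theorem iterate_comm {σ τ : R ≃* R} (h : ∀ r, σ (τ r) = τ (σ r)) (i : ℕ) (r : R) :
    σ^[i] (τ r) = τ (σ^[i] r) := by
  induction i with
  | zero => rfl
  | succ i ih => rw [Function.iterate_succ_apply', Function.iterate_succ_apply', ih, h]

/-- A vector valued relation between characters kills the coefficient of a character occurring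
once. -/
theorem eq_zero_of_sum_smul {M : Type*} [MulOneClass M] {L : Type*} [Field L] {V : Type*}
    [AddCommGroup V] [Module L V] {ψ ψ' : ℕ → (M →* L)} {c d : ℕ → V} {n : ℕ} (hn : 0 < n)
    (hc : ∀ i < n, ψ' i = ψ' 0 → i = 0) (hd : ∀ i < n, ψ i ≠ ψ' 0)
    (h : ∀ x, ∑ i ∈ Finset.range n, ψ' i x • c i = ∑ i ∈ Finset.range n, ψ i x • d i) :
    c 0 = 0 := by
  classical
  rw [← Module.forall_dual_apply_eq_zero_iff L]
  intro φ
  let F : Finset (M →* L) := (Finset.range n).image ψ ∪ (Finset.range n).image ψ'
  let coef : (M →* L) → L := fun f =>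
    (∑ i ∈ (Finset.range n).filter (fun i => ψ' i = f), φ (c i)) -
      ∑ i ∈ (Finset.range n).filter (fun i => ψ i = f), φ (d i)
  have hli := linearIndependent_monoidHom M L
  rw [linearIndependent_iff'] at hli
  have h0 := hli F coef (by
    funext x
    simp only [Finset.sum_apply, Pi.smul_apply, smul_eq_mul, Pi.zero_apply, coef, sub_mul,
      Finset.sum_sub_distrib, Finset.sum_mul]
    rw [sub_eq_zero]
    have hx := congrArg φ (h x)
    simp only [map_sum, map_smul, smul_eq_mul] at hx
    calc _ = ∑ f ∈ F, ∑ i ∈ (Finset.range n).filter (fun i => ψ' i = f), ψ' i x * φ (c i) :=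
          Finset.sum_congr rfl fun f _ => Finset.sum_congr rfl fun i hi => by
            rw [(Finset.mem_filter.1 hi).2, mul_comm]
      _ = ∑ i ∈ Finset.range n, ψ' i x * φ (c i) := Finset.sum_fiberwise_of_maps_to (fun i hi =>
            Finset.mem_union_right _ (Finset.mem_image_of_mem _ hi)) _
      _ = ∑ i ∈ Finset.range n, ψ i x * φ (d i) := hx
      _ = ∑ f ∈ F, ∑ i ∈ (Finset.range n).filter (fun i => ψ i = f), ψ i x * φ (d i) :=
          (Finset.sum_fiberwise_of_maps_to (fun i hi =>
            Finset.mem_union_left _ (Finset.mem_image_of_mem _ hi)) _).symm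
      _ = _ := Finset.sum_congr rfl fun f _ => Finset.sum_congr rfl fun i hi => by
            rw [(Finset.mem_filter.1 hi).2, mul_comm])
    (ψ' 0) (Finset.mem_union_right _ (Finset.mem_image_of_mem _ (Finset.mem_range.2 hn)))
  have hf1 : (Finset.range n).filter (fun i => ψ' i = ψ' 0) = {0} := by
    ext i
    simp only [Finset.mem_filter, Finset.mem_range, Finset.mem_singleton]
    exact ⟨fun h => hc i h.1 h.2, fun h => ⟨h ▸ hn, by rw [h]⟩⟩
  have hf2 : (Finset.range n).filter (fun i => ψ i = ψ' 0) = ∅ :=
    Finset.filter_eq_empty_iff.2 fun i hi => hd i (Finset.mem_range.1 hi)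
  simp only [coef, hf1, hf2, Finset.sum_singleton, Finset.sum_empty, sub_zero] at h0
  exact h0

/-- If `b` has no fixed point on `R` and `R` fixes the `z`-displacement of the points fixed by
`b`, then the action of `R` is unchanged by `z`. -/
theorem rho_tau_eq (hW : ∀ w : W, l • w = 0) (hlR : ¬ l ∣ Nat.card R) (ρ : R →* AddMonoid.End W)
    (b z z' : AddMonoid.End W) (σ τ : R ≃* R) (hσp : (⇑σ)^[p] = id) (hbp : b ^ p = 1)
    {m : ℕ} (hm : ¬ p ∣ m) (hτm : (⇑τ)^[m] = id) (hzz : z * z' = 1)
    (hb : ∀ r, b * ρ r = ρ (σ r) * b) (hz : ∀ r, z * ρ r = ρ (τ r) * z)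
    (hbz : b * z = z * b) (hστ : ∀ r, σ (τ r) = τ (σ r)) (hfpf : ∀ r, σ r = r → r = 1)
    (hfix : ∀ w, b w = w → ∀ r, ρ r (z w - w) = z w - w) (r : R) : ρ (τ r) = ρ r := by
  classical
  by_cases hnt : Subsingleton W
  · exact DFunLike.ext _ _ fun w => Subsingleton.elim _ _
  rw [not_subsingleton_iff_nontrivial] at hnt
  haveI : Fintype R := Fintype.ofFinite R
  -- the commutative ring generated by the operators
  let S := Subring.closure (Set.range ρ : Set (AddMonoid.End W))
  letI : CommRing S := Subring.closureCommRingOfComm (by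
    rintro _ ⟨x, rfl⟩ _ ⟨y, rfl⟩
    rw [← map_mul, ← map_mul, mul_comm])
  haveI : Finite (AddMonoid.End W) := Finite.of_injective _ DFunLike.coe_injective
  letI : Module S W :=
    { smul := fun s w => (s : AddMonoid.End W) w
      one_smul := fun w => rfl
      mul_smul := fun s t w => rfl
      smul_zero := fun s => map_zero _
      smul_add := fun s => map_add _
      add_smul := fun s t w => rfl
      zero_smul := fun w => rfl }
  let g : R →* S :=
    { toFun := fun x => ⟨ρ x, Subring.subset_closure ⟨x, rfl⟩⟩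
      map_one' := Subtype.ext (map_one ρ)
      map_mul' := fun x y => Subtype.ext (map_mul ρ x y) }
  have hg : ∀ (x : R) (w : W), g x • w = ρ x w := fun x w => rfl
  have hintb : ∀ (x : R) (w : W), b (ρ x w) = ρ (σ x) (b w) := fun x w =>
    DFunLike.congr_fun (hb x) w
  have hintz : ∀ (x : R) (w : W), z (ρ x w) = ρ (τ x) (z w) := fun x w =>
    DFunLike.congr_fun (hz x) w
  -- the averaging operator
  set e : AddMonoid.End W := ∑ x, ρ x with he
  have hev : ∀ w, e w = ∑ x, ρ x w := fun w => AddMonoidHom.finsetSum_apply _ _ _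
  have heρ : ∀ x w, e (ρ x w) = e w := by
    intro x w
    rw [hev, hev]
    refine Fintype.sum_equiv (Equiv.mulRight x) _ _ fun y => ?_
    rw [Equiv.coe_mulRight, map_mul]
    rfl
  have hcomm_e : ∀ (c : AddMonoid.End W) (f : R ≃* R), (∀ x w, c (ρ x w) = ρ (f x) (c w)) →
      ∀ w, e (c w) = c (e w) := by
    intro c f hc w
    rw [hev, hev, map_sum]
    refine (Fintype.sum_equiv f.toEquiv _ _ fun x => ?_).symm
    exact hc x w
  have hefix : ∀ f : W, (∀ x, ρ x f = f) → e f = 0 → f = 0 := by
    intro f hf hef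
    rw [hev, Finset.sum_congr rfl fun x _ => hf x, Finset.sum_const,
      Finset.card_univ, ← Nat.card_eq_fintype_card] at hef
    have hdvd1 := addOrderOf_dvd_of_nsmul_eq_zero hef
    have hdvd2 := addOrderOf_dvd_of_nsmul_eq_zero (hW f)
    exact AddMonoid.addOrderOf_eq_one_iff.1
      (Nat.eq_one_of_dvd_coprimes ((hl.out.coprime_iff_not_dvd.2 hlR)) hdvd2 hdvd1)
  -- the trace of the powers of `b`
  set T : W → W := fun w => ∑ i ∈ Finset.range p, (b ^ i) w with hT
  have hbT : ∀ w, b (T w) = T w := by
    intro w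
    have h1 : (∑ i ∈ Finset.range p, (b ^ (i + 1)) w) + (b ^ 0) w = T w + (b ^ p) w := by
      rw [← Finset.sum_range_succ' (fun i => (b ^ i) w), hT, Finset.sum_range_succ]
    rw [hbp, pow_zero] at h1
    show b (∑ i ∈ Finset.range p, (b ^ i) w) = T w
    rw [map_sum, ← add_right_cancel h1]
    exact Finset.sum_congr rfl fun i _ => by rw [pow_succ']; rfl
  have hbz' : ∀ (i : ℕ) w, (b ^ i) (z w) = z ((b ^ i) w) := fun i w =>
    DFunLike.congr_fun ((Commute.pow_left hbz i).eq) w
  have hTz : ∀ w, T (z w) = z (T w) := fun w => by simp only [hT, map_sum, hbz']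
  have heT : ∀ w, e w = 0 → T (z w) = T w := by
    intro w hw
    have heb : ∀ i : ℕ, e ((b ^ i) w) = 0 := by
      intro i
      induction i with
      | zero => simpa using hw
      | succ i ih =>
        rw [pow_succ', show (b * b ^ i) w = b ((b ^ i) w) from rfl, hcomm_e b σ hintb, ih, map_zero]
    have heTw : e (T w) = 0 := by simp only [hT, map_sum, heb, Finset.sum_const_zero]
    rw [hTz]
    refine sub_eq_zero.1 (hefix _ (hfix _ (hbT w)) ?_)
    rw [map_sub, hcomm_e z τ hintz, heTw, map_zero, sub_zero]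
  have hbρ : ∀ (i : ℕ) (x : R) (w : W), (b ^ i) (ρ x w) = ρ ((⇑σ)^[i] x) ((b ^ i) w) := by
    intro i
    induction i with
    | zero => intro x w; rfl
    | succ i ih =>
      intro x w
      rw [pow_succ', Function.iterate_succ_apply']
      show b ((b ^ i) (ρ x w)) = _
      rw [ih, hintb]
      rfl
  -- at each maximal ideal
  have key : ∀ I : Ideal S, I.IsMaximal → ∀ x : R, g (τ x) - g x ∈ I := by
    intro I hI
    letI := Ideal.Quotient.field I
    let χ : R →* S ⧸ I := (Ideal.Quotient.mk I).toMonoidHom.comp g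
    suffices hχ : ∀ x, χ (τ x) = χ x from fun x => Ideal.Quotient.eq.1 (hχ x)
    by_contra hne
    push Not at hne
    obtain ⟨x₀, hx₀⟩ := hne
    have hχ1 : ∃ y, χ y ≠ 1 := by
      by_contra h
      push Not at h
      exact hx₀ (by rw [h, h])
    -- the shifts are distinct characters
    let ψ : ℕ → (R →* S ⧸ I) := fun i =>
      { toFun := fun x => χ ((⇑σ)^[i] x)
        map_one' := by rw [Function.iterate_fixed (map_one σ), map_one]
        map_mul' := fun x y => by rw [iterate_map_mul, map_mul] }
    let ψ' : ℕ → (R →* S ⧸ I) := fun i => (ψ i).comp τ.toMonoidHom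
    have hσbij : Function.Bijective fun x : R => σ x * x⁻¹ := by
      refine Finite.injective_iff_bijective.1 fun x y hxy => ?_
      refine eq_of_mul_inv_eq_one (hfpf _ ?_)
      rw [map_mul, map_inv]
      calc σ x * (σ y)⁻¹ = σ x * x⁻¹ * (x * (σ y)⁻¹) := by group
        _ = σ y * y⁻¹ * (x * (σ y)⁻¹) := by rw [show σ x * x⁻¹ = σ y * y⁻¹ from hxy]
        _ = x * y⁻¹ := by rw [mul_comm x (σ y)⁻¹, mul_comm x y⁻¹]; simp [mul_comm, mul_left_comm]
    have hψ : ∀ i j, i < p → j < p → ψ i = ψ j → i = j := by
      intro i j hi hj hij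
      by_contra hne
      wlog hlt : i < j generalizing i j
      · exact this j i hj hi hij.symm (Ne.symm hne) (by omega)
      have hper : ∀ x, χ ((⇑σ)^[j - i] x) = χ x := by
        intro x
        have := DFunLike.congr_fun hij ((⇑σ)^[p - i] x)
        simp only [ψ, MonoidHom.coe_mk, OneHom.coe_mk] at this
        rw [← Function.iterate_add_apply, ← Function.iterate_add_apply,
          show i + (p - i) = p by omega, show j + (p - i) = (j - i) + p by omega,
          Function.iterate_add_apply, hσp] at this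
        exact this.symm
      have h1 := iterate_eq_of_coprime (⇑σ) hσp χ
        (fun hd => absurd (Nat.le_of_dvd (by omega) hd) (by omega)) hper
      obtain ⟨y, hy⟩ := hχ1
      obtain ⟨x, rfl⟩ := hσbij.2 y
      refine hy ?_
      rw [map_mul, h1, ← map_mul, mul_inv_cancel, map_one]
    have hψ' : ∀ i j, i < p → j < p → ψ' i = ψ' j → i = j := fun i j hi hj hij =>
      hψ i j hi hj (MonoidHom.ext fun x => by simpa [ψ'] using DFunLike.congr_fun hij (τ.symm x))
    have hdisj : ∀ i < p, ψ' 0 ≠ ψ i := by
      intro j hj hji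
      have h1 : ∀ (k : ℕ) x, χ ((⇑τ)^[k] x) = χ ((⇑σ)^[j * k] x) := by
        intro k
        induction k with
        | zero => intro x; rfl
        | succ k ih =>
          intro x
          rw [Function.iterate_succ_apply, ih, iterate_comm hστ, Nat.mul_succ, Nat.add_comm,
            Function.iterate_add_apply]
          exact DFunLike.congr_fun hji _
      have hper : ∀ x, χ ((⇑σ)^[j * m] x) = χ x := fun x => by rw [← h1, hτm]; rfl
      rcases Nat.eq_zero_or_pos j with h0 | hj0
      · refine hx₀ ?_
        simpa [h0, ψ, ψ'] using DFunLike.congr_fun hji x₀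
      · have h2 := iterate_eq_of_coprime (⇑σ) hσp χ (fun hd => (hp.out.dvd_mul.1 hd).elim
          (fun h => absurd (Nat.le_of_dvd hj0 h) (by omega)) hm) hper
        obtain ⟨y, hy⟩ := hχ1
        obtain ⟨x, rfl⟩ := hσbij.2 y
        refine hy ?_
        rw [map_mul, h2, ← map_mul, mul_inv_cancel, map_one]
    -- linear independence
    set N : Submodule S W := I • ⊤ with hN
    obtain ⟨y₁, hy₁⟩ := hχ1
    set y₀ := τ.symm y₁ with hy₀
    have hzero : ∀ w : W, Submodule.Quotient.mk (p := N) (z (ρ y₀ w - w)) = 0 := by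
      intro w
      set u := ρ y₀ w - w with hu
      have hrel : ∀ x : R, T (z (ρ x u)) = T (ρ x u) := fun x => heT _ (by
        rw [heρ, hu, map_sub, heρ, sub_self])
      have hmk : ∀ (y : R) (v : W), Submodule.Quotient.mk (p := N) (ρ y v) =
          χ y • Submodule.Quotient.mk (p := N) v := fun y v => rfl
      refine eq_zero_of_sum_smul (ψ := ψ) (ψ' := ψ')
        (c := fun i => Submodule.Quotient.mk (p := N) ((b ^ i) (z u)))
        (d := fun i => Submodule.Quotient.mk (p := N) ((b ^ i) u)) (n := p) hp.out.pos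
        (fun i hi h => hψ' i 0 hi hp.out.pos h) (fun i hi h => hdisj i hi h.symm) fun x => ?_
      have h := congrArg N.mkQ (hrel x)
      simp only [hT, hintz, hbρ, map_sum, Submodule.mkQ_apply, hmk] at h
      exact h
    -- so the quotient by the ideal is trivial
    have htop : (⊤ : Submodule S W) ≤ I • ⊤ := by
      intro v _
      obtain ⟨w, rfl⟩ : ∃ w, z w = v := ⟨z' v, by
        rw [← show (z * z') v = z (z' v) from rfl, hzz]; rfl⟩
      have h := hzero w
      rw [map_sub, hintz, Submodule.Quotient.mk_sub] at h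
      rw [hy₀, MulEquiv.apply_symm_apply] at h
      have h2 : (χ y₁ - 1) • Submodule.Quotient.mk (p := N) (z w) = 0 := by
        rw [sub_smul, one_smul]
        exact h
      exact (Submodule.Quotient.mk_eq_zero _).1
        ((smul_eq_zero.1 h2).resolve_left (sub_ne_zero.2 hy₁))
    obtain ⟨s, hs, hsw⟩ := Submodule.exists_sub_one_mem_and_smul_eq_zero_of_fg_of_le_smul I ⊤
      (Module.Finite.fg_top) htop
    have hs0 : s = 0 := Subtype.ext (DFunLike.ext _ _ fun w => hsw w Submodule.mem_top)
    rw [hs0, zero_sub] at hs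
    exact hI.ne_top ((Ideal.eq_top_iff_one I).2 (by simpa using I.neg_mem hs))
  -- the difference is nilpotent
  haveI : Nontrivial S := by
    obtain ⟨w, hw⟩ := exists_ne (0 : W)
    exact ⟨1, 0, fun h => hw (DFunLike.congr_fun (congrArg Subtype.val h) w)⟩
  haveI : CharP S l := (CharP.charP_iff_prime_eq_zero hl.out).2
    (Subtype.ext (DFunLike.ext _ _ fun w => by
      show ((l : ℕ) : AddMonoid.End W) w = 0
      simpa using hW w))
  have hnil : IsNilpotent (g (τ r) - g r) := by
    rw [← mem_nilradical, nilradical_eq_sInf, Ideal.mem_sInf]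
    intro J hJ
    haveI : J.IsPrime := hJ
    exact key J (IsArtinianRing.isMaximal_of_isPrime J) r
  obtain ⟨n, hn⟩ := hnil
  have hpow : (g (τ r) - g r) ^ (l ^ n) = 0 :=
    pow_eq_zero_of_le (Nat.lt_pow_self hl.out.one_lt).le hn
  rw [sub_pow_char_pow, sub_eq_zero, ← map_pow, ← map_pow] at hpow
  have hcop : (l ^ n).Coprime (Nat.card R) := (hl.out.coprime_iff_not_dvd.2 hlR).pow_left n
  have hfin : g (τ r) = g r := by
    rcases Nat.eq_or_lt_of_le (Nat.card_pos (α := R)) with h1 | h1
    · haveI : Subsingleton R := (Nat.card_eq_one_iff_unique.1 h1.symm).1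
      rw [Subsingleton.elim (τ r) r]
    obtain ⟨k, -, hk⟩ := Nat.exists_mul_mod_eq_one_of_coprime hcop h1
    have hk' : ∀ y : R, y ^ (l ^ n * k) = y := fun y => by
      rw [← pow_mod_natCard, hk, pow_one]
    calc g (τ r) = g ((τ r ^ l ^ n) ^ k) := by rw [← pow_mul, hk']
      _ = g ((r ^ l ^ n) ^ k) := by rw [← map_pow τ r, map_pow g, hpow, ← map_pow g r, ← map_pow]
      _ = g r := by rw [← pow_mul, hk']
  exact congrArg Subtype.val hfin

/-- If `b` has no fixed point on `R` and `R` fixes every point fixed by `b`, then `R` acts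
trivially. -/
theorem rho_eq_one (hW : ∀ w : W, l • w = 0) (hlR : ¬ l ∣ Nat.card R) (ρ : R →* AddMonoid.End W)
    (b : AddMonoid.End W) (σ : R ≃* R) (hσp : (⇑σ)^[p] = id) (hbp : b ^ p = 1)
    (hb : ∀ r, b * ρ r = ρ (σ r) * b) (hfpf : ∀ r, σ r = r → r = 1)
    (hfix : ∀ w, b w = w → ∀ r, ρ r w = w) (r : R) : ρ r = 1 := by
  classical
  -- several copies of the module, permuted by an operator of order prime to `p`
  obtain ⟨m, hm2, hm⟩ : ∃ m : ℕ, 2 ≤ m ∧ ¬ p ∣ m := by
    by_cases h : p = 2
    · exact ⟨3, by omega, by rw [h]; omega⟩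
    · exact ⟨2, le_rfl, fun hd => h ((Nat.prime_dvd_prime_iff_eq hp.out Nat.prime_two).1 hd)⟩
  let π : Equiv.Perm (Fin m) := finRotate m
  let ρ' : (Fin m → R) →* AddMonoid.End (Fin m → W) :=
    { toFun := fun x => AddMonoidHom.mk' (fun w i => ρ (x i) (w i))
        (fun v w => funext fun i => map_add _ _ _)
      map_one' := DFunLike.ext _ _ fun w => funext fun i => by
        show ρ ((1 : Fin m → R) i) (w i) = w i
        rw [Pi.one_apply, map_one]
        rfl
      map_mul' := fun x y => DFunLike.ext _ _ fun w => funext fun i => by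
        show ρ (x i * y i) (w i) = ρ (x i) (ρ (y i) (w i))
        rw [map_mul]
        rfl }
  let b' : AddMonoid.End (Fin m → W) :=
    AddMonoidHom.mk' (fun w i => b (w i)) (fun v w => funext fun i => map_add _ _ _)
  let mkz : Equiv.Perm (Fin m) → AddMonoid.End (Fin m → W) := fun f =>
    AddMonoidHom.mk' (fun w i => w (f i)) (fun v w => rfl)
  let σ' : (Fin m → R) ≃* (Fin m → R) := MulEquiv.piCongrRight fun _ => σ
  let τ' : (Fin m → R) ≃* (Fin m → R) :=
    { toFun := fun x i => x (π i)
      invFun := fun x i => x (π.symm i)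
      left_inv := fun x => funext fun i => by simp
      right_inv := fun x => funext fun i => by simp
      map_mul' := fun x y => rfl }
  have hσ' : ∀ (n : ℕ) x i, (⇑σ')^[n] x i = (⇑σ)^[n] (x i) := by
    intro n
    induction n with
    | zero => intro x i; rfl
    | succ n ih => intro x i; rw [Function.iterate_succ_apply', Function.iterate_succ_apply', ← ih]; rfl
  have hτ' : ∀ (n : ℕ) x i, (⇑τ')^[n] x i = x ((⇑π)^[n] i) := by
    intro n
    induction n with
    | zero => intro x i; rfl
    | succ n ih => intro x i; rw [Function.iterate_succ_apply, ih, Function.iterate_succ_apply']; rfl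
  have hb' : ∀ (n : ℕ) w i, (b' ^ n) w i = (b ^ n) (w i) := by
    intro n
    induction n with
    | zero => intro w i; rfl
    | succ n ih =>
      intro w i
      rw [pow_succ', pow_succ']
      show b ((b' ^ n) w i) = b ((b ^ n) (w i))
      rw [ih]
  have hπ : (⇑π)^[m] = id := by
    obtain ⟨k, rfl⟩ : ∃ k, m = k + 2 := ⟨m - 2, by omega⟩
    have ho : π ^ (k + 2) = 1 := by
      have := (isCycle_finRotate (n := k)).orderOf
      rw [support_finRotate, Finset.card_fin] at this
      have h2 := pow_orderOf_eq_one π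
      rwa [this] at h2
    rw [Equiv.Perm.iterate_eq_pow, ho]
    rfl
  have hcard : ¬ l ∣ Nat.card (Fin m → R) := by
    rw [Nat.card_fun, Nat.card_fin]
    exact fun hd => hlR (hl.out.dvd_of_dvd_pow hd)
  have key := rho_tau_eq (W := Fin m → W) (fun w => funext fun i => hW (w i)) hcard ρ' b'
    (mkz π) (mkz π.symm) σ' τ' (funext fun x => funext fun i => by rw [hσ', hσp]; rfl)
    (DFunLike.ext _ _ fun w => funext fun i => by rw [hb', hbp]; rfl) hm
    (funext fun x => funext fun i => by rw [hτ', hπ]; rfl)
    (DFunLike.ext _ _ fun w => funext fun i => by show w (π.symm (π i)) = w i; simp)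
    (fun x => DFunLike.ext _ _ fun w => funext fun i => DFunLike.congr_fun (hb (x i)) (w i))
    (fun x => DFunLike.ext _ _ fun w => rfl) rfl (fun x => rfl)
    (fun x hx => funext fun i => hfpf _ (congrFun hx i))
    (fun w hw x => funext fun i => by
      show ρ (x i) ((w (π i)) - w i) = w (π i) - w i
      rw [map_sub, hfix _ (congrFun hw (π i)), hfix _ (congrFun hw i)])
  have h0 : (⟨0, by omega⟩ : Fin m) ≠ π ⟨0, by omega⟩ := by
    intro h
    obtain ⟨k, rfl⟩ : ∃ k, m = k + 2 := ⟨m - 2, by omega⟩
    simp [π, finRotate_apply, Fin.ext_iff] at h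
  refine DFunLike.ext _ _ fun w => ?_
  let x : Fin m → R := Pi.mulSingle (π ⟨0, by omega⟩) r
  have h1 := congrFun (DFunLike.congr_fun (key x) fun _ => w) ⟨0, by omega⟩
  change ρ (x (π ⟨0, by omega⟩)) w = ρ (x ⟨0, by omega⟩) w at h1
  simp only [x] at h1
  rw [Pi.mulSingle_eq_same, Pi.mulSingle_eq_of_ne h0, map_one] at h1
  exact h1

end CfsgLib.SolvSignalizer
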