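import Cfsg.Agent.Lib.SolvSignalizer.Frame
import Cfsg.Agent.Lib.PGroup.ElementaryBasic

/-!
# Large elementary abelian subgroups of a `q`-group

`eJ q k P` is generated by the elementary subgroups within a factor `q ^ k` of the largest order,
`zOne q P` consists of the points common to the largest ones and central in `eJ q 1 P`.
-/

set_option autoImplicit false
set_option linter.style.haveILetI false
set_option linter.unusedSectionVars false

open Subgroup

namespace CfsgLib.SolvSignalizer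

universe u

variable {G : Type u} [Group G]

/-- The largest order of an elementary abelian `q`-subgroup of `P`. -/
noncomputable def eOrd (q : ℕ) (P : Subgroup G) : ℕ :=
  sSup {n | ∃ E : Subgroup G, E ≤ P ∧ Cfsg.IsElementaryAbelian q E ∧ Nat.card E = n}

/-- The elementary subgroups of `P` within a factor `q ^ k` of the largest order. -/
def IsBig (q k : ℕ) (P E : Subgroup G) : Prop :=
  E ≤ P ∧ Cfsg.IsElementaryAbelian q E ∧ eOrd q P ≤ q ^ k * Nat.card E

/-- The subgroup generated by them. -/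
def eJ (q k : ℕ) (P : Subgroup G) : Subgroup G :=
  ⨆ E : {E : Subgroup G // IsBig q k P E}, (E : Subgroup G)

/-- The points common to all largest elementary subgroups and central in `eJ q 1 P`. -/
def zOne (q : ℕ) (P : Subgroup G) : Subgroup G :=
  (⨅ E : {E : Subgroup G // IsBig q 0 P E}, (E : Subgroup G)) ⊓ centralizer (eJ q 1 P : Set G)

variable [Finite G] {q k : ℕ} [hq : Fact q.Prime] {P P' E : Subgroup G}

theorem le_eOrd (hE : E ≤ P) (he : Cfsg.IsElementaryAbelian q E) : Nat.card E ≤ eOrd q P := by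
  refine le_csSup ⟨Nat.card G, ?_⟩ ⟨E, hE, he, rfl⟩
  rintro n ⟨F, -, -, rfl⟩
  exact Nat.le_of_dvd Nat.card_pos F.card_subgroup_dvd_card

theorem bot_elementary : Cfsg.IsElementaryAbelian q (⊥ : Subgroup G) :=
  ⟨⟨⟨fun a b => Subsingleton.elim _ _⟩⟩, fun a ha => by rw [mem_bot.1 ha, one_pow]⟩

theorem exists_isBig (P : Subgroup G) : ∃ E, IsBig q 0 P E ∧ Nat.card E = eOrd q P := by
  have hne : {n | ∃ E : Subgroup G, E ≤ P ∧ Cfsg.IsElementaryAbelian q E ∧ Nat.card E = n}.Nonempty :=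
    ⟨_, ⊥, bot_le, bot_elementary, rfl⟩
  obtain ⟨E, hE, he, hc⟩ := Nat.sSup_mem hne ⟨Nat.card G, by
    rintro n ⟨F, -, -, rfl⟩
    exact Nat.le_of_dvd Nat.card_pos F.card_subgroup_dvd_card⟩
  exact ⟨E, ⟨hE, he, by rw [pow_zero, one_mul, hc]; rfl⟩, hc⟩

theorem IsBig.card_eq (h : IsBig q 0 P E) : Nat.card E = eOrd q P :=
  le_antisymm (le_eOrd h.1 h.2.1) (by simpa using h.2.2)

theorem IsBig.mono {l : ℕ} (h : IsBig q k P E) (hkl : k ≤ l) : IsBig q l P E :=
  ⟨h.1, h.2.1, h.2.2.trans (Nat.mul_le_mul_right _ (Nat.pow_le_pow_right hq.out.pos hkl))⟩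

theorem IsBig.le_eJ (h : IsBig q k P E) : E ≤ eJ q k P :=
  le_iSup (fun E : {E : Subgroup G // IsBig q k P E} => (E : Subgroup G)) ⟨E, h⟩

theorem eJ_le : eJ q k P ≤ P := iSup_le fun E => E.2.1

theorem eJ_mono {l : ℕ} (hkl : k ≤ l) : eJ q k P ≤ eJ q l P :=
  iSup_le fun E => (E.2.mono hkl).le_eJ

theorem zOne_le_big (h : IsBig q 0 P E) : zOne q P ≤ E :=
  inf_le_left.trans (iInf_le (fun E : {E : Subgroup G // IsBig q 0 P E} => (E : Subgroup G)) ⟨E, h⟩)

theorem zOne_le : zOne q P ≤ P := by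
  obtain ⟨E, hE, -⟩ := exists_isBig (q := q) P
  exact (zOne_le_big hE).trans hE.1

theorem zOne_le_centralizer : zOne q P ≤ centralizer (eJ q 1 P : Set G) := inf_le_right

theorem zOne_elementary : Cfsg.IsElementaryAbelian q (zOne q P) := by
  obtain ⟨E, hE, -⟩ := exists_isBig (q := q) P
  exact ⟨⟨⟨fun a b => Subtype.ext (CfsgLib.EABasic.comm_of_isElementaryAbelian hE.2.1
    (zOne_le_big hE a.2) (zOne_le_big hE b.2))⟩⟩, fun a ha => hE.2.1.2 a (zOne_le_big hE ha)⟩

theorem omegaZ_le_big (h : IsBig q 0 P E) : omegaZ q P ≤ E := by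
  have hle : E ⊔ omegaZ q P = E := by
    refine (eq_of_le_of_card_ge le_sup_left ?_).symm
    rw [h.card_eq]
    exact le_eOrd (sup_le h.1 omegaZ_le) (CfsgLib.EABasic.isElementaryAbelian_sup h.2.1
      omegaZ_elementary fun a ha b hb => mem_centralizer_iff.1 hb.2.1 a (h.1 ha))
  exact le_sup_right.trans hle.le

theorem omegaZ_le_zOne : omegaZ q P ≤ zOne q P :=
  le_inf (le_iInf fun E => omegaZ_le_big E.2)
    (omegaZ_le_centralizer.trans (centralizer_le eJ_le))

theorem zOne_ne_bot (hP : IsPGroup q P) (h : P ≠ ⊥) : zOne q P ≠ ⊥ := fun e =>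
  omegaZ_ne_bot hP h (le_bot_iff.1 (omegaZ_le_zOne.trans e.le))

theorem isBig_map {g : G} (hg : g ∈ normalizer (P : Set G)) (h : IsBig q k P E) :
    IsBig q k P (E.map (MulAut.conj g).toMonoidHom) := by
  refine ⟨?_, ⟨⟨⟨?_⟩⟩, ?_⟩, ?_⟩
  · rintro _ ⟨x, hx, rfl⟩
    exact (mem_normalizer_iff.1 hg x).1 (h.1 hx)
  · rintro ⟨_, x, hx, rfl⟩ ⟨_, y, hy, rfl⟩
    refine Subtype.ext ?_
    show MulAut.conj g x * MulAut.conj g y = MulAut.conj g y * MulAut.conj g x
    rw [← map_mul, ← map_mul, CfsgLib.EABasic.comm_of_isElementaryAbelian h.2.1 hx hy]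
  · rintro _ ⟨x, hx, rfl⟩
    rw [← map_pow, h.2.1.2 x hx, map_one]
  · rw [card_map_of_injective (MulAut.conj g).injective]
    exact h.2.2

theorem normalizer_le_eJ : normalizer (P : Set G) ≤ normalizer (eJ q k P : Set G) := by
  refine CfsgLib.Invol.le_normalizer_of_forall_conj fun g hg x hx => ?_
  have hle : (eJ q k P).map (MulAut.conj g).toMonoidHom ≤ eJ q k P := by
    rw [eJ, Subgroup.map_iSup, iSup_le_iff]
    exact fun E => (isBig_map hg E.2).le_eJ
  exact hle ⟨x, hx, rfl⟩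

theorem normalizer_le_zOne : normalizer (P : Set G) ≤ normalizer (zOne q P : Set G) := by
  refine CfsgLib.Invol.le_normalizer_of_forall_conj fun g hg x hx => ⟨mem_iInf.2 fun E => ?_,
    (mem_normalizer_iff.1 (CfsgLib.Coprime.normalizer_le_normalizer_centralizer _
      (normalizer_le_eJ hg)) x).1 hx.2⟩
  obtain ⟨y, hy, e⟩ := mem_iInf.1 hx.1 ⟨_, isBig_map (inv_mem hg) E.2⟩
  have e' : g⁻¹ * y * g = x := by simpa using e
  rw [← e', show g * (g⁻¹ * y * g) * g⁻¹ = y by group]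
  exact hy

theorem eOrd_eq_of_le (hk : eJ q k P ≤ P') (hle : P' ≤ P) : eOrd q P' = eOrd q P := by
  obtain ⟨E, hE, hc⟩ := exists_isBig (q := q) P'
  obtain ⟨F, hF, hd⟩ := exists_isBig (q := q) P
  refine le_antisymm (hc ▸ le_eOrd (hE.1.trans hle) hE.2.1) (hd ▸ le_eOrd ?_ hF.2.1)
  exact ((hF.mono (Nat.zero_le k)).le_eJ).trans hk

theorem isBig_iff_of_le {l : ℕ} (hlk : l ≤ k) (hk : eJ q k P ≤ P') (hle : P' ≤ P) :
    IsBig q l P' E ↔ IsBig q l P E := by
  unfold IsBig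
  rw [eOrd_eq_of_le hk hle]
  exact ⟨fun h => ⟨h.1.trans hle, h.2⟩, fun h =>
    ⟨((IsBig.mono (show IsBig q l P E from h) hlk).le_eJ).trans hk, h.2⟩⟩

theorem eJ_eq_of_le {l : ℕ} (hlk : l ≤ k) (hk : eJ q k P ≤ P') (hle : P' ≤ P) :
    eJ q l P' = eJ q l P :=
  le_antisymm (iSup_le fun E => ((isBig_iff_of_le hlk hk hle).1 E.2).le_eJ)
    (iSup_le fun E => ((isBig_iff_of_le hlk hk hle).2 E.2).le_eJ)

theorem zOne_eq_of_le (hk : eJ q 1 P ≤ P') (hle : P' ≤ P) : zOne q P' = zOne q P := by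
  unfold zOne
  rw [eJ_eq_of_le le_rfl hk hle]
  congr 1
  exact le_antisymm
    (le_iInf fun E => iInf_le (fun E : {E : Subgroup G // IsBig q 0 P' E} => (E : Subgroup G))
      ⟨E.1, (isBig_iff_of_le (Nat.zero_le 1) hk hle).2 E.2⟩)
    (le_iInf fun E => iInf_le (fun E : {E : Subgroup G // IsBig q 0 P E} => (E : Subgroup G))
      ⟨E.1, (isBig_iff_of_le (Nat.zero_le 1) hk hle).1 E.2⟩)

/-- An elementary subgroup moves a central elementary subgroup of `P` little. -/
theorem loss_le {U : Subgroup G} (hU : U ≤ P) (hUe : Cfsg.IsElementaryAbelian q U)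
    (hE : IsBig q k P E) :
    (centralizer (E : Set G)).relIndex U * Nat.card (E ⊓ centralizer (U : Set G) : Subgroup G) ≤
      q ^ k * Nat.card E := by
  set E₀ := E ⊓ centralizer (U : Set G) with hE₀
  have hE₀e : Cfsg.IsElementaryAbelian q E₀ :=
    ⟨⟨⟨fun a b => Subtype.ext (CfsgLib.EABasic.comm_of_isElementaryAbelian hE.2.1 a.2.1 b.2.1)⟩⟩,
      fun a ha => hE.2.1.2 a ha.1⟩
  have hn : E₀ ≤ normalizer (U : Set G) :=
    inf_le_right.trans (CfsgLib.Coprime.centralizer_le_normalizer_self U)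
  have h1 := CfsgLib.EABasic.card_sup_mul_card_inf_of_le_normalizer hn
  have h2 : Nat.card (E₀ ⊔ U : Subgroup G) ≤ q ^ k * Nat.card E :=
    (le_eOrd (sup_le (inf_le_left.trans hE.1) hU) (CfsgLib.EABasic.isElementaryAbelian_sup hE₀e hUe
      fun a ha b hb => (mem_centralizer_iff.1 ha.2 b hb).symm)).trans hE.2.2
  have h3 : (centralizer (E : Set G)).relIndex U ≤ (E₀ ⊓ U).relIndex U := by
    refine Nat.le_of_dvd (Nat.pos_of_ne_zero index_ne_zero_of_finite)
      (relIndex_dvd_of_le_left U fun x hx => ?_)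
    rw [mem_centralizer_iff]
    exact fun e he => CfsgLib.EABasic.comm_of_isElementaryAbelian hE.2.1 he hx.1.1
  refine le_trans ?_ h2
  refine Nat.le_of_mul_le_mul_right ?_ (Nat.card_pos (α := (E₀ ⊓ U : Subgroup G)))
  rw [h1, ← CfsgLib.Coprime.card_mul_relIndex (inf_le_right : E₀ ⊓ U ≤ U)]
  calc _ ≤ (E₀ ⊓ U).relIndex U * Nat.card E₀ * Nat.card (E₀ ⊓ U : Subgroup G) :=
        Nat.mul_le_mul_right _ (Nat.mul_le_mul_right _ h3)
    _ = _ := by ring

end CfsgLib.SolvSignalizer
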