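import Mathlib.LinearAlgebra.FiniteDimensional.Lemmas
import Mathlib.LinearAlgebra.Dimension.Finite
import Mathlib.LinearAlgebra.Matrix.ToLin
import Mathlib.Algebra.Module.ZMod
import Mathlib.Algebra.Field.ZMod
import Mathlib.LinearAlgebra.FreeModule.Finite.Matrix
import Mathlib.FieldTheory.Finiteness
import Mathlib.GroupTheory.GroupAction.Quotient

/-!
# Independence of a transversal in the endomorphisms and the bound from fixed endomorphisms

`φ` represents `Γ` with central commutators; the representatives `t i` have pairwise different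
commutator patterns.
-/

set_option autoImplicit false
set_option linter.style.haveILetI false
set_option linter.unusedSectionVars false

namespace CfsgLib.SolvSignalizer

universe u v

variable {Γ : Type u} [Group Γ] {ι : Type u} [Fintype ι] {q : ℕ} [hq : Fact q.Prime] {M : Type v}
  [AddCommGroup M] [Module (ZMod q) M]

theorem transversal_indep (φ : Γ →* Module.End (ZMod q) M) (t : ι → Γ)
    (hcomm : ∀ a b n : Γ, Commute (φ (a * b * a⁻¹ * b⁻¹)) (φ n))
    (hsep : ∀ i j, i ≠ j → ∃ h : Γ, ∀ v : M,
      φ (h * t i * h⁻¹ * (t i)⁻¹) v = φ (h * t j * h⁻¹ * (t j)⁻¹) v → v = 0) :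
    ∀ c : ι → Module.End (ZMod q) M, (∀ i n, Commute (c i) (φ n)) → ∑ i, c i * φ (t i) = 0 →
      c = 0 := by
  classical
  suffices H : ∀ (m : ℕ) (c : ι → Module.End (ZMod q) M),
      (Finset.univ.filter fun i => c i ≠ 0).card ≤ m → (∀ i n, Commute (c i) (φ n)) →
        ∑ i, c i * φ (t i) = 0 → c = 0 from fun c => H _ c le_rfl
  intro m
  induction m with
  | zero =>
    intro c hc _ _
    funext i
    by_contra hi
    have : i ∈ Finset.univ.filter fun i => c i ≠ 0 := Finset.mem_filter.2 ⟨Finset.mem_univ _, hi⟩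
    rw [Finset.card_eq_zero.1 (Nat.le_zero.1 hc)] at this
    exact absurd this (Finset.notMem_empty i)
  | succ m ih =>
    intro c hc hcc hsum
    by_contra hne
    obtain ⟨s, hs⟩ : ∃ s, c s ≠ 0 := by
      by_contra h
      push Not at h
      exact hne (funext h)
    obtain ⟨i₀, hi₀, hi₀s⟩ : ∃ i, c i ≠ 0 ∧ i ≠ s := by
      by_contra h
      push Not at h
      rw [Finset.sum_eq_single s (fun i _ his => by rw [by_contra fun hi => his (h i hi), zero_mul])
        (fun h' => absurd (Finset.mem_univ s) h')] at hsum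
      apply hs
      calc c s = c s * φ (t s) * φ (t s)⁻¹ := by rw [mul_assoc, ← map_mul, mul_inv_cancel, map_one, mul_one]
        _ = 0 := by rw [hsum, zero_mul]
    obtain ⟨h, hh⟩ := hsep i₀ s hi₀s
    let z : ι → Module.End (ZMod q) M := fun i => φ (h * t i * h⁻¹ * (t i)⁻¹)
    have hzc : ∀ i n, Commute (z i) (φ n) := fun i n => hcomm h (t i) n
    have hz : ∑ i, c i * z i * φ (t i) = 0 := by
      have e : φ h * (∑ i, c i * φ (t i)) * φ h⁻¹ = 0 := by rw [hsum, mul_zero, zero_mul]
      rw [Finset.mul_sum, Finset.sum_mul] at e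
      rw [← e]
      refine Finset.sum_congr rfl fun i _ => ?_
      calc c i * z i * φ (t i) = c i * φ (h * t i * h⁻¹) := by
            rw [mul_assoc, ← map_mul, inv_mul_cancel_right]
        _ = c i * φ h * (φ (t i) * φ h⁻¹) := by rw [map_mul, map_mul]; simp only [mul_assoc]
        _ = _ := by rw [(hcc i h).eq]; simp only [mul_assoc]
    have hd : ∑ i, c i * (z i - z s) * φ (t i) = 0 := by
      have e : ∑ i, c i * z s * φ (t i) = 0 := by
        have e2 : ∀ i, c i * z s * φ (t i) = c i * φ (t i) * z s := fun i => by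
          rw [mul_assoc, (hzc s (t i)).eq, ← mul_assoc]
        rw [Finset.sum_congr rfl fun i _ => e2 i, ← Finset.sum_mul, hsum, zero_mul]
      simp only [mul_sub, sub_mul, Finset.sum_sub_distrib, hz, e, sub_zero]
    have h0 := ih (fun i => c i * (z i - z s)) ?_
      (fun i n => (hcc i n).mul_left ((hzc i n).sub_left (hzc s n))) hd
    · apply hi₀
      have e : c i₀ * (z i₀ - z s) = 0 := congrFun h0 i₀
      have e' : (z i₀ - z s) * c i₀ = 0 := by
        rw [sub_mul, ← (hcc i₀ _).eq, ← (hcc i₀ _).eq, ← mul_sub]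
        exact e
      refine LinearMap.ext fun v => hh _ ?_
      have := LinearMap.congr_fun e' v
      rw [Module.End.mul_apply, LinearMap.sub_apply, LinearMap.zero_apply, sub_eq_zero] at this
      exact this
    · have hsub : (Finset.univ.filter fun i => c i * (z i - z s) ≠ 0) ⊆
          (Finset.univ.filter fun i => c i ≠ 0).erase s := fun i hi => by
        rw [Finset.mem_filter] at hi
        rw [Finset.mem_erase, Finset.mem_filter]
        refine ⟨fun e => hi.2 (by rw [e, sub_self, mul_zero]), Finset.mem_univ _,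
          fun e => hi.2 (by rw [e, zero_mul])⟩
      have := Finset.card_le_card hsub
      have hmem : s ∈ Finset.univ.filter fun i => c i ≠ 0 := Finset.mem_filter.2 ⟨Finset.mem_univ _, hs⟩
      have he := Finset.card_erase_add_one hmem
      omega

variable [Finite M]

theorem transversal_linearIndependent [Nontrivial M] (φ : Γ →* Module.End (ZMod q) M) (t : ι → Γ)
    (hcomm : ∀ a b n : Γ, Commute (φ (a * b * a⁻¹ * b⁻¹)) (φ n))
    (hsep : ∀ i j, i ≠ j → ∃ h : Γ, ∀ v : M,
      φ (h * t i * h⁻¹ * (t i)⁻¹) v = φ (h * t j * h⁻¹ * (t j)⁻¹) v → v = 0) :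
    LinearIndependent (ZMod q) fun i => φ (t i) := by
  rw [Fintype.linearIndependent_iff]
  intro g hg i
  have h0 := transversal_indep φ t hcomm hsep (fun i => g i • (1 : Module.End (ZMod q) M))
    (fun i n => (Commute.one_left _).smul_left _) (by simpa only [smul_mul_assoc, one_mul] using hg)
  by_contra hgi
  obtain ⟨v, hv⟩ := exists_ne (0 : M)
  have h1 : (1 : Module.End (ZMod q) M) = 0 := (smul_eq_zero.1 (congrFun h0 i)).resolve_left hgi
  exact hv (LinearMap.congr_fun h1 v)

theorem transversal_card_le [Nontrivial M] (φ : Γ →* Module.End (ZMod q) M) (t : ι → Γ)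
    (hcomm : ∀ a b n : Γ, Commute (φ (a * b * a⁻¹ * b⁻¹)) (φ n))
    (hsep : ∀ i j, i ≠ j → ∃ h : Γ, ∀ v : M,
      φ (h * t i * h⁻¹ * (t i)⁻¹) v = φ (h * t j * h⁻¹ * (t j)⁻¹) v → v = 0) :
    Fintype.card ι ≤ Module.finrank (ZMod q) M * Module.finrank (ZMod q) M := by
  haveI : Module.Finite (ZMod q) M := Module.Finite.of_finite
  rw [← Module.finrank_linearMap (ZMod q) (ZMod q) M M]
  exact (transversal_linearIndependent φ t hcomm hsep).fintype_card_le_finrank

/-- An operator with a small commutator space fixes many endomorphisms, so few orbits on the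
transversal cannot absorb them. -/
theorem fixed_end_bound [Nontrivial M] (φ : Γ →* Module.End (ZMod q) M) (t : ι → Γ)
    (hcomm : ∀ a b n : Γ, Commute (φ (a * b * a⁻¹ * b⁻¹)) (φ n))
    (hsep : ∀ i j, i ≠ j → ∃ h : Γ, ∀ v : M,
      φ (h * t i * h⁻¹ * (t i)⁻¹) v = φ (h * t j * h⁻¹ * (t j)⁻¹) v → v = 0)
    (X X' : Module.End (ZMod q) M) (hX : X' * X = 1) (hX' : X * X' = 1) (σ : ι ≃ ι)
    (s : ι → Module.End (ZMod q) M) (hs : ∀ i n, Commute (s i) (φ n))
    (hconj : ∀ i, X * φ (t i) * X' = s i * φ (t (σ i))) {κ : Type u} [Fintype κ] (rep : κ → ι)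
    (hrep : ∀ i, ∃ (k : κ) (n : ℕ), σ^[n] (rep k) = i) :
    (Module.finrank (ZMod q) M - Module.finrank (ZMod q) (LinearMap.range (X - 1))) ^ 2 +
        Fintype.card ι ≤
      Module.finrank (ZMod q) M * Module.finrank (ZMod q) M + Fintype.card κ := by
  haveI : Module.Finite (ZMod q) M := Module.Finite.of_finite
  have hli := transversal_linearIndependent φ t hcomm hsep
  set R := LinearMap.range (X - 1) with hRdef
  set K := LinearMap.ker (X - 1) with hKdef
  let F : Submodule (ZMod q) (Module.End (ZMod q) M) :=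
    { carrier := {f | X * f = f * X}
      zero_mem' := by simp
      add_mem' := fun {a b} (ha : X * a = a * X) (hb : X * b = b * X) => by
        show X * (a + b) = (a + b) * X
        rw [mul_add, add_mul, ha, hb]
      smul_mem' := fun c a (ha : X * a = a * X) => by
        show X * (c • a) = (c • a) * X
        rw [mul_smul_comm, smul_mul_assoc, ha] }
  have hK : Module.finrank (ZMod q) K = Module.finrank (ZMod q) M - Module.finrank (ZMod q) R := by
    have h := LinearMap.finrank_range_add_finrank_ker (X - 1)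
    rw [← hRdef, ← hKdef] at h
    omega
  have hQ : Module.finrank (ZMod q) (M ⧸ R) =
      Module.finrank (ZMod q) M - Module.finrank (ZMod q) R := by
    have h := Submodule.finrank_quotient_add_finrank R
    omega
  -- fixed endomorphisms built from the coinvariants into the fixed points
  have hX1 : ∀ v, X v = (X - 1) v + v := fun v => by
    rw [LinearMap.sub_apply, Module.End.one_apply, sub_add_cancel]
  let Ψ : ((M ⧸ R) →ₗ[ZMod q] K) →ₗ[ZMod q] F :=
    { toFun := fun g => ⟨K.subtype ∘ₗ g ∘ₗ R.mkQ, LinearMap.ext fun v => by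
        show X (g (R.mkQ v) : M) = (g (R.mkQ (X v)) : M)
        have e1 : X (g (R.mkQ v) : M) = (g (R.mkQ v) : M) := by
          rw [hX1]
          rw [show (X - 1) (g (R.mkQ v) : M) = 0 from (g (R.mkQ v)).2, zero_add]
        have e2 : R.mkQ (X v) = R.mkQ v := by
          rw [hX1, map_add]
          rw [show R.mkQ ((X - 1) v) = 0 from (Submodule.Quotient.mk_eq_zero R).2 ⟨v, rfl⟩, zero_add]
        rw [e1, e2]⟩
      map_add' := fun a b => Subtype.ext (LinearMap.ext fun v => rfl)
      map_smul' := fun a b => Subtype.ext (LinearMap.ext fun v => rfl) }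
  have hΨ : Function.Injective Ψ := fun a b e => LinearMap.ext fun w => by
    obtain ⟨v, rfl⟩ := R.mkQ_surjective w
    exact Subtype.ext (LinearMap.congr_fun (congrArg Subtype.val e) v)
  have hF : (Module.finrank (ZMod q) M - Module.finrank (ZMod q) R) ^ 2 ≤ Module.finrank (ZMod q) F := by
    have := LinearMap.finrank_le_finrank_of_injective hΨ
    rwa [Module.finrank_linearMap, hQ, hK, ← pow_two] at this
  -- the span of the transversal
  let S := Submodule.span (ZMod q) (Set.range fun i => φ (t i))
  have hS : Module.finrank (ZMod q) S = Fintype.card ι := finrank_span_eq_card hli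
  have htop : Module.finrank (ZMod q) (F ⊔ S : Submodule (ZMod q) _) ≤
      Module.finrank (ZMod q) M * Module.finrank (ZMod q) M := by
    rw [← Module.finrank_linearMap (ZMod q) (ZMod q) M M]
    exact Submodule.finrank_le _
  have hinf := Submodule.finrank_sup_add_finrank_inf_eq F S
  -- fixed combinations are determined on the representatives
  let Φ : (ι → ZMod q) →ₗ[ZMod q] Module.End (ZMod q) M :=
    Fintype.linearCombination (ZMod q) fun i => φ (t i)
  have hΦr : LinearMap.range Φ = S := Fintype.range_linearCombination _ _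
  let P := F.comap Φ
  have hprop : ∀ c : ι → ZMod q, c ∈ P → ∀ i, c i = 0 → c (σ i) = 0 := by
    intro c hc i hi
    have hc' : X * Φ c = Φ c * X := hc
    have hfix : X * Φ c * X' = Φ c := by rw [hc', mul_assoc, hX', mul_one]
    rw [Fintype.linearCombination_apply, Finset.mul_sum, Finset.sum_mul] at hfix
    have e : ∀ j, X * (c j • φ (t j)) * X' = (c j • s j) * φ (t (σ j)) := fun j => by
      rw [mul_smul_comm, smul_mul_assoc, hconj, smul_mul_assoc]
    rw [Finset.sum_congr rfl fun j _ => e j,
      ← σ.sum_comp fun j => c j • φ (t j), ← sub_eq_zero, ← Finset.sum_sub_distrib] at hfix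
    have h0 := transversal_indep φ t hcomm hsep
      (fun j => c (σ.symm j) • s (σ.symm j) - c j • (1 : Module.End (ZMod q) M))
      (fun j n => ((hs _ n).smul_left _).sub_left ((Commute.one_left _).smul_left _)) (by
        rw [← σ.sum_comp]
        simpa only [Equiv.symm_apply_apply, sub_mul, smul_mul_assoc, one_mul] using hfix)
    have h1 := congrFun h0 (σ i)
    simp only [Equiv.symm_apply_apply, hi, zero_smul, zero_sub, Pi.zero_apply, neg_eq_zero] at h1
    obtain ⟨v, hv⟩ := exists_ne (0 : M)
    exact (smul_eq_zero.1 (LinearMap.congr_fun h1 v)).resolve_right hv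
  let restr : P →ₗ[ZMod q] (κ → ZMod q) :=
    (LinearMap.funLeft (ZMod q) (ZMod q) rep) ∘ₗ P.subtype
  have hrestr : Function.Injective restr := by
    rw [← LinearMap.ker_eq_bot, LinearMap.ker_eq_bot']
    intro c hc
    refine Subtype.ext (funext fun i => ?_)
    obtain ⟨k, n, rfl⟩ := hrep i
    induction n with
    | zero => exact congrFun hc k
    | succ n ih =>
      rw [Function.iterate_succ_apply']
      exact hprop _ c.2 _ ih
  have hP : Module.finrank (ZMod q) P ≤ Fintype.card κ := by
    have := LinearMap.finrank_le_finrank_of_injective hrestr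
    rwa [Module.finrank_fintype_fun_eq_card] at this
  have hFS : Module.finrank (ZMod q) (F ⊓ S : Submodule (ZMod q) _) ≤ Module.finrank (ZMod q) P := by
    have hle : F ⊓ S ≤ P.map Φ := by
      intro f hf
      obtain ⟨c, rfl⟩ := hΦr.ge hf.2
      exact ⟨c, hf.1, rfl⟩
    exact (Submodule.finrank_mono hle).trans (Submodule.finrank_map_le Φ P)
  omega

end CfsgLib.SolvSignalizer
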