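import Cfsg.Agent.Lib.SolvSignalizer.Pieces

/-!
# The normalisers of `eJ q 0 K` and `zOne q K` generate `fTilde q X`

`X` is a member with `q`-group core containing the largest `q`-member `K`.
-/

set_option autoImplicit false
set_option linter.style.haveILetI false
set_option linter.unusedSectionVars false

open Subgroup
open scoped commutatorElement
open CfsgLib.Coprime (conj_mem_of_le_normalizer)
open CfsgLib.CFun (core coCore)
open Cfsg (signalizerFamily signalizerInf)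

namespace CfsgLib.SolvSignalizer

universe u

variable {G : Type u} [Group G]

/-- The subgroup generated by the elementary subgroups of `P` within a factor `q ^ k` of the
largest order in `K`. -/
def eIn (q k : ℕ) (K P : Subgroup G) : Subgroup G :=
  ⨆ E : {E : Subgroup G // IsBig q k K E ∧ E ≤ P}, (E : Subgroup G)

/-- An element whose inverse conjugate of a point is fixed commutes its displacement with it. -/
theorem displacement_fixes {g e z : G} (h1 : e * z = z * e) (h2 : e * (g⁻¹ * z * g) = (g⁻¹ * z * g) * e) :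
    (g * e * g⁻¹ * e⁻¹) * z = z * (g * e * g⁻¹ * e⁻¹) := by
  have h1' : e⁻¹ * z = z * e⁻¹ := by rw [eq_mul_inv_iff_mul_eq, mul_assoc, ← h1, inv_mul_cancel_left]
  calc (g * e * g⁻¹ * e⁻¹) * z = g * e * g⁻¹ * (e⁻¹ * z) := by group
    _ = g * (e * (g⁻¹ * z * g)) * g⁻¹ * e⁻¹ := by rw [h1']; group
    _ = z * (g * e * g⁻¹ * e⁻¹) := by rw [h2]; group

/-- A subgroup of a nilpotent group that generates `V` modulo `[V, P]` is all of `V`. -/
theorem le_of_sup_commutator [Finite G] {q : ℕ} [Fact q.Prime] {P V M : Subgroup G} (hP : IsPGroup q P)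
    (hVP : V ≤ P) (hMV : M ≤ V) (hPV : P ≤ normalizer (V : Set G)) (hPM : P ≤ normalizer (M : Set G))
    (h : V ≤ M ⊔ ⁅V, P⁆) : V ≤ M := by
  haveI : Group.IsNilpotent P := hP.isNilpotent
  set L : ℕ → Subgroup G := fun n => P.lowerCentralSeries n with hL
  have hLn : ∀ n, P ≤ normalizer (L n : Set G) := fun n => by
    induction n with
    | zero => exact le_normalizer
    | succ n ih => exact CfsgLib.CFun.le_normalizer_commutator ih le_normalizer
  have hLs : ∀ n, ∀ x ∈ L n, ∀ r ∈ P, x * r * x⁻¹ * r⁻¹ ∈ L (n + 1) := fun n x hx r hr =>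
    commutator_mem_commutator hx hr
  have key : ∀ n, V ≤ M ⊔ (V ⊓ L n) := by
    intro n
    induction n with
    | zero =>
      intro v hv
      exact (le_sup_right : V ⊓ L 0 ≤ M ⊔ (V ⊓ L 0)) (mem_inf.2 ⟨hv, hVP hv⟩)
    | succ n ih =>
      have hMn : V ⊓ L n ≤ normalizer (M : Set G) := (inf_le_left.trans hVP).trans hPM
      refine h.trans (sup_le le_sup_left ?_)
      rw [commutator_le]
      intro v hv r hr
      obtain ⟨m, hm, d, hd, rfl⟩ := CfsgLib.Coprime.mem_sup_exists hMn (ih hv)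
      rw [commutatorElement_def, show m * d * r * (m * d)⁻¹ * r⁻¹ =
        (m * (d * r * d⁻¹ * r⁻¹) * m⁻¹) * (m * r * m⁻¹ * r⁻¹) by group]
      have hmP : m ∈ P := hVP (hMV hm)
      have hdr : d * r * d⁻¹ * r⁻¹ ∈ V ⊓ L (n + 1) := by
        refine mem_inf.2 ⟨?_, hLs n d hd.2 r hr⟩
        rw [mul_assoc d r, mul_assoc d]
        exact mul_mem hd.1 ((mem_normalizer_iff.1 (hPV hr) _).1 (inv_mem hd.1))
      have hmr : m * r * m⁻¹ * r⁻¹ ∈ M := by
        rw [mul_assoc m r, mul_assoc m]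
        exact mul_mem hm ((mem_normalizer_iff.1 (hPM hr) _).1 (inv_mem hm))
      refine mul_mem ((le_sup_right : V ⊓ L (n + 1) ≤ _) ?_) ((le_sup_left : M ≤ _) hmr)
      exact ⟨(mem_normalizer_iff.1 (hPV hmP) _).1 hdr.1, (mem_normalizer_iff.1 (hLn _ hmP) _).1 hdr.2⟩
  obtain ⟨n, hn⟩ := (Subgroup.nilpotent_iff_lowerCentralSeries (G := P)).1 inferInstance
  refine (key n).trans (sup_le le_rfl ?_)
  have hbot : L n = ⊥ := by
    have h1 := Subgroup.map_lowerCentralSeries (⊤ : Subgroup P) P.subtype n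
    rw [hn, Subgroup.map_bot, ← MonoidHom.range_eq_map, range_subtype] at h1
    exact h1.symm
  rw [hbot, inf_bot_eq]
  exact bot_le

variable [Finite G] {q : ℕ} [hq : Fact q.Prime]

theorem le_normalizer_eIn {k : ℕ} {K P M : Subgroup G} (hP : P ≤ K) (hM : M ≤ normalizer (P : Set G)) :
    M ≤ normalizer (eIn q k K P : Set G) := by
  refine CfsgLib.Invol.le_normalizer_of_forall_conj fun g hg x hx => ?_
  have hle : (eIn q k K P).map (MulAut.conj g).toMonoidHom ≤ eIn q k K P := by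
    rw [eIn, Subgroup.map_iSup, iSup_le_iff]
    rintro ⟨E, hE, hEP⟩
    have hEP' : E.map (MulAut.conj g).toMonoidHom ≤ P := by
      rintro _ ⟨y, hy, rfl⟩
      exact (mem_normalizer_iff.1 (hM hg) y).1 (hEP hy)
    refine le_iSup (fun E : {E : Subgroup G // IsBig q k K E ∧ E ≤ P} => (E : Subgroup G))
      ⟨E.map (MulAut.conj g).toMonoidHom, ⟨hEP'.trans hP, ⟨⟨⟨?_⟩⟩, ?_⟩, ?_⟩, hEP'⟩
    · rintro ⟨_, y, hy, rfl⟩ ⟨_, z, hz, rfl⟩
      refine Subtype.ext ?_
      show MulAut.conj g y * MulAut.conj g z = MulAut.conj g z * MulAut.conj g y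
      rw [← map_mul, ← map_mul, CfsgLib.EABasic.comm_of_isElementaryAbelian hE.2.1 hy hz]
    · rintro _ ⟨y, hy, rfl⟩
      rw [← map_pow, hE.2.1.2 y hy, map_one]
    · rw [card_map_of_injective (MulAut.conj g).injective]
      exact hE.2.2
  exact hle ⟨x, hx, rfl⟩

theorem eIn_le {k : ℕ} {K P : Subgroup G} : eIn q k K P ≤ eJ q k K ⊓ P :=
  iSup_le fun E => le_inf E.2.1.le_eJ E.2.2

theorem le_eIn {k : ℕ} {K P E : Subgroup G} (hE : IsBig q k K E) (hEP : E ≤ P) : E ≤ eIn q k K P :=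
  le_iSup (fun E : {E : Subgroup G // IsBig q k K E ∧ E ≤ P} => (E : Subgroup G)) ⟨E, hE, hEP⟩

/-- The index of a proper subgroup of an elementary group is at least `q`, and `q ^ 2` unless it
is a hyperplane. -/
theorem index_cases {K E S : Subgroup G} (hK : IsPGroup q K) (hE : E ≤ K) (hS : ¬ E ≤ S) :
    (E ⊓ S).relIndex E = q ∨ q ^ 2 ≤ (E ⊓ S).relIndex E := by
  obtain ⟨n, hn⟩ := IsPGroup.iff_card.1 (hK.to_le hE)
  have hd : (E ⊓ S).relIndex E ∣ q ^ n := hn ▸ Subgroup.relIndex_dvd_card _ _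
  obtain ⟨i, -, hi⟩ := (Nat.dvd_prime_pow hq.out).1 hd
  rw [hi]
  rcases i with - | - | i
  · rw [pow_zero, Subgroup.relIndex_eq_one] at hi
    exact absurd (hi.trans inf_le_right) hS
  · exact Or.inl (pow_one q)
  · exact Or.inr (Nat.pow_le_pow_right hq.out.pos (by omega))

variable {p : ℕ} [hp : Fact p.Prime] {A K : Subgroup G} {θ : G → Subgroup G}

namespace SFCtx

variable (h : SFCtx p A θ)

include h

variable (hK : QMember p q A θ K) {X : Subgroup G} (hX : InClass p q A θ K X)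

include hK hX

theorem K_inter_fTilde (hKX : K ≤ X) {x : G} (hxK : x ∈ K) (hxF : x ∈ fTilde q X) : x ∈ core X q :=
  h.R_inter_fTilde_le hK ⟨hxK, hxF⟩

/-- A piece whose hyperplane does not absorb `zOne q K` commutes with it modulo the core. -/
theorem zOne_comm_piece (hKX : K ≤ X) {H E E' : Subgroup G} (hH : H ≤ fTilde q X)
    (hQH : core X q ≤ H) (hE : IsBig q 0 K E) (hE'E : E' ≤ E) (hE'i : E'.relIndex E = q)
    (hnle : ¬ zOne q K ≤ E' ⊔ core X q) {g : G} (hg : g ∈ pieceSub H E' (core X q)) {z : G}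
    (hz : z ∈ zOne q K) : g * z * g⁻¹ * z⁻¹ ∈ core X q := by
  haveI : Group.IsSolvable X := hX.max.1.1
  set Q := core X q with hQ
  have hQK : Q ≤ K := h.core_le_K hK hX
  have hKQ : K ≤ normalizer (Q : Set G) := hKX.trans CfsgLib.CFun.le_normalizer_core
  have hE'K : E' ≤ K := hE'E.trans hE.1
  set Q' := E' ⊔ Q with hQ'
  have hQ'K : Q' ≤ K := sup_le hE'K hQK
  have hzK : z ∈ K := zOne_le hz
  have hzE : z ∈ E := zOne_le_big hE hz
  have hzQ' : z ∈ normalizer (Q' : Set G) := by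
    have hz0 : zpowers z ≤ normalizer (E' : Set G) := zpowers_le.2 (by
      refine CfsgLib.Coprime.centralizer_le_normalizer_self _ (mem_centralizer_iff.2 fun e he => ?_)
      exact CfsgLib.EABasic.comm_of_isElementaryAbelian hE.2.1 (hE'E he) hzE)
    exact CfsgLib.Coprime.sup_le_normalizer hz0 ((zpowers_le.2 hzK).trans hKQ) (mem_zpowers z)
  have hgQ' : g ∈ normalizer (Q' : Set G) := by
    have hgmap : ∀ k ∈ pieceSub H E' Q, ∀ x ∈ Q', k * x * k⁻¹ ∈ Q' := by
      intro k hk x hx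
      obtain ⟨a, ha, b, hb, rfl⟩ :=
        CfsgLib.Coprime.mem_sup_exists (hE'K.trans hKQ) (show x ∈ Q ⊔ E' by rwa [sup_comm])
      rw [show k * (a * b) * k⁻¹ = (k * a * k⁻¹) * ((k * b * k⁻¹ * b⁻¹) * b) by group]
      exact mul_mem ((le_sup_right : Q ≤ Q') ((mem_normalizer_iff.1 hk.2.1 a).1 ha))
        (mul_mem ((le_sup_right : Q ≤ Q') (hk.2.2 b hb)) ((le_sup_left : E' ≤ Q') hb))
    exact CfsgLib.Invol.le_normalizer_of_forall_conj hgmap hg
  set Y := eIn q 1 K Q' with hY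
  have hY1 : Y ≤ eJ q 1 K := eIn_le.trans inf_le_left
  have hYQ' : Y ≤ Q' := eIn_le.trans inf_le_right
  have hE'Y : E' ≤ Y := by
    refine le_eIn ⟨hE'K, ⟨⟨⟨fun a b => Subtype.ext (CfsgLib.EABasic.comm_of_isElementaryAbelian hE.2.1
      (hE'E a.2) (hE'E b.2))⟩⟩, fun a ha => hE.2.1.2 a (hE'E ha)⟩, ?_⟩ le_sup_left
    rw [← hE.card_eq, ← CfsgLib.Coprime.card_mul_relIndex hE'E, hE'i, pow_one, mul_comm]
  have hEQ' : E ⊓ Q' ≤ E' := by
    by_contra hne
    apply hnle
    have hlt : E' < E ⊓ Q' :=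
      lt_of_le_of_ne (le_inf hE'E le_sup_left) fun e => hne e.ge
    have h1 := relIndex_mul_relIndex E' (E ⊓ Q') E hlt.le inf_le_left
    rw [hE'i] at h1
    rcases (Nat.dvd_prime hq.out).1 ⟨_, h1.symm⟩ with h2 | h2
    · exact absurd (relIndex_eq_one.1 h2) hlt.not_ge
    · rw [h2] at h1
      have h3 : (E ⊓ Q').relIndex E = 1 :=
        Nat.eq_of_mul_eq_mul_left hq.out.pos (h1.trans (mul_one q).symm)
      exact (zOne_le_big hE).trans ((relIndex_eq_one.1 h3).trans inf_le_right)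
  set W := Q' ⊓ centralizer (Y : Set G) with hW
  set W₀ := W ⊓ Y with hW₀
  set M : Subgroup G := normalizer (Q' : Set G) with hM
  have hgY : g ∈ normalizer (Y : Set G) := le_normalizer_eIn hQ'K (le_refl M) hgQ'
  have hzY : z ∈ centralizer (Y : Set G) := centralizer_le hY1 (zOne_le_centralizer hz)
  have hgW : g ∈ normalizer (W : Set G) :=
    CfsgLib.Coprime.inf_le_normalizer (A := zpowers g) (zpowers_le.2 hgQ')
      ((zpowers_le.2 hgY).trans (CfsgLib.Coprime.normalizer_le_normalizer_centralizer Y)) (mem_zpowers g)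
  have hzY' : z ∈ normalizer (Y : Set G) := CfsgLib.Coprime.centralizer_le_normalizer_self _ hzY
  have hzW : z ∈ normalizer (W : Set G) :=
    CfsgLib.Coprime.inf_le_normalizer (A := zpowers z) (zpowers_le.2 hzQ')
      ((zpowers_le.2 hzY').trans (CfsgLib.Coprime.normalizer_le_normalizer_centralizer Y)) (mem_zpowers z)
  have hgW₀ : g ∈ normalizer (W₀ : Set G) :=
    CfsgLib.Coprime.inf_le_normalizer (A := zpowers g) (zpowers_le.2 hgW) (zpowers_le.2 hgY) (mem_zpowers g)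
  have hzW₀ : z ∈ normalizer (W₀ : Set G) :=
    CfsgLib.Coprime.inf_le_normalizer (A := zpowers z) (zpowers_le.2 hzW) (zpowers_le.2 hzY') (mem_zpowers z)
  have hzw : ∀ w ∈ W, z * w * z⁻¹ * w⁻¹ ∈ W₀ := by
    intro w hw
    refine mem_inf.2 ⟨mul_mem ((mem_normalizer_iff.1 hzW w).1 hw) (inv_mem hw), hE'Y (hEQ' (mem_inf.2 ⟨?_, ?_⟩))⟩
    · refine zOne_le_big hE ?_
      rw [show z * w * z⁻¹ * w⁻¹ = z * (w * z⁻¹ * w⁻¹) by group]
      exact mul_mem hz ((mem_normalizer_iff.1 (normalizer_le_zOne (le_normalizer (hQ'K hw.1))) _).1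
        (inv_mem hz))
    · exact mul_mem ((mem_normalizer_iff.1 hzQ' w).1 hw.1) (inv_mem hw.1)
  let T : Subgroup G :=
    { carrier := {t | t ∈ centralizer (Y : Set G) ∧ t ∈ normalizer (W : Set G) ∧
        t ∈ normalizer (W₀ : Set G) ∧ t ∈ normalizer (Q' : Set G) ∧ ∀ w ∈ W, t * w * t⁻¹ * w⁻¹ ∈ W₀}
      one_mem' := ⟨one_mem _, one_mem _, one_mem _, one_mem _, fun w _ => by simp⟩
      mul_mem' := fun {a b} ha hb => ⟨mul_mem ha.1 hb.1, mul_mem ha.2.1 hb.2.1, mul_mem ha.2.2.1 hb.2.2.1,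
        mul_mem ha.2.2.2.1 hb.2.2.2.1, fun w hw => by
          rw [show a * b * w * (a * b)⁻¹ * w⁻¹ =
            a * (b * w * b⁻¹ * w⁻¹) * a⁻¹ * (a * w * a⁻¹ * w⁻¹) by group]
          exact mul_mem ((mem_normalizer_iff.1 ha.2.2.1 _).1 (hb.2.2.2.2 w hw)) (ha.2.2.2.2 w hw)⟩
      inv_mem' := fun {a} ha => ⟨inv_mem ha.1, inv_mem ha.2.1, inv_mem ha.2.2.1, inv_mem ha.2.2.2.1,
        fun w hw => by
          rw [show a⁻¹ * w * a⁻¹⁻¹ * w⁻¹ = a⁻¹ * (a * w * a⁻¹ * w⁻¹)⁻¹ * a by group]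
          exact (mem_normalizer_iff''.1 ha.2.2.1 _).1 (inv_mem (ha.2.2.2.2 w hw))⟩ }
  have hzT : z ∈ T := ⟨hzY, hzW, hzW₀, hzQ', hzw⟩
  have hgzT : g * z * g⁻¹ ∈ T := by
    refine ⟨(mem_normalizer_iff.1 (CfsgLib.Coprime.normalizer_le_normalizer_centralizer Y hgY) z).1 hzY,
      mul_mem (mul_mem hgW hzW) (inv_mem hgW), mul_mem (mul_mem hgW₀ hzW₀) (inv_mem hgW₀),
      mul_mem (mul_mem hgQ' hzQ') (inv_mem hgQ'), fun w hw => ?_⟩
    rw [show g * z * g⁻¹ * w * (g * z * g⁻¹)⁻¹ * w⁻¹ =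
      g * (z * (g⁻¹ * w * g) * z⁻¹ * (g⁻¹ * w * g)⁻¹) * g⁻¹ by group]
    exact (mem_normalizer_iff.1 hgW₀ _).1 (hzw _ ((mem_normalizer_iff''.1 hgW w).1 hw))
  set m := g * z * g⁻¹ * z⁻¹ with hm
  have hmT : m ∈ T := mul_mem hgzT (inv_mem hzT)
  have hHX : H ≤ X := hH.trans fTilde_le
  have hmF : m ∈ fTilde q X := by
    rw [hm, show g * z * g⁻¹ * z⁻¹ = g * (z * g⁻¹ * z⁻¹) by group]
    exact mul_mem (hH hg.1) ((mem_normalizer_iff.1 (normalizer_le_fTilde (le_normalizer (hKX hzK))) _).1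
      (inv_mem (hH hg.1)))
  obtain ⟨a, n, hn, hmn⟩ := Nat.exists_eq_pow_mul_and_not_dvd (orderOf_pos m).ne' q hq.out.ne_one
  set m' := m ^ q ^ a with hm'
  have hm'T : m' ∈ T := pow_mem hmT _
  have hm'o : orderOf m' = n := by
    rw [hm', orderOf_pow_of_dvd (pow_ne_zero a hq.out.ne_zero) (hmn ▸ dvd_mul_right _ _), hmn,
      Nat.mul_div_cancel_left _ (pow_pos hq.out.pos a)]
  have hcopn : n.Coprime q := ((hq.out.coprime_iff_not_dvd.2 hn)).symm
  have hm'W : W ≤ centralizer ({m'} : Set G) := by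
    intro w hw
    rw [mem_centralizer_singleton_iff]
    have hc : m' * w * m'⁻¹ * w⁻¹ ∈ W₀ := hm'T.2.2.2.2 w hw
    obtain ⟨j, hj⟩ := hK.group ⟨_, hQ'K (hc.1.1)⟩
    have h1 := CfsgLib.Coprime.eq_one_of_conj_eq_mul (a := m') (x := w) (u := m' * w * m'⁻¹ * w⁻¹)
      (by group)
      (by rw [← mem_centralizer_iff.1 hm'T.1 _ hc.2, mul_inv_cancel_right])
      (by
        rw [hm'o]
        exact (hcopn.pow_right j).coprime_dvd_right (orderOf_dvd_of_pow_eq_one (congrArg Subtype.val hj)))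
    rw [mul_inv_eq_one, mul_inv_eq_iff_eq_mul] at h1
    exact h1.symm
  have hm'c := CfsgLib.Coprime.pq_lemma (P := Y) (Q := zpowers m') (U := Q')
    (hK.group.to_le (hY1.trans eJ_le)) (by rw [Nat.card_zpowers, hm'o]; exact hcopn)
    (hK.group.to_le hQ'K)
    (by rw [zpowers_eq_closure, centralizer_closure]
        exact fun y hy => mem_centralizer_singleton_iff.2 (mem_centralizer_iff.1 hm'T.1 y hy))
    (hYQ'.trans le_normalizer) (zpowers_le.2 hm'T.2.2.2.1)
    (hm'W.trans (by rw [zpowers_eq_closure, centralizer_closure]))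
  have hm'Q : m' ∈ Q := centralizer_core_le hX.coCore_eq
    ⟨pow_mem (fTilde_le hmF) _, centralizer_le (le_sup_right : Q ≤ Q') (hm'c (mem_zpowers m'))⟩
  obtain ⟨j, hj⟩ := (CfsgLib.CFun.isPGroup_core (H := X) (s := q)) ⟨m', hm'Q⟩
  refine mem_core_of_fTilde (k := a + j) hmF ?_
  rw [pow_add, pow_mul, ← hm']
  exact congrArg Subtype.val hj

/-- `zOne q K` commutes with every invariant part modulo the core. -/
theorem zOne_le_commSet (hKX : K ≤ X) {H : Subgroup G} (hH : H ≤ fTilde q X) (hQH : core X q ≤ H)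
    (hKH : K ≤ normalizer (H : Set G)) :
    zOne q K ≤ commSet K H (core X q) := by
  set Q := core X q with hQ
  have hKQ : K ≤ normalizer (Q : Set G) := hKX.trans CfsgLib.CFun.le_normalizer_core
  have hHQ : H ≤ normalizer (Q : Set G) := (hH.trans fTilde_le).trans CfsgLib.CFun.le_normalizer_core
  by_cases hall : ∀ E, IsBig q 0 K E → E ≤ commSet K H Q
  · obtain ⟨E, hE, -⟩ := exists_isBig (q := q) K
    exact (zOne_le_big hE).trans (hall E hE)
  push Not at hall
  obtain ⟨E, hE, hEn⟩ := hall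
  have hEQ : E ≤ normalizer (Q : Set G) := hE.1.trans hKQ
  have hEQn : ¬ E ≤ Q := fun hle => hEn fun r hr =>
    ⟨hE.1 hr, hEQ hr, fun x hx => mul_mem ((mem_normalizer_iff.1 (hHQ hx) r).1 (hle hr)) (inv_mem (hle hr))⟩
  intro z hz
  have hzK : z ∈ K := zOne_le hz
  refine ⟨hzK, hKQ hzK, fun x hx => ?_⟩
  have hpiece : ∀ E' : Subgroup G, E' ≤ E → E'.relIndex E = q →
      pieceSub H E' Q ≤ pieceSub H (zpowers z) Q := by
    intro E' hE'E hE'i g hg
    refine ⟨hg.1, hg.2.1, fun y hy => ?_⟩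
    obtain ⟨k, rfl⟩ := hy
    by_cases hle : zOne q K ≤ E' ⊔ Q
    · obtain ⟨b, hb, a, ha, e⟩ := CfsgLib.Coprime.mem_sup_exists ((hE'E.trans hE.1).trans hKQ)
        (show z ^ k ∈ Q ⊔ E' by rw [sup_comm]; exact zpow_mem (hle hz) k)
      show g * z ^ k * g⁻¹ * (z ^ k)⁻¹ ∈ Q
      rw [← e, show g * (b * a) * g⁻¹ * (b * a)⁻¹ = (g * b * g⁻¹) * (g * a * g⁻¹ * a⁻¹) * b⁻¹ by group]
      exact mul_mem (mul_mem ((mem_normalizer_iff.1 hg.2.1 b).1 hb) (hg.2.2 a ha)) (inv_mem hb)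
    · exact h.zOne_comm_piece hK hX hKX hH hQH hE hE'E hE'i hle hg (zpow_mem hz k)
  have hW : H ≤ pieceSub H (zpowers z) Q := by
    rcases index_cases hK.group hE.1 hEQn with hi | hi
    · refine le_trans ?_ (hpiece (E ⊓ Q) inf_le_left hi)
      exact fun g hg => ⟨hg, hHQ hg, fun e he =>
        mul_mem ((mem_normalizer_iff.1 (hHQ hg) e).1 he.2) (inv_mem he.2)⟩
    · exact le_of_pieces hE.2.1 hEQ hQH hHQ (hE.1.trans hKH) (not_dvd_relIndex_of_between rfl hQH hH) hi
        (fun g hg => ⟨hQH hg, le_normalizer hg, fun e he => by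
          rw [show g * e * g⁻¹ * e⁻¹ = g * (e * g⁻¹ * e⁻¹) by group]
          exact mul_mem hg ((mem_normalizer_iff.1 ((zpowers_le.2 hzK).trans hKQ he) _).1 (inv_mem hg))⟩)
        fun E' hE'E hE'i _ => hpiece E' hE'E hE'i
  exact (hW hx).2.2 z (mem_zpowers z)

/-- The normalisers of `eJ q 0 K` and `zOne q K` generate `fTilde q X`. -/
theorem fTilde_le_JZ (hKX : K ≤ X) :
    fTilde q X ≤ (fTilde q X ⊓ normalizer (eJ q 0 K : Set G)) ⊔
      (fTilde q X ⊓ normalizer (zOne q K : Set G)) := by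
  haveI : Group.IsSolvable X := hX.max.1.1
  set Q := core X q with hQ
  set F := fTilde q X with hF
  set T := (F ⊓ normalizer (eJ q 0 K : Set G)) ⊔ (F ⊓ normalizer (zOne q K : Set G)) with hT
  have hQK : Q ≤ K := h.core_le_K hK hX
  have hKF : K ≤ normalizer (F : Set G) := (hKX.trans le_normalizer).trans normalizer_le_fTilde
  have hKQ : K ≤ normalizer (Q : Set G) := hKX.trans CfsgLib.CFun.le_normalizer_core
  have hAK : A ≤ normalizer (K : Set G) := h.le_normA hK.mem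
  have hAQ : A ≤ normalizer (Q : Set G) := h.le_normA (h.core_mem hX.max.1 q)
  have hAZ₁ : A ≤ normalizer (zOne q K : Set G) := hAK.trans normalizer_le_zOne
  have hKZ₁ : K ≤ normalizer (zOne q K : Set G) := le_normalizer.trans normalizer_le_zOne
  have hKJ : K ≤ normalizer (eJ q 0 K : Set G) := le_normalizer.trans normalizer_le_eJ
  suffices key : ∀ H : Subgroup G, Q ≤ H → H ≤ F → A ≤ normalizer (H : Set G) →
      K ≤ normalizer (H : Set G) → H ≤ T from
    key F core_le_fTilde le_rfl ((h.le_normA hX.max.1).trans normalizer_le_fTilde) hKF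
  intro H
  induction H using WellFoundedLT.induction with
  | _ H ih =>
  intro hQH hHF hAH hKH
  have hHX : H ≤ X := hHF.trans fTilde_le
  have hHQ : H ≤ normalizer (Q : Set G) := hHX.trans CfsgLib.CFun.le_normalizer_core
  set H₁ := H ⊓ normalizer (zOne q K : Set G) with hH₁
  set QN := commSet K H Q with hQN
  set Jg := commSet K H H₁ with hJg
  have hH₁T : H₁ ≤ T := le_trans (inf_le_inf_right _ hHF) le_sup_right
  have hQH₁ : Q ≤ H₁ := le_inf hQH (hQK.trans hKZ₁)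
  have hQQN : Q ≤ QN := fun r hr => ⟨hQK hr, le_normalizer hr, fun x hx =>
    mul_mem ((mem_normalizer_iff.1 (hHQ hx) r).1 hr) (inv_mem hr)⟩
  have hHQN : H ≤ normalizer (QN : Set G) := by
    refine CfsgLib.Invol.le_normalizer_of_forall_conj fun x hx r hr => ?_
    rw [show x * r * x⁻¹ = (x * r * x⁻¹ * r⁻¹) * r by group]
    exact mul_mem (hQQN (hr.2.2 x hx)) hr
  have hKH₁ : K ≤ normalizer (H₁ : Set G) := CfsgLib.Coprime.inf_le_normalizer hKH
    (hKZ₁.trans le_normalizer)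
  by_cases hJ : eJ q 0 K ≤ QN
  · refine le_trans (le_inf hHF ?_) le_sup_left
    rw [← eJ_eq_of_le le_rfl hJ commSet_le]
    exact hHQN.trans normalizer_le_eJ
  have hsolH : Group.IsSolvable H :=
    (h.mem_of_le hX.max.1 hHX hAH).1
  have hqH : ¬ q ∣ Q.relIndex H := not_dvd_relIndex_of_between rfl hQH hHF
  by_cases hJgn : ¬ Jg ≤ QN
  · -- split off the part moved by `Jg`
    set N := ⁅H, Jg⁆ ⊔ Q with hN
    have hJgK : Jg ≤ K := commSet_le
    have hcH₁ : ⁅H, Jg⁆ ≤ H₁ := by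
      rw [commutator_le]
      exact fun x hx r hr => hr.2.2 x hx
    have hNH : N ≤ H := sup_le (hcH₁.trans inf_le_left) hQH
    have hJgN : Jg ≤ normalizer (N : Set G) := CfsgLib.Coprime.sup_le_normalizer
      (CfsgLib.CFun.le_normalizer_commutator (hJgK.trans hKH) le_normalizer) (hJgK.trans hKQ)
    set Hc := pieceSub H Jg Q with hHc
    have hHcT : Hc ≤ T := by
      refine ih Hc (lt_of_le_of_ne pieceSub_le fun e => hJgn fun r hr =>
        ⟨hr.1, hKQ hr.1, fun x hx => (e.ge hx : x ∈ Hc).2.2 r hr⟩) ?_ (pieceSub_le.trans hHF) ?_ ?_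
      · exact fun x hx => ⟨hQH hx, le_normalizer hx, fun r hr => by
          rw [show x * r * x⁻¹ * r⁻¹ = x * (r * x⁻¹ * r⁻¹) by group]
          exact mul_mem hx ((mem_normalizer_iff.1 (hKQ hr.1) _).1 (inv_mem hx))⟩
      · exact le_normalizer_pieceSub hAH (le_normalizer_commSet hAK hAH
          (CfsgLib.Coprime.inf_le_normalizer hAH (hAZ₁.trans le_normalizer))) hAQ
      · exact le_normalizer_pieceSub hKH (le_normalizer_commSet le_normalizer hKH hKH₁) hKQ
    intro x hx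
    have hxN : x ∈ normalizer ((N ⊔ Jg : Subgroup G) : Set G) := by
      refine CfsgLib.Invol.le_normalizer_of_forall_conj (U := N ⊔ Jg) (A := H) (fun y hy w hw => ?_) hx
      have hNn : H ≤ normalizer (N : Set G) := CfsgLib.Coprime.sup_le_normalizer
        (le_normalizer_commutator_left H Jg) hHQ
      obtain ⟨a, ha, b, hb, rfl⟩ := CfsgLib.Coprime.mem_sup_exists hJgN hw
      rw [show y * (a * b) * y⁻¹ = (y * a * y⁻¹) * ((y * b * y⁻¹ * b⁻¹) * b) by group]
      refine mul_mem ((le_sup_left : N ≤ _) ((mem_normalizer_iff.1 (hNn hy) a).1 ha))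
        (mul_mem ((le_sup_left : N ≤ _) ((le_sup_left : ⁅H, Jg⁆ ≤ N) ?_)) ((le_sup_right : Jg ≤ _) hb))
      simpa [commutatorElement_def] using commutator_mem_commutator hy hb
    obtain ⟨c, hc, r, hr, hn⟩ := exists_normalizing (q := q) (hK.group.to_le hJgK)
      (fun r hr => ⟨hQK hr, hKH₁ (hQK hr), fun x hx =>
        hQH₁ (mul_mem ((mem_normalizer_iff.1 (hHQ hx) r).1 hr) (inv_mem hr))⟩)
      le_sup_right hJgN (not_dvd_relIndex_of_between rfl le_sup_right (hNH.trans hHF)) hxN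
    set n := r⁻¹ * c * r * x with hn'
    have hc' : r⁻¹ * c * r ∈ N := (mem_normalizer_iff''.1 (hJgN hr) c).1 hc
    have hnH : n ∈ H := mul_mem (hNH hc') hx
    have hnJ : n ∈ normalizer (Jg : Set G) := by
      rw [hn', show r⁻¹ * c * r * x = r⁻¹ * (c * r * x) by group]
      exact mul_mem (inv_mem (le_normalizer hr)) hn
    have hnT : n ∈ T := hHcT ⟨hnH, hHQ hnH, fun s hs => h.K_inter_fTilde hK hX hKX
      (hJgK (mul_mem ((mem_normalizer_iff.1 hnJ s).1 hs) (inv_mem hs))) (hHF (by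
        rw [show n * s * n⁻¹ * s⁻¹ = n * (s * n⁻¹ * s⁻¹) by group]
        exact mul_mem hnH ((mem_normalizer_iff.1 (hKH (hJgK hs)) _).1 (inv_mem hnH))))⟩
    have hNT : N ≤ T := sup_le (hcH₁.trans hH₁T) (hQH₁.trans hH₁T)
    have h1 := mul_mem (inv_mem (hNT hc')) hnT
    rwa [hn', inv_mul_cancel_left] at h1
  -- otherwise derive a contradiction
  push Not at hJgn
  exfalso
  have hZQN : zOne q K ≤ QN := h.zOne_le_commSet hK hX hKX hHF hQH hKH
  set V₀ := conjClosure H (zOne q K) with hV₀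
  have hV₀QN : V₀ ≤ QN := conjClosure_le hZQN hHQN
  have hKV₀ : K ≤ normalizer (V₀ : Set G) := le_normalizer_conjClosure_of hKH hKZ₁
  have hAV₀ : A ≤ normalizer (V₀ : Set G) := le_normalizer_conjClosure_of hAH hAZ₁
  have hHV₀ : H ≤ normalizer (V₀ : Set G) := le_normalizer_conjClosure
  have hQNK : QN ≤ K := commSet_le
  have hAQN : A ≤ normalizer (QN : Set G) := le_normalizer_commSet hAK hAH hAQ
  have hKQN : K ≤ normalizer (QN : Set G) := le_normalizer_commSet le_normalizer hKH hKQ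
  set D := ⁅V₀, QN⁆ with hD
  have hHD : H ≤ normalizer (D : Set G) := CfsgLib.CFun.le_normalizer_commutator hHV₀ hHQN
  have hKD : K ≤ normalizer (D : Set G) := CfsgLib.CFun.le_normalizer_commutator hKV₀ hKQN
  have hDV : D ≤ V₀ := by
    rw [hD, commutator_le]
    intro v hv r hr
    rw [commutatorElement_def, mul_assoc v r, mul_assoc v]
    exact mul_mem hv ((mem_normalizer_iff.1 (hKV₀ (hQNK hr)) _).1 (inv_mem hv))
  -- the part of `H` acting trivially on `V₀ / D`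
  let H₂ : Subgroup G :=
    { carrier := {x | x ∈ H ∧ ∀ v ∈ V₀, x * v * x⁻¹ * v⁻¹ ∈ D}
      one_mem' := ⟨one_mem _, fun v _ => by simp⟩
      mul_mem' := fun {a b} ha hb => ⟨mul_mem ha.1 hb.1, fun v hv => by
        rw [show a * b * v * (a * b)⁻¹ * v⁻¹ =
          a * (b * v * b⁻¹ * v⁻¹) * a⁻¹ * (a * v * a⁻¹ * v⁻¹) by group]
        exact mul_mem ((mem_normalizer_iff.1 (hHD ha.1) _).1 (hb.2 v hv)) (ha.2 v hv)⟩
      inv_mem' := fun {a} ha => ⟨inv_mem ha.1, fun v hv => by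
        rw [show a⁻¹ * v * a⁻¹⁻¹ * v⁻¹ = a⁻¹ * (a * v * a⁻¹ * v⁻¹)⁻¹ * a by group]
        exact (mem_normalizer_iff''.1 (hHD ha.1) _).1 (inv_mem (ha.2 v hv))⟩ }
  have hH₂n : ∀ {M : Subgroup G}, M ≤ normalizer (H : Set G) → M ≤ normalizer (V₀ : Set G) →
      M ≤ normalizer (D : Set G) → M ≤ normalizer (H₂ : Set G) := fun {M} h1 h2 h3 =>
    CfsgLib.Invol.le_normalizer_of_forall_conj fun g hg x hx =>
      ⟨(mem_normalizer_iff.1 (h1 hg) x).1 hx.1, fun v hv => by
        rw [show g * x * g⁻¹ * v * (g * x * g⁻¹)⁻¹ * v⁻¹ =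
          g * (x * (g⁻¹ * v * g) * x⁻¹ * (g⁻¹ * v * g)⁻¹) * g⁻¹ by group]
        exact (mem_normalizer_iff.1 (h3 hg) _).1 (hx.2 _ ((mem_normalizer_iff''.1 (h2 hg) v).1 hv))⟩
  have hKH₂ : K ≤ normalizer (H₂ : Set G) := hH₂n hKH hKV₀ hKD
  have hHH₂ : H ≤ normalizer (H₂ : Set G) := hH₂n le_normalizer hHV₀ hHD
  have hQtriv : ∀ x ∈ Q, ∀ v ∈ V₀, x * v * x⁻¹ * v⁻¹ ∈ D := fun x hx v hv => by
    have h1 := inv_mem (commutator_mem_commutator hv (hQQN hx) : ⁅v, x⁆ ∈ D)
    rw [commutatorElement_inv, commutatorElement_def] at h1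
    exact h1
  set K₂ := commSet K H H₂ with hK₂
  have hQNK₂ : QN ≤ K₂ := fun r hr => ⟨hr.1, hKH₂ hr.1, fun x hx =>
    ⟨hQH (hr.2.2 x hx), hQtriv _ (hr.2.2 x hx)⟩⟩
  -- every largest elementary subgroup lies in `K₂`
  have hall : ∀ n : ℕ, ∀ E, IsBig q 0 K E → Nat.card G - Nat.card (E ⊓ QN : Subgroup G) = n → E ≤ K₂ := by
    intro n
    induction n using Nat.strong_induction_on with
    | _ n ihn =>
    intro E hE hn
    by_cases hEN : E ≤ QN
    · exact hEN.trans hQNK₂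
    have hEQ : E ≤ normalizer (Q : Set G) := hE.1.trans hKQ
    rcases index_cases hK.group hE.1 hEN with hi | hi
    · -- the index is `q`: the loss is small
      set E₀ := E ⊓ QN with hE₀
      have hE₀e : Cfsg.IsElementaryAbelian q E₀ :=
        ⟨⟨⟨fun a b => Subtype.ext (CfsgLib.EABasic.comm_of_isElementaryAbelian hE.2.1 a.2.1 b.2.1)⟩⟩,
          fun a ha => hE.2.1.2 a ha.1⟩
      have hcardE : Nat.card E = q * Nat.card E₀ := by
        rw [← CfsgLib.Coprime.card_mul_relIndex (inf_le_left : E₀ ≤ E), hi, mul_comm]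
      have hE₀big : IsBig q 1 K E₀ := ⟨inf_le_left.trans hE.1, hE₀e, by
        rw [← hE.card_eq, hcardE, pow_one]⟩
      set Y := eIn q 1 K QN with hY
      have hZY : zOne q K ≤ Y :=
        (le_inf (zOne_le_big hE) hZQN).trans (le_eIn hE₀big inf_le_right)
      have hV₀O : V₀ ≤ omegaZ q Y := conjClosure_le (fun z hz => ⟨hZY hz,
        centralizer_le (eIn_le.trans inf_le_left) (zOne_le_centralizer hz), zOne_elementary.2 z hz⟩)
        ((le_normalizer_eIn hQNK hHQN).trans normalizer_le_omegaZ)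
      have hV₀e : Cfsg.IsElementaryAbelian q V₀ :=
        ⟨⟨⟨fun a b => Subtype.ext (omegaZ_comm (a : G) (hV₀O a.2) (b : G) (hV₀O b.2))⟩⟩,
          fun a ha => (hV₀O ha).2.2⟩
      have hcomm0 : ∀ a ∈ E₀, ∀ b ∈ V₀, a * b = b * a := fun a ha b hb =>
        mem_centralizer_iff.1 (hV₀O hb).2.1 a (le_eIn hE₀big inf_le_right ha)
      haveI : (Q.subgroupOf H).Normal := (normal_subgroupOf_iff_le_normalizer hQH).2 hHQ
      haveI : (D.subgroupOf V₀).Normal := (normal_subgroupOf_iff_le_normalizer hDV).2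
        ((hV₀QN.trans hQNK).trans hKD)
      have hdata := h.class_secData hK hX (H := H) (R := K) hQH hHF (le_inf le_rfl hKX) hAH hKH hAK hK.inv
        hV₀e (le_inf hAV₀ (CfsgLib.CFun.le_normalizer_commutator hAV₀ hAQN)) (le_inf hHV₀ hHD)
        (le_inf hKV₀ hKD) hQtriv
      have hEV₀ : ∀ e ∈ E, Nat.card (mv V₀ e) ≤ q ^ 2 := by
        intro e he
        have hj := CfsgLib.EABasic.card_sup_mul_card_inf_of_le_normalizer
          (show E₀ ≤ normalizer (V₀ : Set G) from (inf_le_left.trans hE.1).trans hKV₀)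
        have hle : Nat.card (E₀ ⊔ V₀ : Subgroup G) ≤ q * Nat.card E₀ := by
          rw [← hcardE, hE.card_eq]
          exact le_eOrd (sup_le (inf_le_left.trans hE.1) (hV₀QN.trans hQNK))
            (CfsgLib.EABasic.isElementaryAbelian_sup hE₀e hV₀e hcomm0)
        have hcmv := card_mv_mul hV₀e (hKV₀ (hE.1 he))
        have hsub : Nat.card (E₀ ⊓ V₀ : Subgroup G) ≤
            Nat.card (V₀ ⊓ centralizer ({e} : Set G) : Subgroup G) :=
          Nat.le_of_dvd Nat.card_pos (card_dvd_of_le (le_inf inf_le_right fun y hy =>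
            mem_centralizer_singleton_iff.2
              (CfsgLib.EABasic.comm_of_isElementaryAbelian hE.2.1 hy.1.1 he)))
        have h2 : Nat.card V₀ ≤ q * Nat.card (E₀ ⊓ V₀ : Subgroup G) :=
          Nat.le_of_mul_le_mul_left (by
            calc Nat.card E₀ * Nat.card V₀ = Nat.card (E₀ ⊔ V₀ : Subgroup G) *
                  Nat.card (E₀ ⊓ V₀ : Subgroup G) := hj.symm
              _ ≤ q * Nat.card E₀ * Nat.card (E₀ ⊓ V₀ : Subgroup G) := Nat.mul_le_mul_right _ hle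
              _ = Nat.card E₀ * (q * Nat.card (E₀ ⊓ V₀ : Subgroup G)) := by ring) Nat.card_pos
        refine le_trans ?_ (Nat.le_self_pow (two_ne_zero) q)
        refine Nat.le_of_mul_le_mul_right ?_
          (Nat.card_pos (α := (V₀ ⊓ centralizer ({e} : Set G) : Subgroup G)))
        rw [hcmv]
        exact h2.trans (Nat.mul_le_mul_left q hsub)
      intro e he
      refine ⟨hE.1 he, hKH₂ (hE.1 he), fun x hx => ⟨?_, hdata.small V₀ D (hE.1 he) (hE.2.1.2 e he)
        (hEV₀ e he) x hx⟩⟩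
      rw [show x * e * x⁻¹ * e⁻¹ = x * (e * x⁻¹ * e⁻¹) by group]
      exact mul_mem hx ((mem_normalizer_iff.1 (hKH (hE.1 he)) _).1 (inv_mem hx))
    -- larger index
    have hiQ : q ^ 2 ≤ (E ⊓ Q).relIndex E := by
      refine hi.trans (Nat.le_of_dvd (Nat.pos_of_ne_zero index_ne_zero_of_finite) ?_)
      exact relIndex_dvd_of_le_left E (inf_le_inf_left E hQQN)
    -- a good piece commutes into `H₁`; a bad one gives a hyperplane in `K₂`
    have hdich : ∀ E' : Subgroup G, E' ≤ E → E'.relIndex E = q → E' ≤ K₂ ∨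
        ∀ g ∈ pieceSub H E' Q, ∀ e ∈ E, g * e * g⁻¹ * e⁻¹ ∈ H₁ := by
      intro E' hE'E hE'i
      by_cases hgood : ∀ g ∈ pieceSub H E' Q, ∀ e ∈ E, g * e * g⁻¹ * e⁻¹ ∈ H₁
      · exact Or.inr hgood
      refine Or.inl ?_
      have hsplitE : ∀ y ∈ E, y ∉ E' → E ≤ E' ⊔ zpowers y := by
        intro y hy hy'
        refine relIndex_eq_one.1 ?_
        have h1 := relIndex_mul_relIndex E' (E' ⊔ zpowers y) E le_sup_left
          (sup_le hE'E (zpowers_le.2 hy))
        rw [hE'i] at h1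
        rcases (Nat.dvd_prime hq.out).1 ⟨_, h1.symm⟩ with h2 | h2
        · exact absurd (relIndex_eq_one.1 h2 ((le_sup_right : zpowers y ≤ _) (mem_zpowers y))) hy'
        · rw [h2] at h1
          exact Nat.eq_of_mul_eq_mul_left hq.out.pos (h1.trans (mul_one q).symm)
      have hgoodQ : ∀ y ∈ E, y ∉ E' →
          (∀ g ∈ pieceSub H E' Q, ∀ w ∈ zpowers y, g * w * g⁻¹ * w⁻¹ ∈ Q) → False := by
        intro y hy hy' hyQ
        refine hgood fun g hg e he => hQH₁ ?_
        have he' : e ∈ E' ⊔ zpowers y := hsplitE y hy hy' he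
        obtain ⟨a, ha, b, hb, rfl⟩ := CfsgLib.Coprime.mem_sup_exists
          ((zpowers_le.2 hy).trans fun w hw => by
            refine CfsgLib.Coprime.centralizer_le_normalizer_self _ (mem_centralizer_iff.2 fun e' he'' => ?_)
            exact CfsgLib.EABasic.comm_of_isElementaryAbelian hE.2.1 (hE'E he'') hw) he'
        rw [show g * (a * b) * g⁻¹ * (a * b)⁻¹ = (g * a * g⁻¹ * a⁻¹) * (a * (g * b * g⁻¹ * b⁻¹) * a⁻¹) by group]
        exact mul_mem (hg.2.2 a ha) ((mem_normalizer_iff.1 (hKQ (hE.1 (hE'E ha))) _).1 (hyQ g hg b hb))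
      have hE₀E' : E ⊓ QN ≤ E' := by
        by_contra hne
        obtain ⟨y, hy, hy'⟩ := Set.not_subset.1 hne
        exact hgoodQ y hy.1 hy' fun g hg w hw => (zpowers_le.2 hy.2 hw : w ∈ QN).2.2 g hg.1
      have hZle : zOne q K ≤ E' ⊔ Q := by
        by_contra hnle
        obtain ⟨y, hy, hy'⟩ := Set.not_subset.1 (show ¬ zOne q K ≤ E' from
          fun h' => hnle (h'.trans le_sup_left))
        exact hgoodQ y (zOne_le_big hE hy) hy' fun g hg w hw =>
          h.zOne_comm_piece hK hX hKX hHF hQH hE hE'E hE'i hnle hg (zpowers_le.2 hy hw)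
      push Not at hgood
      obtain ⟨g₀, hg₀, e₀, he₀, hne₀⟩ := hgood
      have hex : ∃ g ∈ pieceSub H E' Q, ∃ z ∈ zOne q K, ∃ e ∈ E, e * (g⁻¹ * z * g) ≠ (g⁻¹ * z * g) * e := by
        by_contra hc
        push Not at hc
        refine hne₀ (mem_inf.2 ⟨?_, CfsgLib.Coprime.centralizer_le_normalizer_self _ (mem_centralizer_iff.2 fun z hz => ?_)⟩)
        · rw [show g₀ * e₀ * g₀⁻¹ * e₀⁻¹ = g₀ * (e₀ * g₀⁻¹ * e₀⁻¹) by group]
          exact mul_mem hg₀.1 ((mem_normalizer_iff.1 (hKH (hE.1 he₀)) _).1 (inv_mem hg₀.1))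
        · exact (displacement_fixes (CfsgLib.EABasic.comm_of_isElementaryAbelian hE.2.1 he₀
            (zOne_le_big hE hz)) (hc g₀ hg₀ z hz e₀ he₀)).symm
      obtain ⟨g, hg, z, hz, e₁, he₁, hne₁⟩ := hex
      set w := g⁻¹ * z * g with hw
      set Q' := E' ⊔ Q with hQ'
      have hQ'K : Q' ≤ K := sup_le (hE'E.trans hE.1) hQK
      have hgQ' : g ∈ normalizer (Q' : Set G) := by
        refine CfsgLib.Invol.le_normalizer_of_forall_conj (A := pieceSub H E' Q) (fun k hk x hx => ?_) hg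
        obtain ⟨a, ha, b, hb, rfl⟩ := CfsgLib.Coprime.mem_sup_exists ((hE'E.trans hE.1).trans hKQ)
          (show x ∈ Q ⊔ E' by rwa [sup_comm])
        rw [show k * (a * b) * k⁻¹ = (k * a * k⁻¹) * ((k * b * k⁻¹ * b⁻¹) * b) by group]
        exact mul_mem ((le_sup_right : Q ≤ Q') ((mem_normalizer_iff.1 hk.2.1 a).1 ha))
          (mul_mem ((le_sup_right : Q ≤ Q') (hk.2.2 b hb)) ((le_sup_left : E' ≤ Q') hb))
      have hwQ' : w ∈ Q' := (mem_normalizer_iff''.1 hgQ' z).1 (hZle hz)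
      have hE'e : Cfsg.IsElementaryAbelian q E' :=
        ⟨⟨⟨fun a b => Subtype.ext (CfsgLib.EABasic.comm_of_isElementaryAbelian hE.2.1
          (hE'E a.2) (hE'E b.2))⟩⟩, fun a ha => hE.2.1.2 a (hE'E ha)⟩
      have hcard : Nat.card E = q * Nat.card E' := by
        rw [← CfsgLib.Coprime.card_mul_relIndex hE'E, hE'i, mul_comm]
      have hE'Y : E' ≤ eIn q 1 K Q' := le_eIn ⟨hE'E.trans hE.1, hE'e, by
        rw [← hE.card_eq, hcard, pow_one]⟩ le_sup_left
      have hwc : ∀ a ∈ E', a * w = w * a := fun a ha => by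
        have hgY := le_normalizer_eIn (q := q) (k := 1) hQ'K (le_refl (normalizer (Q' : Set G))) hgQ'
        have hzc : z ∈ centralizer (eIn q 1 K Q' : Set G) :=
          centralizer_le (eIn_le.trans inf_le_left) (zOne_le_centralizer hz)
        exact mem_centralizer_iff.1 ((mem_normalizer_iff''.1
          (CfsgLib.Coprime.normalizer_le_normalizer_centralizer _ hgY) z).1 hzc) a (hE'Y ha)
      have hwnE : w ∉ E := fun hwE =>
        hne₁ (CfsgLib.EABasic.comm_of_isElementaryAbelian hE.2.1 he₁ hwE)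
      have hwq : w ^ q = 1 := by
        rw [hw, show g⁻¹ * z * g = g⁻¹ * z * g⁻¹⁻¹ by group, conj_pow, zOne_elementary.2 z hz]; group
      set E'' := E' ⊔ zpowers w with hE''
      have hwe : Cfsg.IsElementaryAbelian q (zpowers w) := ⟨inferInstance, fun a ha => by
        obtain ⟨k, rfl⟩ := ha
        rw [← zpow_natCast, ← zpow_mul, mul_comm, zpow_mul, zpow_natCast, hwq, one_zpow]⟩
      have hE''e : Cfsg.IsElementaryAbelian q E'' :=
        CfsgLib.EABasic.isElementaryAbelian_sup hE'e hwe fun a ha b hb => by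
          obtain ⟨k, rfl⟩ := hb
          exact ((show Commute a w from hwc a ha).zpow_right k).eq
      have hE''big : IsBig q 0 K E'' := by
        refine ⟨(sup_le le_sup_left (zpowers_le.2 hwQ')).trans hQ'K, hE''e, ?_⟩
        rw [pow_zero, one_mul, ← hE.card_eq, hcard]
        have hlt : E' < E'' := lt_of_le_of_ne le_sup_left fun e =>
          hwnE (hE'E (e.ge ((le_sup_right : zpowers w ≤ E'') (mem_zpowers w))))
        have h1 := CfsgLib.Coprime.card_mul_relIndex hlt.le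
        obtain ⟨i, hi'⟩ := IsPGroup.iff_card.1 (CfsgLib.EABasic.isPGroup_of_isElementaryAbelian hE''e)
        obtain ⟨j, -, hj⟩ := (Nat.dvd_prime_pow hq.out).1
          (hi' ▸ Subgroup.relIndex_dvd_card E' E'' : E'.relIndex E'' ∣ q ^ i)
        rcases j with - | j
        · exact absurd (relIndex_eq_one.1 (hj.trans (pow_zero q))) hlt.not_ge
        · rw [← h1, hj, mul_comm q]
          exact Nat.mul_le_mul_left _ (Nat.le_self_pow (Nat.succ_ne_zero j) q)
      have hlt : Nat.card (E ⊓ QN : Subgroup G) < Nat.card (E'' ⊓ QN : Subgroup G) := by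
        obtain ⟨b, hb, a, ha, hba⟩ := CfsgLib.Coprime.mem_sup_exists ((hE'E.trans hE.1).trans hKQ)
          (show w ∈ Q ⊔ E' by rw [sup_comm]; exact hwQ')
        have hbE'' : b ∈ E'' := by
          have hb' : b = w * a⁻¹ := by rw [← hba, mul_inv_cancel_right]
          rw [hb']
          exact mul_mem ((le_sup_right : zpowers w ≤ E'') (mem_zpowers w))
            (inv_mem ((le_sup_left : E' ≤ E'') ha))
        refine Set.Finite.card_lt_card (Set.toFinite _) ?_
        refine ⟨fun y hy => ⟨(le_sup_left : E' ≤ E'') (hE₀E' hy), hy.2⟩, fun hsub => ?_⟩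
        have hbE : b ∈ E := (hsub ⟨hbE'', hQQN hb⟩).1
        exact hwnE (hba ▸ mul_mem hbE (hE'E ha))
      have hle2 := ihn _ (by
        have := Nat.le_of_dvd Nat.card_pos (Subgroup.card_subgroup_dvd_card (E'' ⊓ QN : Subgroup G))
        omega) E'' hE''big rfl
      exact le_sup_left.trans hle2
    by_cases htwo : ∀ E₁ E₂ : Subgroup G, E₁ ≤ E → E₁.relIndex E = q → E₂ ≤ E → E₂.relIndex E = q →
        E₁ ≠ E₂ → ¬ (E₁ ≤ K₂ ∧ E₂ ≤ K₂)
    · exfalso
      have hsplit : ∃ E₁ : Subgroup G, E₁ ≤ E ∧ E₁.relIndex E = q ∧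
          ∀ E' : Subgroup G, E' ≤ E → E'.relIndex E = q → E' ≠ E₁ →
            ∀ g ∈ pieceSub H E' Q, ∀ e ∈ E, g * e * g⁻¹ * e⁻¹ ∈ H₁ := by
        by_cases hone : ∃ E₁ : Subgroup G, E₁ ≤ E ∧ E₁.relIndex E = q ∧ E₁ ≤ K₂
        · obtain ⟨E₁, h1, h2, h3⟩ := hone
          exact ⟨E₁, h1, h2, fun E' h4 h5 hne => (hdich E' h4 h5).resolve_left
            fun h6 => htwo E' E₁ h4 h5 h1 h2 hne ⟨h6, h3⟩⟩
        · push Not at hone
          obtain ⟨E₁, h1, h2, -⟩ : ∃ E₁ : Subgroup G, E₁ ≤ E ∧ E₁.relIndex E = q ∧ True := by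
            obtain ⟨k, hk⟩ := IsPGroup.iff_card.1 (hK.group.to_le hE.1)
            rcases k with - | k
            · exact absurd (by rw [card_eq_one.1 (hk.trans (pow_zero q))]; exact bot_le) hEN
            obtain ⟨S, hS⟩ := Sylow.exists_subgroup_card_pow_prime (G := E) q (n := k)
              (hk ▸ pow_dvd_pow q (Nat.le_succ k))
            refine ⟨S.map E.subtype, map_subtype_le S, ?_, trivial⟩
            have h3 := CfsgLib.Coprime.card_mul_relIndex (map_subtype_le S : S.map E.subtype ≤ E)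
            rw [card_map_of_injective E.subtype_injective, hS, hk, pow_succ] at h3
            exact Nat.eq_of_mul_eq_mul_left (pow_pos hq.out.pos k) h3
          exact ⟨E₁, h1, h2, fun E' h4 h5 _ => (hdich E' h4 h5).resolve_left (hone E' h4 h5)⟩
      obtain ⟨E₁, hE₁, hE₁i, hgood⟩ := hsplit
      have hle : E₁ ≤ E ⊓ QN := by
        intro y hy
        refine ⟨hE₁ hy, hJgn ⟨hE.1 (hE₁ hy), hKH₁ (hE.1 (hE₁ hy)), fun x hx => ?_⟩⟩
        refine comm_of_pieces hE.2.1 hEQ hQH hHQ (hE.1.trans hKH) hsolH hqH hiQ hQH₁ (hE₁ hy)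
          (fun E' h4 h5 _ hyE' g hg w hw => ?_) x hx
        exact hgood E' h4 h5 (fun e => hyE' (e ▸ hy)) g hg w (zpowers_le.2 (hE₁ hy) hw)
      have h4 := Nat.le_of_dvd hq.out.pos (hE₁i ▸ relIndex_dvd_of_le_left E hle)
      have h5 := hq.out.one_lt
      nlinarith
    · push Not at htwo
      obtain ⟨E₁, E₂, h1, h2, h3, h4, hne, h5, h6⟩ := htwo
      refine le_trans ?_ (sup_le h5 h6)
      refine relIndex_eq_one.1 ?_
      have h7 := relIndex_mul_relIndex E₁ (E₁ ⊔ E₂) E le_sup_left (sup_le h1 h3)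
      rw [h2] at h7
      rcases (Nat.dvd_prime hq.out).1 ⟨_, h7.symm⟩ with h8 | h8
      · exfalso
        have hle : E₂ ≤ E₁ := le_sup_right.trans (relIndex_eq_one.1 h8)
        refine hne (le_antisymm ?_ hle)
        refine relIndex_eq_one.1 ?_
        have h9 := relIndex_mul_relIndex E₂ E₁ E hle h1
        rw [h2, h4] at h9
        exact Nat.eq_of_mul_eq_mul_right hq.out.pos (h9.trans (one_mul q).symm)
      · rw [h8] at h7
        exact Nat.eq_of_mul_eq_mul_left hq.out.pos (h7.trans (mul_one q).symm)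
  have hJK₂ : eJ q 0 K ≤ K₂ := iSup_le fun E => hall _ E.1 E.2 rfl
  have hQK₂ : Q ≤ K₂ := hQQN.trans hQNK₂
  have hQH₂ : Q ≤ H₂ := fun x hx => ⟨hQH hx, hQtriv x hx⟩
  have hH₂H : H₂ ≤ H := fun x hx => hx.1
  set Vf := V₀ ⊓ centralizer (eJ q 0 K : Set G) with hVf
  have hV : V₀ ≤ Vf := by
    refine le_of_sup_commutator (hK.group.to_le hQNK) hV₀QN inf_le_left (hQNK.trans hKV₀)
      (CfsgLib.Coprime.inf_le_normalizer (hQNK.trans hKV₀)
        ((hQNK.trans hKJ).trans (CfsgLib.Coprime.normalizer_le_normalizer_centralizer _))) ?_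
    rw [hV₀, conjClosure, closure_le]
    rintro _ ⟨x, hx, z, hz, rfl⟩
    have hxN : x ∈ normalizer ((H₂ ⊔ K₂ : Subgroup G) : Set G) := by
      refine CfsgLib.Invol.le_normalizer_of_forall_conj (U := H₂ ⊔ K₂) (A := H) (fun y hy w hw => ?_) hx
      obtain ⟨a, ha, b, hb, rfl⟩ := CfsgLib.Coprime.mem_sup_exists (commSet_le.trans hKH₂) hw
      rw [show y * (a * b) * y⁻¹ = (y * a * y⁻¹) * ((y * b * y⁻¹ * b⁻¹) * b) by group]
      exact mul_mem ((le_sup_left : H₂ ≤ _) ((mem_normalizer_iff.1 (hHH₂ hy) a).1 ha))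
        (mul_mem ((le_sup_left : H₂ ≤ _) (hb.2.2 y hy)) ((le_sup_right : K₂ ≤ _) hb))
    obtain ⟨c, hc, r, hr, hn⟩ := exists_normalizing (q := q) (hK.group.to_le commSet_le) hQK₂ hQH₂
      (commSet_le.trans hKH₂) (not_dvd_relIndex_of_between rfl hQH₂ (hH₂H.trans hHF)) hxN
    set m := r⁻¹ * c * r * x with hm
    have hc' : r⁻¹ * c * r ∈ H₂ := (mem_normalizer_iff''.1 (hKH₂ (commSet_le hr)) c).1 hc
    have hmH : m ∈ H := mul_mem (hH₂H hc') hx
    have hmJ : m ∈ normalizer (eJ q 0 K : Set G) := by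
      have hmK₂ : m ∈ normalizer (K₂ : Set G) := by
        rw [hm, show r⁻¹ * c * r * x = r⁻¹ * (c * r * x) by group]
        exact mul_mem (inv_mem (le_normalizer hr)) hn
      have h1 := normalizer_le_eJ (q := q) (k := 0) hmK₂
      rwa [eJ_eq_of_le le_rfl hJK₂ commSet_le] at h1
    set v := m * z * m⁻¹ with hv
    have hvV : v ∈ Vf := ⟨subset_closure ⟨m, hmH, z, hz, rfl⟩,
      (mem_normalizer_iff.1 (CfsgLib.Coprime.normalizer_le_normalizer_centralizer _ hmJ) z).1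
        (centralizer_le (eJ_mono (Nat.zero_le 1)) (zOne_le_centralizer hz))⟩
    set c₂ := (r⁻¹ * c * r)⁻¹ with hc₂
    have hsplit : x * z * x⁻¹ = (c₂ * v * c₂⁻¹ * v⁻¹) * v := by rw [hc₂, hv, hm]; group
    show x * z * x⁻¹ ∈ _
    rw [hsplit]
    exact mul_mem ((le_sup_right : D ≤ Vf ⊔ D) ((inv_mem hc').2 v hvV.1)) ((le_sup_left : Vf ≤ Vf ⊔ D) hvV)
  refine hJ (le_trans (fun r hr => ?_) hJgn)
  have hrK := eJ_le hr
  refine ⟨hrK, hKH₁ hrK, fun x hx => mem_inf.2 ⟨?_, CfsgLib.Coprime.centralizer_le_normalizer_self _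
    (mem_centralizer_iff.2 fun z hz => (displacement_fixes ?_ ?_).symm)⟩⟩
  · rw [show x * r * x⁻¹ * r⁻¹ = x * (r * x⁻¹ * r⁻¹) by group]
    exact mul_mem hx ((mem_normalizer_iff.1 (hKH hrK) _).1 (inv_mem hx))
  · exact mem_centralizer_iff.1 (centralizer_le (eJ_mono (Nat.zero_le 1)) (zOne_le_centralizer hz)) r hr
  · have hmem : x⁻¹ * z * x ∈ V₀ := subset_closure ⟨x⁻¹, inv_mem hx, z, hz, by rw [inv_inv]⟩
    exact mem_centralizer_iff.1 (hV hmem).2 r hr

end SFCtx

end CfsgLib.SolvSignalizer
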