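import Cfsg.Agent.Lib.SolvSignalizer.Bridge
import Cfsg.Agent.Lib.SolvSignalizer.Dedekind
import Cfsg.Agent.Lib.CFun.OddFpfCentralize

/-!
# Operator groups on abelian sections fixing the points fixed by a coprime element
-/

set_option autoImplicit false
set_option linter.style.haveILetI false
set_option linter.unusedSectionVars false

open Subgroup
open CfsgLib.Coprime (conj_mem_of_le_normalizer)

namespace CfsgLib.SolvSignalizer

universe u

section aut

variable {W : Type u} [CommGroup W] [Finite W] {p l : ℕ} [hp : Fact p.Prime] [hl : Fact l.Prime]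

/-- Automorphisms as additive endomorphisms. -/
def autEnd : MulAut W →* AddMonoid.End (Additive W) where
  toFun g := MonoidHom.toAdditive g.toMonoidHom
  map_one' := rfl
  map_mul' _ _ := rfl

theorem autEnd_injective : Function.Injective (autEnd (W := W)) := fun g h e =>
  MulEquiv.ext fun w => DFunLike.congr_fun e (Additive.ofMul w)

/-- Conjugation by an element of the normaliser as an automorphism of a subgroup. -/
noncomputable def conjAutSub {Γ : Type u} [Group Γ] (R : Subgroup Γ) {b : Γ} (hb : b ∈ normalizer (R : Set Γ)) :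
    R ≃* R :=
  normalizerMonoidHom R ⟨b, hb⟩

theorem conjAutSub_iterate {Γ : Type u} [Group Γ] (R : Subgroup Γ) {b : Γ}
    (hb : b ∈ normalizer (R : Set Γ)) (n : ℕ) (r : R) :
    (((⇑(conjAutSub R hb))^[n] r : R) : Γ) = b ^ n * r * (b ^ n)⁻¹ := by
  induction n with
  | zero => simp
  | succ n ih =>
    rw [Function.iterate_succ_apply', pow_succ']
    show b * (((⇑(conjAutSub R hb))^[n] r : R) : Γ) * b⁻¹ = _
    rw [ih]
    group

theorem intertwine (R : Subgroup (MulAut W)) {c : MulAut W} (hc : c ∈ normalizer (R : Set (MulAut W)))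
    (r : R) : autEnd c * (autEnd.comp R.subtype) r =
      (autEnd.comp R.subtype) (conjAutSub R hc r) * autEnd c := by
  simp only [MonoidHom.comp_apply, ← map_mul, coe_subtype]
  congr 1
  show c * (r : MulAut W) = c * (r : MulAut W) * c⁻¹ * c
  group

/-- An abelian group of automorphisms with no fixed point under `b`, fixing the displacement by
`z` of the points fixed by `b`, commutes with `z`. -/
theorem aut_commute_of_fpf {R : Subgroup (MulAut W)} {b z : MulAut W}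
    (hR : ∀ r ∈ R, ∀ s ∈ R, r * s = s * r) (hW : ∀ w : W, w ^ l = 1) (hlR : ¬ l ∣ Nat.card R)
    (hbp : b ^ p = 1) (hbR : b ∈ normalizer (R : Set (MulAut W)))
    (hzR : z ∈ normalizer (R : Set (MulAut W))) (hzp : ¬ p ∣ orderOf z) (hbz : b * z = z * b)
    (hfpf : ∀ r ∈ R, b * r * b⁻¹ = r → r = 1)
    (hfix : ∀ w, b w = w → ∀ r ∈ R, r (z w * w⁻¹) = z w * w⁻¹) {r : MulAut W} (hr : r ∈ R) :
    z * r * z⁻¹ = r := by
  letI : CommGroup R := { (inferInstance : Group R) with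
    mul_comm := fun x y => Subtype.ext (hR x x.2 y y.2) }
  have h := rho_tau_eq (W := Additive W) (R := R) (l := l) (fun w => hW w) hlR
    (autEnd.comp R.subtype) (autEnd b) (autEnd z) (autEnd z⁻¹) (conjAutSub R hbR) (conjAutSub R hzR)
    (funext fun x => Subtype.ext (by rw [conjAutSub_iterate, hbp]; simp))
    (by rw [← map_pow, hbp, map_one]) hzp
    (funext fun x => Subtype.ext (by rw [conjAutSub_iterate, pow_orderOf_eq_one]; simp))
    (by rw [← map_mul, mul_inv_cancel, map_one]) (intertwine R hbR) (intertwine R hzR)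
    (by rw [← map_mul, ← map_mul, hbz]) (fun x => Subtype.ext (by
      show b * (z * (x : MulAut W) * z⁻¹) * b⁻¹ = z * (b * (x : MulAut W) * b⁻¹) * z⁻¹
      have e : z⁻¹ * b⁻¹ = b⁻¹ * z⁻¹ := by rw [← mul_inv_rev, ← mul_inv_rev, hbz]
      calc _ = (b * z) * x * (z⁻¹ * b⁻¹) := by group
        _ = (z * b) * x * (b⁻¹ * z⁻¹) := by rw [hbz, e]
        _ = _ := by group))
    (fun x hx => Subtype.ext (hfpf x x.2 (congrArg Subtype.val hx)))
    (fun w hw x => by
      show Additive.ofMul ((x : MulAut W) (z w.toMul / w.toMul)) = Additive.ofMul (z w.toMul / w.toMul)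
      rw [div_eq_mul_inv, hfix w.toMul hw x x.2]) ⟨r, hr⟩
  exact autEnd_injective h

/-- An abelian group of automorphisms with no fixed point under `b` and fixing all points fixed
by `b` is trivial. -/
theorem aut_eq_one_of_fpf_abelian {R : Subgroup (MulAut W)} {b : MulAut W}
    (hR : ∀ r ∈ R, ∀ s ∈ R, r * s = s * r) (hW : ∀ w : W, w ^ l = 1) (hlR : ¬ l ∣ Nat.card R)
    (hbp : b ^ p = 1) (hbR : b ∈ normalizer (R : Set (MulAut W)))
    (hfpf : ∀ r ∈ R, b * r * b⁻¹ = r → r = 1) (hfix : ∀ w, b w = w → ∀ r ∈ R, r w = w)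
    {r : MulAut W} (hr : r ∈ R) : r = 1 := by
  letI : CommGroup R := { (inferInstance : Group R) with
    mul_comm := fun x y => Subtype.ext (hR x x.2 y y.2) }
  have h := rho_eq_one (W := Additive W) (R := R) (l := l) (p := p) (fun w => hW w) hlR
    (autEnd.comp R.subtype) (autEnd b) (conjAutSub R hbR)
    (funext fun x => Subtype.ext (by rw [conjAutSub_iterate, hbp]; simp))
    (by rw [← map_pow, hbp, map_one]) (intertwine R hbR)
    (fun x hx => Subtype.ext (hfpf x x.2 (congrArg Subtype.val hx)))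
    (fun w hw x => hfix w.toMul hw x x.2) ⟨r, hr⟩
  exact autEnd_injective (by rw [map_one]; exact h)

/-- The same without commutativity, for a `u`-group. -/
theorem aut_eq_bot_of_fpf {u : ℕ} [hu : Fact u.Prime] {R : Subgroup (MulAut W)} {b : MulAut W}
    (hR : IsPGroup u R) (hul : u ≠ l) (hW : ∀ w : W, w ^ l = 1)
    (hbp : b ^ p = 1) (hbR : b ∈ normalizer (R : Set (MulAut W)))
    (hfpf : ∀ r ∈ R, b * r * b⁻¹ = r → r = 1) (hfix : ∀ w, b w = w → ∀ r ∈ R, r w = w) :
    R = ⊥ := by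
  haveI : Finite (MulAut W) := Finite.of_injective _ DFunLike.coe_injective
  by_contra hne
  haveI : Nontrivial R := (nontrivial_iff_ne_bot R).2 hne
  set Z : Subgroup (MulAut W) := (center R).map R.subtype with hZ
  have hZR : Z ≤ R := map_subtype_le _
  have hZne : Z ≠ ⊥ := fun h => by
    haveI : Finite R := inferInstance
    haveI := hR.center_nontrivial
    rw [hZ, map_eq_bot_iff_of_injective _ R.subtype_injective] at h
    exact (nontrivial_iff_ne_bot _).1 inferInstance h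
  have hcard : ¬ l ∣ Nat.card Z := by
    obtain ⟨k, hk⟩ := IsPGroup.iff_card.1 (hR.to_le hZR)
    rw [hk]
    exact fun hd => hul ((Nat.prime_dvd_prime_iff_eq hl.out hu.out).1 (hl.out.dvd_of_dvd_pow hd)).symm
  refine hZne ((eq_bot_iff_forall _).2 fun r hr => ?_)
  refine aut_eq_one_of_fpf_abelian (l := l) (p := p) ?_ hW hcard hbp ?_
    (fun s hs => hfpf s (hZR hs)) (fun w hw s hs => hfix w hw s (hZR hs)) hr
  · rintro _ ⟨x, hx, rfl⟩ _ ⟨y, -, rfl⟩
    exact congrArg Subtype.val (mem_center_iff.1 hx y).symm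
  · exact CfsgLib.LS.normalizer_le_normalizer_map_char (center R) hbR

end aut

/-! ### Sections of a group -/

variable {G : Type u} [Group G] [Finite G] {p l u : ℕ} [hp : Fact p.Prime] [hl : Fact l.Prime]
  [hu : Fact u.Prime]

/-- The section is abelian of exponent `l`. -/
structure IsSection (l : ℕ) (M₁ M₀ : Subgroup G) : Prop where
  normal : (M₀.subgroupOf M₁).Normal
  comm : ∀ x ∈ M₁, ∀ y ∈ M₁, x * y * x⁻¹ * y⁻¹ ∈ M₀
  pow : ∀ x ∈ M₁, x ^ l ∈ M₀

/-- The section as an abelian group. -/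
@[reducible] def IsSection.commGroup {l : ℕ} {M₁ M₀ : Subgroup G} [(M₀.subgroupOf M₁).Normal]
    (h : IsSection l M₁ M₀) : CommGroup (Sec M₁ M₀) :=
  { (inferInstance : Group (Sec M₁ M₀)) with
    mul_comm := fun a b => by
      obtain ⟨x, rfl⟩ := QuotientGroup.mk_surjective a
      obtain ⟨y, rfl⟩ := QuotientGroup.mk_surjective b
      rw [← QuotientGroup.mk_mul, ← QuotientGroup.mk_mul, QuotientGroup.eq, mem_subgroupOf]
      simpa [mul_assoc] using h.comm _ (inv_mem y.2) _ (inv_mem x.2) }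

variable (M₁ M₀ : Subgroup G) [hn : (M₀.subgroupOf M₁).Normal]

theorem secAut_fixed_iff (g : stab M₁ M₀) (x : M₁) :
    secAut M₁ M₀ g (QuotientGroup.mk x) = QuotientGroup.mk x ↔
      (g : G) * x * (g : G)⁻¹ * (x : G)⁻¹ ∈ M₀ := by
  rw [secAut_mk, QuotientGroup.eq, ← inv_mem_iff, mem_subgroupOf]
  constructor
  · intro h
    have h3 := hn.conj_mem ⟨_, mul_mem (inv_mem x.2) ((mem_normalizer_iff.1 g.2.1 _).1 x.2)⟩
      (mem_subgroupOf.2 (by simpa [mul_assoc] using h)) x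
    simpa [mem_subgroupOf, mul_assoc] using h3
  · intro h
    have h3 := hn.conj_mem (⟨_, mul_mem ((mem_normalizer_iff.1 g.2.1 _).1 x.2) (inv_mem x.2)⟩ : M₁)
      (mem_subgroupOf.2 h) x⁻¹
    simpa [mem_subgroupOf, mul_assoc] using h3

theorem secAut_eq_one_iff (g : stab M₁ M₀) :
    secAut M₁ M₀ g = 1 ↔ ∀ x ∈ M₁, (g : G) * x * (g : G)⁻¹ * x⁻¹ ∈ M₀ := by
  rw [← secHom_eq_one, secHom, MonoidHom.comp_apply, map_eq_one_iff _ SemidirectProduct.inr_injective]

/-- The image of a subgroup in the automorphisms of the section. -/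
noncomputable def autImg (X : Subgroup G) : Subgroup (MulAut (Sec M₁ M₀)) :=
  (X.subgroupOf (stab M₁ M₀)).map (secAut M₁ M₀)

theorem autImg_normalizer {X : Subgroup G} {g : stab M₁ M₀} (hg : (g : G) ∈ normalizer (X : Set G)) :
    secAut M₁ M₀ g ∈ normalizer (autImg M₁ M₀ X : Set (MulAut (Sec M₁ M₀))) := by
  have h1 : g ∈ normalizer ((X.subgroupOf (stab M₁ M₀) : Subgroup (stab M₁ M₀)) : Set (stab M₁ M₀)) := by
    rw [mem_normalizer_iff]
    intro y
    exact mem_normalizer_iff.1 hg y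
  exact le_normalizer_map _ ⟨g, h1, rfl⟩

theorem autImg_card (X : Subgroup G) : Nat.card (autImg M₁ M₀ X) ∣ Nat.card X := by
  refine (CfsgLib.Coprime.card_map_dvd_card _ _).trans ?_
  rw [Nat.card_congr ((X.subgroupOf (stab M₁ M₀)).equivMapOfInjective (stab M₁ M₀).subtype
    (subtype_injective _)).toEquiv]
  exact card_dvd_of_le (by rintro _ ⟨y, hy, rfl⟩; exact hy)

theorem autImg_isPGroup {r : ℕ} {X : Subgroup G} (h : IsPGroup r X) :
    IsPGroup r (autImg M₁ M₀ X) :=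
  IsPGroup.map (h.of_injective (MonoidHom.mk' (fun x : X.subgroupOf (stab M₁ M₀) =>
    (⟨((x : stab M₁ M₀) : G), x.2⟩ : X)) fun a b => rfl) fun a b e => by
      ext
      exact congrArg (fun z : X => (z : G)) e) _

/-- An abelian group without fixed points under `b`, fixing the `z`-displacements of the section
points fixed by `b`, has the same action as its conjugate by `z`. -/
theorem sec_commutator_mem {R : Subgroup G} {b z : G} (hM : IsSection l M₁ M₀)
    (hR : ∀ r ∈ R, ∀ s ∈ R, r * s = s * r) (hlR : ¬ l ∣ Nat.card R) (hRs : R ≤ stab M₁ M₀)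
    (hbs : b ∈ stab M₁ M₀) (hzs : z ∈ stab M₁ M₀) (hbp : b ^ p = 1)
    (hpR : ¬ p ∣ Nat.card R) (hbR : b ∈ normalizer (R : Set G)) (hzR : z ∈ normalizer (R : Set G))
    (hzp : ¬ p ∣ orderOf z) (hbz : b * z = z * b) (hfpf : R ⊓ centralizer ({b} : Set G) = ⊥)
    (hfix : ∀ x ∈ M₁, b * x * b⁻¹ * x⁻¹ ∈ M₀ → ∀ r ∈ R,
      r * (z * x * z⁻¹ * x⁻¹) * r⁻¹ * (z * x * z⁻¹ * x⁻¹)⁻¹ ∈ M₀) :
    ∀ r ∈ R, ∀ x ∈ M₁, (z * r * z⁻¹ * r⁻¹) * x * (z * r * z⁻¹ * r⁻¹)⁻¹ * x⁻¹ ∈ M₀ := by
  letI := hM.commGroup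
  intro r hr
  set b' : stab M₁ M₀ := ⟨b, hbs⟩
  set z' : stab M₁ M₀ := ⟨z, hzs⟩
  set r' : stab M₁ M₀ := ⟨r, hRs hr⟩
  have key := aut_commute_of_fpf (W := Sec M₁ M₀) (l := l) (p := p) (R := autImg M₁ M₀ R)
    (b := secAut M₁ M₀ b') (z := secAut M₁ M₀ z') ?_ ?_ ?_ ?_ (autImg_normalizer M₁ M₀ hbR)
    (autImg_normalizer M₁ M₀ hzR) ?_ ?_ ?_ ?_ (r := secAut M₁ M₀ r') ⟨r', hr, rfl⟩
  · have h1 : secAut M₁ M₀ (z' * r' * z'⁻¹ * r'⁻¹) = 1 := by
      rw [map_mul, map_mul, map_mul, map_inv, map_inv, key, mul_inv_cancel]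
    exact (secAut_eq_one_iff M₁ M₀ _).1 h1
  · rintro _ ⟨x, hx, rfl⟩ _ ⟨y, hy, rfl⟩
    rw [← map_mul, ← map_mul]
    exact congrArg _ (Subtype.ext (hR _ hx _ hy))
  · intro w
    obtain ⟨x, rfl⟩ := QuotientGroup.mk_surjective w
    rw [← QuotientGroup.mk_pow, QuotientGroup.eq_one_iff]
    exact hM.pow x x.2
  · exact fun hd => hlR (hd.trans (autImg_card M₁ M₀ R))
  · rw [← map_pow, show b' ^ p = 1 from Subtype.ext hbp, map_one]
  · exact fun hd => hzp ((hd.trans (orderOf_map_dvd _ z')).trans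
      (by rw [← orderOf_coe (a := z')]))
  · rw [← map_mul, ← map_mul, show b' * z' = z' * b' from Subtype.ext hbz]
  · rintro _ ⟨s, hs, rfl⟩ he
    -- `s ↦ [b, s]` is injective on `R`, hence onto
    have hmem : ∀ t ∈ R, b * t * b⁻¹ * t⁻¹ ∈ R := fun t ht =>
      mul_mem ((mem_normalizer_iff.1 hbR t).1 ht) (inv_mem ht)
    let f : R →* R :=
      { toFun := fun t => ⟨_, hmem t t.2⟩
        map_one' := Subtype.ext (by simp)
        map_mul' := fun t v => Subtype.ext (by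
          show b * (t * v : G) * b⁻¹ * ((t : G) * v)⁻¹ =
            (b * t * b⁻¹ * (t : G)⁻¹) * (b * v * b⁻¹ * (v : G)⁻¹)
          have h1 := hR _ (hmem v v.2) _ (inv_mem t.2)
          calc _ = b * t * b⁻¹ * ((b * v * b⁻¹ * (v : G)⁻¹) * (t : G)⁻¹) := by group
            _ = b * t * b⁻¹ * ((t : G)⁻¹ * (b * v * b⁻¹ * (v : G)⁻¹)) := by rw [h1]
            _ = _ := by group) }
    have hf : Function.Injective f := by
      rw [injective_iff_map_eq_one]
      intro t ht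
      have h1 : b * t * b⁻¹ * (t : G)⁻¹ = 1 := congrArg Subtype.val ht
      have h2 : (t : G) ∈ R ⊓ centralizer ({b} : Set G) :=
        ⟨t.2, mem_centralizer_singleton_iff.2 (mul_inv_eq_iff_eq_mul.1 (mul_inv_eq_one.1 h1)).symm⟩
      rw [hfpf, mem_bot] at h2
      exact Subtype.ext h2
    -- the subgroup acting trivially is invariant, so `b` has no fixed point on the image
    let K : Subgroup R := ((secAut M₁ M₀).comp (inclusion hRs)).ker
    have hK : K.map f ≤ K := by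
      rintro _ ⟨t, ht, rfl⟩
      have ht' : secAut M₁ M₀ ⟨t, hRs t.2⟩ = 1 := ht
      show secAut M₁ M₀ (b' * ⟨t, hRs t.2⟩ * b'⁻¹ * ⟨t, hRs t.2⟩⁻¹) = 1
      rw [map_mul, map_mul, map_mul, map_inv, map_inv, ht']
      group
    have hKeq : K.map f = K := eq_of_le_of_card_ge hK (Nat.card_congr (K.equivMapOfInjective f hf).toEquiv).le
    have hs' : f ⟨s, hs⟩ ∈ K := by
      show secAut M₁ M₀ (b' * s * b'⁻¹ * s⁻¹) = 1
      rw [map_mul, map_mul, map_mul, map_inv, map_inv, he, mul_inv_cancel]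
    rw [← hKeq] at hs'
    obtain ⟨t, ht, e⟩ := hs'
    rw [hf e] at ht
    exact ht
  · rintro w hw _ ⟨s, hs, rfl⟩
    obtain ⟨x, rfl⟩ := QuotientGroup.mk_surjective w
    have h1 := hfix x x.2 ((secAut_fixed_iff M₁ M₀ b' x).1 hw) _ hs
    rw [secAut_mk, ← QuotientGroup.mk_inv, ← QuotientGroup.mk_mul, secAut_fixed_iff]
    exact h1

/-- A `u`-group whose elements fixed by `b` act trivially and which fixes the section points fixed
by `b` acts trivially. -/
theorem sec_trivial_of_fpf {R : Subgroup G} {b : G} (hM : IsSection l M₁ M₀) (hR : IsPGroup u R)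
    (hul : u ≠ l) (hup : u ≠ p) (hRs : R ≤ stab M₁ M₀) (hbs : b ∈ stab M₁ M₀) (hbp : b ^ p = 1)
    (hbR : b ∈ normalizer (R : Set G))
    (hker : ∀ r ∈ R, b * r = r * b → ∀ x ∈ M₁, r * x * r⁻¹ * x⁻¹ ∈ M₀)
    (hfix : ∀ x ∈ M₁, b * x * b⁻¹ * x⁻¹ ∈ M₀ → ∀ r ∈ R, r * x * r⁻¹ * x⁻¹ ∈ M₀) :
    ∀ r ∈ R, ∀ x ∈ M₁, r * x * r⁻¹ * x⁻¹ ∈ M₀ := by
  letI := hM.commGroup
  set b' : stab M₁ M₀ := ⟨b, hbs⟩
  have key := aut_eq_bot_of_fpf (W := Sec M₁ M₀) (l := l) (p := p) (R := autImg M₁ M₀ R)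
    (b := secAut M₁ M₀ b') (autImg_isPGroup M₁ M₀ hR) hul ?_ ?_ (autImg_normalizer M₁ M₀ hbR) ?_ ?_
  · intro r hr
    refine (secAut_eq_one_iff M₁ M₀ ⟨r, hRs hr⟩).1 ?_
    rw [← mem_bot, ← key]
    exact ⟨⟨r, hRs hr⟩, hr, rfl⟩
  · intro w
    obtain ⟨x, rfl⟩ := QuotientGroup.mk_surjective w
    rw [← QuotientGroup.mk_pow, QuotientGroup.eq_one_iff]
    exact hM.pow x x.2
  · rw [← map_pow, show b' ^ p = 1 from Subtype.ext hbp, map_one]
  · rintro _ ⟨s, hs, rfl⟩ he
    set K : Subgroup G := R ⊓ (secAut M₁ M₀).ker.map (stab M₁ M₀).subtype with hK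
    have hst : stab M₁ M₀ ≤ normalizer (((secAut M₁ M₀).ker.map (stab M₁ M₀).subtype : Subgroup G) : Set G) := by
      have h1 := le_normalizer_map (stab M₁ M₀).subtype (H := (secAut M₁ M₀).ker)
      rwa [normalizer_eq_top, ← MonoidHom.range_eq_map, range_subtype] at h1
    have hbK : zpowers b ≤ normalizer (K : Set G) :=
      CfsgLib.Coprime.inf_le_normalizer (zpowers_le.2 hbR) ((zpowers_le.2 hbs).trans hst)
    have hcop : (Nat.card (zpowers b)).Coprime (Nat.card K) := by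
      obtain ⟨n, hn⟩ := IsPGroup.iff_card.1 (hR.to_le (inf_le_left : K ≤ R))
      rw [Nat.card_zpowers, hn]
      exact (((Nat.coprime_primes hp.out hu.out).2 (Ne.symm hup)).coprime_dvd_left
        (orderOf_dvd_of_pow_eq_one hbp)).pow_right n
    have hsN : (s : G) ∈ normalizer (K : Set G) :=
      CfsgLib.Coprime.inf_le_normalizer (A := R) le_normalizer (hRs.trans hst) hs
    have h0 : b * (s : G) * b⁻¹ * (s : G)⁻¹ ∈ K := by
      refine mem_inf.2 ⟨mul_mem ((mem_normalizer_iff.1 hbR _).1 hs) (inv_mem hs),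
        mem_map.2 ⟨b' * s * b'⁻¹ * s⁻¹, ?_, rfl⟩⟩
      rw [MonoidHom.mem_ker, map_mul, map_mul, map_mul, map_inv, map_inv, he, mul_inv_cancel]
    have hall : ∀ a ∈ zpowers b, a * (s : G) * a⁻¹ * (s : G)⁻¹ ∈ K := by
      let F : Subgroup G :=
        { carrier := {a | a ∈ normalizer (K : Set G) ∧ a * (s : G) * a⁻¹ * (s : G)⁻¹ ∈ K}
          one_mem' := ⟨one_mem _, by simp⟩
          mul_mem' := fun {a c} ha hc => ⟨mul_mem ha.1 hc.1, by
            rw [show a * c * (s : G) * (a * c)⁻¹ * (s : G)⁻¹ =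
              a * (c * (s : G) * c⁻¹ * (s : G)⁻¹) * a⁻¹ * (a * (s : G) * a⁻¹ * (s : G)⁻¹) by group]
            exact mul_mem ((mem_normalizer_iff.1 ha.1 _).1 hc.2) ha.2⟩
          inv_mem' := fun {a} ha => ⟨inv_mem ha.1, by
            rw [show a⁻¹ * (s : G) * a⁻¹⁻¹ * (s : G)⁻¹ =
              a⁻¹ * (a * (s : G) * a⁻¹ * (s : G)⁻¹)⁻¹ * a by group]
            exact (mem_normalizer_iff''.1 ha.1 _).1 (inv_mem ha.2)⟩ }
      exact fun a ha => ((zpowers_le (H := F)).2 ⟨hbK (mem_zpowers b), h0⟩ ha).2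
    obtain ⟨n, hn, hsn⟩ := CfsgLib.Coprime.exists_fixed_in_coset hbK hcop
      (Or.inl (CfsgLib.Coprime.isSolvable_of_isMulCommutative inferInstance)) hsN hall
    obtain ⟨k, hk, hkn⟩ := hn.2
    have h2 : secAut M₁ M₀ (s * k) = 1 := (secAut_eq_one_iff M₁ M₀ _).2 fun x hx =>
      hker _ (mul_mem hs (by rw [show (k : G) = n from hkn]; exact hn.1))
        (by
          have := mem_centralizer_iff.1 hsn b (mem_zpowers b)
          rwa [show (k : G) = n from hkn]) x hx
    rw [map_mul, MonoidHom.mem_ker.1 hk, mul_one] at h2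
    exact h2
  · rintro w hw _ ⟨s, hs, rfl⟩
    obtain ⟨x, rfl⟩ := QuotientGroup.mk_surjective w
    rw [secAut_fixed_iff]
    exact hfix x x.2 ((secAut_fixed_iff M₁ M₀ b' x).1 hw) _ hs

end CfsgLib.SolvSignalizer
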