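import Cfsg.Agent.Lib.SolvSignalizer.Fpf
import Cfsg.Agent.Lib.CFun.OddCores
import Cfsg.Agent.Lib.PGroup.QBaer

/-!
# Recognising `O_u` of a solvable group through its abelian sections

The lemmas here show that a `u`-subgroup lies in `O_u` if it centralises enough sections.
-/

set_option autoImplicit false
set_option linter.style.haveILetI false
set_option linter.unusedSectionVars false

open Subgroup
open scoped commutatorElement
open CfsgLib.Coprime (conj_mem_of_le_normalizer)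
open CfsgLib.CFun (core coCore)

namespace CfsgLib.SolvSignalizer

universe u

variable {G : Type u} [Group G] [Finite G] {p u r : ℕ} [hp : Fact p.Prime] [hu : Fact u.Prime]

/-- An invariant section of exponent `r` of `H` above `O_u(H)`. -/
structure CoreSection (u r : ℕ) (H M₁ M₀ : Subgroup G) : Prop where
  isSection : IsSection r M₁ M₀
  le : M₁ ≤ H
  below : M₀ ≤ M₁
  core_le : core H u ≤ M₀
  norm₁ : normalizer (H : Set G) ≤ normalizer (M₁ : Set G)
  norm₀ : normalizer (H : Set G) ≤ normalizer (M₀ : Set G)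
  pi : ∀ s : ℕ, s.Prime → s ∣ Nat.card M₁ → s = r ∨ s = u

/-- A `u`-subgroup of a solvable group centralising all these sections lies in `O_u`. -/
theorem le_core_of_sections {H T : Subgroup G} [Group.IsSolvable H] (hT : T ≤ H) (hTu : IsPGroup u T)
    (hs : ∀ (r : ℕ) (M₁ M₀ : Subgroup G), r.Prime → r ≠ u → CoreSection u r H M₁ M₀ →
      ∀ t ∈ T, ∀ x ∈ M₁, t * x * t⁻¹ * x⁻¹ ∈ M₀) : T ≤ core H u := by
  classical
  haveI : (Cfsg.pCore u H).Normal := CfsgLib.Coprime.pCore_normal' u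
  haveI := CfsgLib.Coprime.pCore_characteristic (G := H) u
  set f := QuotientGroup.mk' (Cfsg.pCore u H) with hf
  set T' : Subgroup (H ⧸ Cfsg.pCore u H) := (T.subgroupOf H).map f with hT'
  have hT'u : IsPGroup u T' := IsPGroup.map (hTu.of_injective
    (subgroupOfEquivOfLe hT).toMonoidHom (subgroupOfEquivOfLe hT).injective) f
  -- the image centralises every core
  have hcore : ∀ r : ℕ, r.Prime → T' ≤ centralizer (Cfsg.pCore r (H ⧸ Cfsg.pCore u H) : Set _) := by
    intro r hr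
    haveI := Fact.mk hr
    by_cases hru : r = u
    · subst hru
      rw [CfsgLib.Coprime.pCore_quotient_eq_bot r]
      intro t _
      rw [mem_centralizer_iff]
      rintro x hx
      rw [SetLike.mem_coe, mem_bot] at hx
      simp [hx]
    set K := Cfsg.pCore r (H ⧸ Cfsg.pCore u H) with hK
    haveI : K.Normal := CfsgLib.Coprime.pCore_normal' r
    haveI hKc : K.Characteristic := CfsgLib.Coprime.pCore_characteristic r
    have hKr : IsPGroup r K := CfsgLib.Coprime.pCore_isPGroup r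
    set Φ := (frattini K).map K.subtype with hΦ
    haveI hΦc : Φ.Characteristic := by
      rw [characteristic_iff_map_eq]
      intro φ
      have hm : K.map φ.toMonoidHom = K := characteristic_iff_map_eq.1 hKc φ
      let ψ : K ≃* K := (φ.subgroupMap K).trans (MulEquiv.subgroupCongr hm)
      calc Φ.map φ.toMonoidHom = ((frattini K).map ψ.toMonoidHom).map K.subtype := by
            rw [hΦ, map_map, map_map]
            rfl
        _ = Φ := congrArg (map K.subtype) (CfsgLib.CFun.FpfComm.frattini_map_eq ψ)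
    haveI := Characteristic.comap_quotient_mk hKc
    haveI := Characteristic.comap_quotient_mk hΦc
    set M₁ : Subgroup G := (K.comap f).map H.subtype with hM₁
    set M₀ : Subgroup G := (Φ.comap f).map H.subtype with hM₀
    have hΦK : Φ ≤ K := map_subtype_le _
    have hmem₀ : ∀ (x : H), (x : G) ∈ M₀ ↔ f x ∈ Φ := fun x =>
      ⟨fun ⟨y, hy, e⟩ => by rw [← H.subtype_injective e]; exact hy, fun h => ⟨x, h, rfl⟩⟩
    have hcs : CoreSection u r H M₁ M₀ := by
      refine
        { isSection := ⟨?_, ?_, ?_⟩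
          le := map_subtype_le _
          below := map_mono (comap_mono hΦK)
          core_le := ?_
          norm₁ := CfsgLib.LS.normalizer_le_normalizer_map_char _
          norm₀ := CfsgLib.LS.normalizer_le_normalizer_map_char _
          pi := ?_ }
      · rw [Subgroup.normal_subgroupOf_iff_le_normalizer (map_mono (comap_mono hΦK))]
        exact (map_subtype_le _).trans (le_normalizer.trans (CfsgLib.LS.normalizer_le_normalizer_map_char _))
      · rintro _ ⟨x, hx, rfl⟩ _ ⟨y, hy, rfl⟩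
        refine (hmem₀ (x * y * x⁻¹ * y⁻¹)).2 ?_
        refine ⟨⟨f x, hx⟩ * ⟨f y, hy⟩ * ⟨f x, hx⟩⁻¹ * ⟨f y, hy⟩⁻¹,
          CfsgLib.Coprime.commutator_le_frattini hKr
            (commutator_mem_commutator (mem_top _) (mem_top _)), ?_⟩
        simp
      · rintro _ ⟨x, hx, rfl⟩
        refine (hmem₀ (x ^ r)).2 ⟨⟨f x, hx⟩ ^ r, CfsgLib.Coprime.pow_mem_frattini hKr _, ?_⟩
        simp
      · rintro _ ⟨x, hx, rfl⟩
        refine (hmem₀ x).2 ?_
        rw [show f x = 1 from (QuotientGroup.eq_one_iff x).2 hx]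
        exact one_mem _
      · intro s hs hsd
        haveI := Fact.mk hs
        rw [hM₁, ← Nat.card_congr ((K.comap f).equivMapOfInjective _ H.subtype_injective).toEquiv,
          CfsgLib.Coprime.card_eq_card_mul_card_map_mk' (Cfsg.pCore u H)
            (fun x hx => by
              rw [mem_comap, show f x = 1 from (QuotientGroup.eq_one_iff x).2 hx]
              exact one_mem _),
          map_comap_eq_self_of_surjective (QuotientGroup.mk'_surjective _)] at hsd
        rcases hs.dvd_mul.1 hsd with hd | hd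
        · obtain ⟨n, hn⟩ := IsPGroup.iff_card.1 (CfsgLib.Coprime.pCore_isPGroup (G := H) u)
          rw [hn] at hd
          exact Or.inr ((Nat.prime_dvd_prime_iff_eq hs hu.out).1 (hs.dvd_of_dvd_pow hd))
        · obtain ⟨n, hn⟩ := IsPGroup.iff_card.1 hKr
          rw [hn] at hd
          exact Or.inl ((Nat.prime_dvd_prime_iff_eq hs hr).1 (hs.dvd_of_dvd_pow hd))
    refine CfsgLib.Coprime.le_centralizer_of_trivial_on_frattini_quotient
      (A := T') (K := K) (fun t _ => by rw [normalizer_eq_top]; exact mem_top _) ?_ ?_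
    · obtain ⟨n, hn⟩ := IsPGroup.iff_card.1 hT'u
      obtain ⟨m, hm⟩ := IsPGroup.iff_card.1 (hKr.to_subgroup (frattini K))
      rw [hn, hm]
      exact ((Nat.coprime_primes hu.out hr).2 (Ne.symm hru)).pow n m
    · rintro _ ⟨t, ht, rfl⟩ k hk
      obtain ⟨x, rfl⟩ := QuotientGroup.mk'_surjective _ k
      have := hs r M₁ M₀ hr hru hcs _ ht _ ⟨x, hk, rfl⟩
      have h2 := (hmem₀ (t * x * t⁻¹ * x⁻¹)).1 this
      simpa [hΦ, hf] using h2
  -- hence the Fitting subgroup
  have hFit : T' ≤ centralizer (Cfsg.fittingSubgroup (H ⧸ Cfsg.pCore u H) : Set _) := by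
    rw [CfsgLib.Coprime.fitting_eq_iSup_pCore, le_centralizer_iff, iSup_le_iff]
    exact fun r => le_centralizer_iff.1 (hcore r r.2)
  intro t ht
  have hmem : f ⟨t, hT ht⟩ ∈ T' := ⟨⟨t, hT ht⟩, ht, rfl⟩
  obtain ⟨k, hk⟩ := hT'u ⟨_, hmem⟩
  have h1 := CfsgLib.PGroup.QBaer.mem_pCore_of_mem_fitting (q := u) (k := k)
    (by simpa using congrArg Subtype.val hk)
    (CfsgLib.Coprime.centralizer_fitting_le (hFit hmem))
  rw [CfsgLib.Coprime.pCore_quotient_eq_bot u, mem_bot] at h1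
  exact ⟨⟨t, hT ht⟩, (QuotientGroup.eq_one_iff _).1 h1, rfl⟩

/-- In a section of exponent prime to `u` an element of a `u`-group is trivial. -/
theorem mem_of_isPGroup_section {M₁ M₀ U : Subgroup G} (hr : r.Prime) (hru : r ≠ u)
    (hM : IsSection r M₁ M₀) (hU : IsPGroup u U) {x : G} (hxU : x ∈ U) (hx : x ∈ M₁) : x ∈ M₀ := by
  obtain ⟨k, hk⟩ := hU ⟨x, hxU⟩
  have hk' : x ^ u ^ k = 1 := congrArg Subtype.val hk
  have hcop : (u ^ k).Coprime r := ((Nat.coprime_primes hu.out hr).2 hru.symm).pow_left k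
  have e : x = (x ^ u ^ k) ^ (Nat.gcdA (u ^ k) r) * (x ^ r) ^ (Nat.gcdB (u ^ k) r) := by
    rw [← zpow_natCast, ← zpow_mul, ← zpow_natCast, ← zpow_mul, ← zpow_add,
      ← Nat.gcd_eq_gcd_ab, hcop.gcd_eq_one]
    simp
  rw [e, hk', one_zpow, one_mul]
  exact zpow_mem (hM.pow x hx) _

/-- A `u`-subgroup of `H` whose commutators with the points fixed by each element of a
noncyclic operator group lie in `u`-subgroups lies in `O_u(H)`. -/
theorem le_core_of_fixed {H T L : Subgroup G} [Group.IsSolvable H] (hT : T ≤ H) (hTu : IsPGroup u T)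
    (hH : ¬ p ∣ Nat.card H) (hL : Cfsg.IsElementaryAbelian p L) (hL2 : p ^ 2 ≤ Nat.card L)
    (hLH : L ≤ normalizer (H : Set G))
    (hfix : ∀ d ∈ L, d ≠ 1 → ∃ U : Subgroup G, IsPGroup u U ∧
      ∀ x ∈ H ⊓ centralizer ({d} : Set G), ∀ t ∈ T, t * x * t⁻¹ * x⁻¹ ∈ U) : T ≤ core H u := by
  haveI : IsMulCommutative L := hL.1
  refine le_core_of_sections hT hTu fun r M₁ M₀ hr hru hc t ht x hx => ?_
  have h0 : M₁ ≤ normalizer (M₀ : Set G) := (hc.le.trans le_normalizer).trans hc.norm₀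
  have htN : t ∈ normalizer (H : Set G) := le_normalizer (hT ht)
  have ht₁ := hc.norm₁ htN
  have ht₀ := hc.norm₀ htN
  let W : Subgroup G :=
    { carrier := {x | x ∈ M₁ ∧ t * x * t⁻¹ * x⁻¹ ∈ M₀}
      one_mem' := ⟨one_mem _, by simp⟩
      mul_mem' := fun {x y} hx hy => ⟨mul_mem hx.1 hy.1, by
        rw [show t * (x * y) * t⁻¹ * (x * y)⁻¹ =
          (t * x * t⁻¹ * x⁻¹) * (x * (t * y * t⁻¹ * y⁻¹) * x⁻¹) by group]
        exact mul_mem hx.2 ((mem_normalizer_iff.1 (h0 hx.1) _).1 hy.2)⟩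
      inv_mem' := fun {x} hx => ⟨inv_mem hx.1, by
        rw [show t * x⁻¹ * t⁻¹ * x⁻¹⁻¹ = x⁻¹ * (t * x * t⁻¹ * x⁻¹)⁻¹ * x by group]
        exact (mem_normalizer_iff''.1 (h0 hx.1) _).1 (inv_mem hx.2)⟩ }
  have hcyc : ¬ IsCyclic L := fun h => by
    obtain ⟨g, hg⟩ := h.exists_generator
    have h1 : Nat.card L ∣ p := by
      rw [← orderOf_eq_card_of_forall_mem_zpowers hg]
      exact orderOf_dvd_of_pow_eq_one (Subtype.ext (hL.2 g g.2))
    have h2 := hL2.trans (Nat.le_of_dvd hp.out.pos h1)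
    have h3 := hp.out.two_le
    nlinarith
  have hcop : (Nat.card L).Coprime (Nat.card M₁) :=
    (CfsgLib.Invol.coprime_card_of_not_dvd (CfsgLib.EABasic.isPGroup_of_isElementaryAbelian hL)
      hH).coprime_dvd_right (card_dvd_of_le hc.le)
  suffices M₁ ≤ W from (this hx).2
  refine CfsgLib.Coprime.le_of_centralizers_le hcyc (hLH.trans hc.norm₁) hcop fun d hd hd1 y hy => ?_
  obtain ⟨U, hU, hUf⟩ := hfix d hd hd1
  exact ⟨hy.1, mem_of_isPGroup_section hr hru hc.isSection hU (hUf y ⟨hc.le hy.1, hy.2⟩ t ht)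
    (mul_mem ((mem_normalizer_iff.1 ht₁ _).1 hy.1) (inv_mem hy.1))⟩

/-- A point of the section fixed by `a` lifts to a fixed element. -/
theorem exists_fixed_lift {H M₁ M₀ : Subgroup G} (hc : CoreSection u r H M₁ M₀) (hH : ¬ p ∣ Nat.card H)
    {a : G} (hap : a ^ p = 1) (haH : a ∈ normalizer (H : Set G)) {x : G} (hx : x ∈ M₁)
    (hxa : a * x * a⁻¹ * x⁻¹ ∈ M₀) :
    ∃ n ∈ M₀, x * n ∈ M₁ ∧ x * n ∈ centralizer ({a} : Set G) := by
  have hA : zpowers a ≤ normalizer (M₀ : Set G) := zpowers_le.2 (hc.norm₀ haH)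
  have hxN : x ∈ normalizer (M₀ : Set G) := hc.norm₀ (le_normalizer (hc.le hx))
  have hcop : (Nat.card (zpowers a)).Coprime (Nat.card M₀) := by
    rw [Nat.card_zpowers]
    exact ((hp.out.coprime_iff_not_dvd.2 fun hd =>
      hH (hd.trans (card_dvd_of_le (hc.below.trans hc.le))))).coprime_dvd_left
      (orderOf_dvd_of_pow_eq_one hap)
  have hall : ∀ g ∈ zpowers a, g * x * g⁻¹ * x⁻¹ ∈ M₀ := by
    let F : Subgroup G :=
      { carrier := {g | g ∈ normalizer (M₀ : Set G) ∧ g * x * g⁻¹ * x⁻¹ ∈ M₀}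
        one_mem' := ⟨one_mem _, by simp⟩
        mul_mem' := fun {g k} hg hk => ⟨mul_mem hg.1 hk.1, by
          rw [show g * k * x * (g * k)⁻¹ * x⁻¹ =
            g * (k * x * k⁻¹ * x⁻¹) * g⁻¹ * (g * x * g⁻¹ * x⁻¹) by group]
          exact mul_mem ((mem_normalizer_iff.1 hg.1 _).1 hk.2) hg.2⟩
        inv_mem' := fun {g} hg => ⟨inv_mem hg.1, by
          rw [show g⁻¹ * x * g⁻¹⁻¹ * x⁻¹ = g⁻¹ * (g * x * g⁻¹ * x⁻¹)⁻¹ * g by group]
          exact (mem_normalizer_iff''.1 hg.1 _).1 (inv_mem hg.2)⟩ }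
    exact fun g hg => ((zpowers_le (H := F)).2 ⟨hA (mem_zpowers a), hxa⟩ hg).2
  obtain ⟨n, hn, hxn⟩ := CfsgLib.Coprime.exists_fixed_in_coset hA hcop
    (Or.inl (CfsgLib.Coprime.isSolvable_of_isMulCommutative inferInstance)) hxN hall
  exact ⟨n, hn, mul_mem hx (hc.below hn),
    mem_centralizer_singleton_iff.2 (mem_centralizer_iff.1 hxn a (mem_zpowers a)).symm⟩

/-- A subgroup normalised by the fixed points of `a` fixes the section points fixed by `a`. -/
theorem section_fixed {H M₁ M₀ R : Subgroup G} (hr : r.Prime) (hru : r ≠ u)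
    (hc : CoreSection u r H M₁ M₀) (hH : ¬ p ∣ Nat.card H) (hRH : R ≤ normalizer (H : Set G))
    (hR : IsPGroup u R)
    {a : G} (hap : a ^ p = 1) (haH : a ∈ normalizer (H : Set G))
    (hC : H ⊓ centralizer ({a} : Set G) ≤ normalizer (R : Set G)) {x : G} (hx : x ∈ M₁)
    (hxa : a * x * a⁻¹ * x⁻¹ ∈ M₀) {t : G} (ht : t ∈ R) : t * x * t⁻¹ * x⁻¹ ∈ M₀ := by
  obtain ⟨n, hn, hxn, hca⟩ := exists_fixed_lift hc hH hap haH hx hxa
  have ht₁ := hc.norm₁ (hRH ht)
  have ht₀ := hc.norm₀ (hRH ht)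
  have hxN : x ∈ normalizer (M₀ : Set G) := hc.norm₀ (le_normalizer (hc.le hx))
  have h1 : t * (x * n) * t⁻¹ * (x * n)⁻¹ ∈ M₀ := by
    refine mem_of_isPGroup_section hr hru hc.isSection hR ?_
      (mul_mem ((mem_normalizer_iff.1 ht₁ _).1 hxn) (inv_mem hxn))
    rw [show t * (x * n) * t⁻¹ * (x * n)⁻¹ = t * ((x * n) * t⁻¹ * (x * n)⁻¹) by group]
    exact mul_mem ht ((mem_normalizer_iff.1 (hC ⟨hc.le hxn, hca⟩) _).1 (inv_mem ht))
  rw [show t * x * t⁻¹ * x⁻¹ =
    (t * (x * n) * t⁻¹ * (x * n)⁻¹) * (x * (n * (t * n⁻¹ * t⁻¹)) * x⁻¹) by group]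
  exact mul_mem h1 ((mem_normalizer_iff.1 hxN _).1
    (mul_mem hn ((mem_normalizer_iff.1 ht₀ _).1 (inv_mem hn))))

/-- A `u`-subgroup normalised by `a` and by its fixed points: if it is abelian or `u` is odd, its
commutator with `a` lies in `O_u`. -/
theorem commutator_le_core {H R : Subgroup G} [Group.IsSolvable H] (hup : u ≠ p)
    (hH : ¬ p ∣ Nat.card H) (hRH : R ≤ H) (hR : IsPGroup u R) {a : G} (hap : a ^ p = 1)
    (haH : a ∈ normalizer (H : Set G)) (haR : a ∈ normalizer (R : Set G))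
    (hC : H ⊓ centralizer ({a} : Set G) ≤ normalizer (R : Set G))
    (hor : (∀ x ∈ R, ∀ y ∈ R, x * y = y * x) ∨ u ≠ 2) : ⁅R, zpowers a⁆ ≤ core H u := by
  classical
  have hA : zpowers a ≤ normalizer (R : Set G) := zpowers_le.2 haR
  have hTR : ⁅R, zpowers a⁆ ≤ R := by
    rw [commutator_le]
    intro x hx g hg
    rw [commutatorElement_def, mul_assoc x g, mul_assoc x]
    exact mul_mem hx (conj_mem_of_le_normalizer hA hg (inv_mem hx))
  have hcopR : (Nat.card (zpowers a)).Coprime (Nat.card R) := by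
    obtain ⟨n, hn⟩ := IsPGroup.iff_card.1 hR
    rw [Nat.card_zpowers, hn]
    exact (((Nat.coprime_primes hp.out hu.out).2 (Ne.symm hup)).coprime_dvd_left
      (orderOf_dvd_of_pow_eq_one hap)).pow_right n
  set T := ⁅R, zpowers a⁆ with hT
  have haT : a ∈ normalizer (T : Set G) :=
    CfsgLib.CFun.le_normalizer_commutator hA le_normalizer (mem_zpowers a)
  refine le_core_of_sections (hTR.trans hRH) (hR.to_le hTR) fun r M₁ M₀ hr hru hc => ?_
  haveI := Fact.mk hr
  haveI := hc.isSection.normal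
  have hfix : ∀ x ∈ M₁, a * x * a⁻¹ * x⁻¹ ∈ M₀ → ∀ t ∈ R, t * x * t⁻¹ * x⁻¹ ∈ M₀ :=
    fun x hx hxa t ht => section_fixed hr hru hc hH (hRH.trans le_normalizer) hR hap haH hC hx hxa ht
  have has : a ∈ stab M₁ M₀ := ⟨hc.norm₁ haH, hc.norm₀ haH⟩
  have hRs : R ≤ stab M₁ M₀ := fun x hx => ⟨hc.norm₁ (le_normalizer (hRH hx)), hc.norm₀ (le_normalizer (hRH hx))⟩
  rcases hor with hab | hodd
  · have hbot : (R ⊓ centralizer (zpowers a : Set G)) ⊓ T = ⊥ :=
      CfsgLib.Coprime.centralizer_inf_commutator_eq_bot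
        ⟨⟨fun x y => Subtype.ext (hab x x.2 y y.2)⟩⟩ hA hcopR
    refine sec_trivial_of_fpf (p := p) (b := a) M₁ M₀ hc.isSection (hR.to_le hTR) hru.symm hup
      (hTR.trans hRs) has hap haT ?_ fun x hx hxa t ht => hfix x hx hxa t (hTR ht)
    intro t ht hta x hx
    have h1 : t = 1 := by
      rw [← mem_bot, ← hbot]
      refine ⟨⟨hTR ht, mem_centralizer_iff.2 ?_⟩, ht⟩
      rintro _ ⟨n, rfl⟩
      exact (Commute.zpow_left (show Commute a t from hta) n).eq
    rw [h1]
    simp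
  · -- odd order operators
    letI := hc.isSection.commGroup
    set a' : stab M₁ M₀ := ⟨a, has⟩
    set V : Subgroup (Holo M₁ M₀) := secTop M₁ M₀ with hV
    set K : Subgroup (Holo M₁ M₀) := secImg M₁ M₀ T with hK
    set α := secHom M₁ M₀ a' with hα
    have hVc : ∀ v ∈ V, ∀ w ∈ V, v * w = w * v := by
      rintro _ ⟨v, rfl⟩ _ ⟨w, rfl⟩
      rw [← map_mul, ← map_mul, mul_comm]
    have hVr : IsPGroup r V := by
      intro v
      obtain ⟨w, hw⟩ := v.2
      obtain ⟨x, rfl⟩ := QuotientGroup.mk_surjective w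
      refine ⟨1, Subtype.ext ?_⟩
      rw [pow_one, SubmonoidClass.coe_pow, ← hw, ← map_pow, ← QuotientGroup.mk_pow,
        (QuotientGroup.eq_one_iff (x ^ r)).2 (mem_subgroupOf.2 (hc.isSection.pow x x.2)), map_one]
      rfl
    have hKu : IsPGroup u K := secImg_isPGroup M₁ M₀ (hR.to_le hTR)
    have hKV : K ≤ normalizer (V : Set (Holo M₁ M₀)) := secImg_le_normalizer_top M₁ M₀ T
    have hcopVK : (Nat.card K).Coprime (Nat.card V) := by
      obtain ⟨n, hn⟩ := IsPGroup.iff_card.1 hKu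
      obtain ⟨m, hm⟩ := IsPGroup.iff_card.1 hVr
      rw [hn, hm]
      exact ((Nat.coprime_primes hu.out hr).2 hru.symm).pow n m
    set V' : Subgroup (Holo M₁ M₀) := ⁅V, K⁆ with hV'
    have hV'V : V' ≤ V := by
      rw [hV', commutator_le]
      intro x hx g hg
      rw [commutatorElement_def, mul_assoc x g, mul_assoc x]
      exact mul_mem hx ((mem_normalizer_iff.1 (hKV hg) _).1 (inv_mem hx))
    have hαV : α ∈ normalizer (V : Set (Holo M₁ M₀)) :=
      secImg_le_normalizer_top M₁ M₀ (zpowers a) (secHom_mem M₁ M₀ (x := a') (mem_zpowers a))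
    have hαK : α ∈ normalizer (K : Set (Holo M₁ M₀)) :=
      secImg_le_normalizer M₁ M₀ (zpowers_le.2 haT) (zpowers_le.2 has)
        (secHom_mem M₁ M₀ (x := a') (mem_zpowers a))
    have hKV' : K ≤ normalizer (V' : Set (Holo M₁ M₀)) :=
      CfsgLib.CFun.le_normalizer_commutator hKV le_normalizer
    have hαV' : α ∈ normalizer (V' : Set (Holo M₁ M₀)) :=
      CfsgLib.CFun.le_normalizer_commutator (H := zpowers α) (zpowers_le.2 hαV) (zpowers_le.2 hαK)
        (mem_zpowers α)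
    have hVM : IsMulCommutative V := ⟨⟨fun x y => Subtype.ext (hVc x x.2 y y.2)⟩⟩
    have hfix' : ∀ v ∈ V', α * v = v * α → v = 1 := by
      intro v hv hαv
      obtain ⟨w, rfl⟩ := hV'V hv
      obtain ⟨x, rfl⟩ := QuotientGroup.mk_surjective w
      have hx : a * (x : G) * a⁻¹ * (x : G)⁻¹ ∈ M₀ := by
        refine (secAut_fixed_iff M₁ M₀ a' x).1 (SemidirectProduct.inl_injective
          (φ := MonoidHom.id (MulAut (Sec M₁ M₀))) ?_)
        rw [← secHom_conj, hαv, mul_inv_cancel_right]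
      have hcent : (SemidirectProduct.inl (QuotientGroup.mk x : Sec M₁ M₀) : Holo M₁ M₀) ∈
          centralizer (K : Set (Holo M₁ M₀)) := by
        rw [mem_centralizer_iff]
        rintro _ ⟨t, ht, rfl⟩
        have h2 := (secAut_fixed_iff M₁ M₀ t x).2 (hfix x x.2 hx t (hTR ht))
        rw [← mul_inv_eq_iff_eq_mul, secHom_conj, h2]
      have hmem : (SemidirectProduct.inl (QuotientGroup.mk x : Sec M₁ M₀) : Holo M₁ M₀) ∈
          (V ⊓ centralizer (K : Set (Holo M₁ M₀))) ⊓ ⁅V, K⁆ := ⟨⟨⟨_, rfl⟩, hcent⟩, hv⟩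
      rw [CfsgLib.Coprime.centralizer_inf_commutator_eq_bot hVM hKV hcopVK, mem_bot] at hmem
      exact hmem
    have hTa : ⁅T, zpowers a⁆ = T := CfsgLib.Coprime.commutator_commutator_eq hA hcopR
      (Or.inl (CfsgLib.Coprime.isSolvable_of_isMulCommutative inferInstance))
    have hKK : K ≤ ⁅K, zpowers α⁆ := by
      rintro _ ⟨t, ht, rfl⟩
      let S : Subgroup G :=
        { carrier := {g | ∃ hg : g ∈ stab M₁ M₀, secHom M₁ M₀ ⟨g, hg⟩ ∈ ⁅K, zpowers α⁆}
          one_mem' := ⟨one_mem _, by rw [show (⟨1, _⟩ : stab M₁ M₀) = 1 from rfl, map_one]; exact one_mem _⟩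
          mul_mem' := fun {x y} ⟨hx, hx'⟩ ⟨hy, hy'⟩ => ⟨mul_mem hx hy, by
            rw [show (⟨x * y, _⟩ : stab M₁ M₀) = ⟨x, hx⟩ * ⟨y, hy⟩ from rfl, map_mul]
            exact mul_mem hx' hy'⟩
          inv_mem' := fun {x} ⟨hx, hx'⟩ => ⟨inv_mem hx, by
            rw [show (⟨x⁻¹, _⟩ : stab M₁ M₀) = ⟨x, hx⟩⁻¹ from rfl, map_inv]
            exact inv_mem hx'⟩ }
      have hle : ⁅T, zpowers a⁆ ≤ S := by
        rw [commutator_le]
        intro x hx g hg
        refine ⟨mul_mem (mul_mem (mul_mem (hRs (hTR hx)) (zpowers_le.2 has hg))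
          (inv_mem (hRs (hTR hx)))) (inv_mem (zpowers_le.2 has hg)), ?_⟩
        obtain ⟨n, rfl⟩ := hg
        rw [show (⟨⁅x, a ^ n⁆, _⟩ : stab M₁ M₀) = ⁅(⟨x, hRs (hTR hx)⟩ : stab M₁ M₀), a' ^ n⁆ from
          Subtype.ext (by simp [commutatorElement_def, a']), map_commutatorElement, map_zpow]
        exact commutator_mem_commutator (secHom_mem M₁ M₀ hx) (zpow_mem (mem_zpowers α) n)
      obtain ⟨_, h⟩ := hle (hTa.symm ▸ ht)
      exact h
    have hoddK : Odd (Nat.card K) := by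
      obtain ⟨n, hn⟩ := IsPGroup.iff_card.1 hKu
      rw [hn]
      exact (hu.out.odd_of_ne_two hodd).pow
    have hpK : ¬ p ∣ Nat.card K := fun hd => by
      obtain ⟨n, hn⟩ := IsPGroup.iff_card.1 hKu
      rw [hn] at hd
      exact hup ((Nat.prime_dvd_prime_iff_eq hp.out hu.out).1 (hp.out.dvd_of_dvd_pow hd)).symm
    have hrK : ¬ r ∣ Nat.card K := fun hd => by
      obtain ⟨n, hn⟩ := IsPGroup.iff_card.1 hKu
      rw [hn] at hd
      exact hru ((Nat.prime_dvd_prime_iff_eq hr hu.out).1 (hr.dvd_of_dvd_pow hd))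
    intro t ht x hx
    have hmemK : secHom M₁ M₀ ⟨t, hRs (hTR ht)⟩ ∈ K := secHom_mem M₁ M₀ ht
    by_cases hrp : p = r
    · -- the section is a `p'`-group
      subst hrp
      have hx1 : x ∈ M₀ := by
        have hcop : (Nat.card H).Coprime p := (hp.out.coprime_iff_not_dvd.2 hH).symm
        obtain ⟨k, hk⟩ := exists_pow_eq_self_of_coprime
          (Nat.Coprime.coprime_dvd_right (show orderOf x ∣ Nat.card H by
            rw [← orderOf_mk x (hc.le hx)]; exact orderOf_dvd_natCard _) hcop.symm)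
        rw [← hk]
        exact pow_mem (hc.isSection.pow x hx) k
      exact mul_mem ((mem_normalizer_iff.1 (hRs (hTR ht)).2 _).1 hx1) (inv_mem hx1)
    have hcent := CfsgLib.CFun.FpfComm.commutator_le_centralizer (Γ := Holo M₁ M₀) (l := r) (r := p)
      (V := V') (K := K) (hVr.to_le hV'V) hp.out hrp
      (a := α) (by rw [← map_pow, show a' ^ p = 1 from Subtype.ext hap, map_one]) hαV' hαK hKV'
      hoddK hpK hrK hfix'
    have hKC : K ≤ centralizer (V : Set (Holo M₁ M₀)) :=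
      CfsgLib.Coprime.le_centralizer_of_le_centralizer_commutator hKV hcopVK
        (Or.inr (CfsgLib.Coprime.isSolvable_of_isMulCommutative hVM)) (hKK.trans hcent)
    exact (secHom_eq_one M₁ M₀).1 ((secHom_mem_centralizer M₁ M₀).1 (hKC hmemK)) x hx

end CfsgLib.SolvSignalizer
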