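import Cfsg.Agent.Lib.SolvSignalizer.Context
import Cfsg.Agent.Lib.SolvSignalizer.Section

/-!
# Frames of a minimal incomplete solvable signalizer functor

A frame is a member centralised by a plane and contained in `O_u` of the values at its points.
-/

set_option autoImplicit false
set_option linter.style.haveILetI false
set_option linter.unusedSectionVars false

open Subgroup
open scoped commutatorElement
open CfsgLib.Coprime (conj_mem_of_le_normalizer IsPiNum)
open CfsgLib.CFun (core coCore)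
open Cfsg (signalizerFamily signalizerInf)

namespace CfsgLib.SolvSignalizer

universe u

variable {G : Type u} [Group G]

/-- The central elements of exponent `q` of `X`. -/
def omegaZ (q : ℕ) (X : Subgroup G) : Subgroup G where
  carrier := {x | x ∈ X ∧ x ∈ centralizer (X : Set G) ∧ x ^ q = 1}
  one_mem' := ⟨one_mem _, one_mem _, one_pow _⟩
  mul_mem' := fun {x y} hx hy => ⟨mul_mem hx.1 hy.1, mul_mem hx.2.1 hy.2.1, by
    rw [(show Commute x y from mem_centralizer_iff.1 hy.2.1 x hx.1).mul_pow, hx.2.2, hy.2.2, one_mul]⟩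
  inv_mem' := fun {x} hx => ⟨inv_mem hx.1, inv_mem hx.2.1, by rw [inv_pow, hx.2.2, inv_one]⟩

theorem omegaZ_le {q : ℕ} {X : Subgroup G} : omegaZ q X ≤ X := fun _ hx => hx.1

theorem omegaZ_le_centralizer {q : ℕ} {X : Subgroup G} : omegaZ q X ≤ centralizer (X : Set G) :=
  fun _ hx => hx.2.1

theorem omegaZ_comm {q : ℕ} {X : Subgroup G} :
    ∀ x ∈ omegaZ q X, ∀ y ∈ omegaZ q X, x * y = y * x :=
  fun x hx _ hy => mem_centralizer_iff.1 hy.2.1 x hx.1

theorem omegaZ_elementary {q : ℕ} {X : Subgroup G} : Cfsg.IsElementaryAbelian q (omegaZ q X) :=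
  ⟨⟨⟨fun a b => Subtype.ext (omegaZ_comm (a : G) a.2 (b : G) b.2)⟩⟩, fun _ hx => hx.2.2⟩

theorem normalizer_le_omegaZ [Finite G] {q : ℕ} {X : Subgroup G} :
    normalizer (X : Set G) ≤ normalizer (omegaZ q X : Set G) := by
  refine CfsgLib.Invol.le_normalizer_of_forall_conj fun g hg x hx =>
    ⟨(mem_normalizer_iff.1 hg x).1 hx.1, ?_, by rw [conj_pow, hx.2.2]; simp⟩
  exact (mem_normalizer_iff.1 (CfsgLib.Coprime.normalizer_le_normalizer_centralizer X hg) x).1 hx.2.1

theorem omegaZ_ne_bot [Finite G] {q : ℕ} [hq : Fact q.Prime] {X : Subgroup G} (hX : IsPGroup q X)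
    (h : X ≠ ⊥) : omegaZ q X ≠ ⊥ := by
  haveI : Nontrivial X := (nontrivial_iff_ne_bot X).2 h
  haveI := hX.center_nontrivial
  obtain ⟨n, hn⟩ := IsPGroup.iff_card.1 (hX.to_subgroup (center X))
  have hpos : 1 < Nat.card (center X) := Finite.one_lt_card
  rcases n with - | n
  · rw [hn, pow_zero] at hpos; exact absurd hpos (lt_irrefl 1)
  obtain ⟨z, hz⟩ := exists_prime_orderOf_dvd_card' (G := center X) q
    (by rw [hn, pow_succ]; exact dvd_mul_left q _)
  intro hb
  have hmem : (((z : X) : G)) ∈ omegaZ q X := by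
    refine ⟨(z : X).2, mem_centralizer_iff.2 fun y hy => ?_, ?_⟩
    · exact congrArg Subtype.val (mem_center_iff.1 z.2 ⟨y, hy⟩)
    · have := congrArg (fun w : center X => ((w : X) : G)) (hz ▸ pow_orderOf_eq_one z)
      simpa using this
  rw [hb, mem_bot] at hmem
  have h1 : z = 1 := Subtype.ext (Subtype.ext hmem)
  rw [h1, orderOf_one] at hz
  exact hq.out.one_lt.ne hz

/-- A frame for the prime `q`. -/
structure Frame (p : ℕ) (A : Subgroup G) (θ : G → Subgroup G) (q : ℕ) (L S : Subgroup G) : Prop where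
  prime : q.Prime
  plane_le : L ≤ A
  plane : L.relIndex A = p
  mem : S ∈ signalizerFamily p A θ
  group : IsPGroup q S
  inv : signalizerInf A θ ≤ normalizer (S : Set G)
  ne_bot : S ≠ ⊥
  fixed : S ≤ centralizer (L : Set G)
  in_core : ∀ d ∈ L, d ≠ 1 → S ≤ core (θ d) q

/-- `a` is regular: it moves some odd core, or the central involutions of the even core, of a
maximal member containing `θ a`. -/
def IsRegular (p : ℕ) (A : Subgroup G) (θ : G → Subgroup G) (a : G) : Prop :=
  ∃ J, IsMaxMem p A θ J ∧ θ a ≤ J ∧ ∃ q : ℕ, q.Prime ∧ ∃ Q : Subgroup G,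
    (Q = omegaZ q (core J q) ∨ (q ≠ 2 ∧ Q = core J q)) ∧ ¬ Q ≤ centralizer ({a} : Set G)

variable [Finite G] {p : ℕ} [hp : Fact p.Prime] {A : Subgroup G} {θ : G → Subgroup G}

/-- A subgroup containing all Sylow subgroups of `H` contains `H`. -/
theorem le_of_primary_le {H W : Subgroup G}
    (h : ∀ (r : ℕ) (P : Subgroup G), r.Prime → P ≤ H → IsPGroup r P → P ≤ W) : H ≤ W := by
  have hle : H ≤ H ⊓ W := by
    refine (eq_of_le_of_card_ge inf_le_left (Nat.le_of_dvd Nat.card_pos ?_)).ge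
    rw [← Nat.factorization_le_iff_dvd Nat.card_pos.ne' Nat.card_pos.ne']
    intro r
    by_cases hr : r.Prime
    · haveI := Fact.mk hr
      obtain ⟨S⟩ : Nonempty (Sylow r H) := inferInstance
      have hS : (S : Subgroup H).map H.subtype ≤ H ⊓ W :=
        le_inf (map_subtype_le _) (h r _ hr (map_subtype_le _) (S.2.map _))
      have hd := card_dvd_of_le hS
      rw [← Nat.card_congr ((S : Subgroup H).equivMapOfInjective H.subtype H.subtype_injective).toEquiv,
        S.card_eq_multiplicity] at hd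
      exact (hr.pow_dvd_iff_le_factorization Nat.card_pos.ne').1 hd
    · rw [Nat.factorization_eq_zero_of_not_prime _ hr]
      exact Nat.zero_le _
  exact hle.trans inf_le_right

/-- A subgroup of a solvable group centralising all cores lies in the Fitting subgroup. -/
theorem le_fittingOf_of_cores {H Y : Subgroup G} [Group.IsSolvable H] (hY : Y ≤ H)
    (h : ∀ r : ℕ, r.Prime → Y ≤ centralizer (core H r : Set G)) : Y ≤ Cfsg.fittingOf H := by
  refine le_trans (le_inf hY ?_) CfsgLib.CFun.centralizer_fittingOf_le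
  rw [le_centralizer_iff]
  exact CfsgLib.CFun.fittingOf_le_of_cores fun r hr => le_centralizer_iff.1 (h r hr)

/-- A `q`-subgroup of a solvable group centralising all cores lies in `O_q`. -/
theorem le_core_of_centralizes_cores {q : ℕ} [Fact q.Prime] {H Y : Subgroup G} [Group.IsSolvable H]
    (hY : Y ≤ H) (hYq : IsPGroup q Y) (h : ∀ r : ℕ, r.Prime → Y ≤ centralizer (core H r : Set G)) :
    Y ≤ core H q :=
  CfsgLib.CFun.le_core_of_le_fittingOf (le_fittingOf_of_cores hY h) hYq

/-- A `q`-subgroup normalised by the subgroup lies in `O_q`. -/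
theorem le_core_of_normal {q : ℕ} [Fact q.Prime] {H Y : Subgroup G} (hY : Y ≤ H)
    (hn : H ≤ normalizer (Y : Set G)) (hYq : IsPGroup q Y) : Y ≤ core H q := by
  haveI : (Y.subgroupOf H).Normal := (normal_subgroupOf_iff_le_normalizer hY).2 hn
  have h1 := CfsgLib.Coprime.le_pCore (N := Y.subgroupOf H) (p := q)
    (hYq.of_injective (subgroupOfEquivOfLe hY).toMonoidHom (subgroupOfEquivOfLe hY).injective)
  exact fun y hy => ⟨⟨y, hY hy⟩, h1 hy, rfl⟩

theorem normalizer_le_core {H : Subgroup G} (r : ℕ) :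
    normalizer (H : Set G) ≤ normalizer (core H r : Set G) := by
  haveI := CfsgLib.Coprime.pCore_characteristic (G := H) r
  exact CfsgLib.LS.normalizer_le_normalizer_map_char _

theorem normalizer_le_coCore {H : Subgroup G} (r : ℕ) :
    normalizer (H : Set G) ≤ normalizer (coCore H r : Set G) := by
  haveI := CfsgLib.Coprime.pPrimeCore_characteristic (G := H) r
  exact CfsgLib.LS.normalizer_le_normalizer_map_char _

/-- The displacement of a point by an operator fixing a normalised subgroup pointwise centralises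
that subgroup. -/
theorem displacement_mem_centralizer {a x : G} {N : Subgroup G} (hx : x ∈ normalizer (N : Set G))
    (hN : N ≤ centralizer ({a} : Set G)) : a * x * a⁻¹ * x⁻¹ ∈ centralizer (N : Set G) := by
  rw [mem_centralizer_iff]
  intro f hf
  have h1 : a * f = f * a := (mem_centralizer_singleton_iff.1 (hN hf)).symm
  have h2 := (mem_centralizer_singleton_iff.1 (hN ((mem_normalizer_iff''.1 hx f).1 hf))).symm
  calc f * (a * x * a⁻¹ * x⁻¹) = f * a * x * a⁻¹ * x⁻¹ := by group
    _ = a * f * x * a⁻¹ * x⁻¹ := by rw [h1]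
    _ = a * x * ((x⁻¹ * f * x) * a⁻¹) * x⁻¹ := by group
    _ = a * x * (a⁻¹ * (x⁻¹ * f * x)) * x⁻¹ := by
      rw [show (x⁻¹ * f * x) * a⁻¹ = a⁻¹ * (x⁻¹ * f * x) by
        rw [eq_inv_mul_iff_mul_eq, ← mul_assoc, h2, mul_inv_cancel_right]]
    _ = a * x * a⁻¹ * x⁻¹ * f := by group

namespace SFCtx

variable (h : SFCtx p A θ)

include h

theorem core_mem {X : Subgroup G} (hX : X ∈ signalizerFamily p A θ) (r : ℕ) :
    core X r ∈ signalizerFamily p A θ :=
  h.mem_of_le hX CfsgLib.CFun.core_le ((h.le_normA hX).trans (normalizer_le_core r))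

theorem coCore_mem {X : Subgroup G} (hX : X ∈ signalizerFamily p A θ) (r : ℕ) :
    coCore X r ∈ signalizerFamily p A θ :=
  h.mem_of_le hX CfsgLib.CFun.coCore_le ((h.le_normA hX).trans (normalizer_le_coCore r))

theorem omegaZ_mem {X : Subgroup G} (hX : X ∈ signalizerFamily p A θ) (q : ℕ) :
    omegaZ q X ∈ signalizerFamily p A θ :=
  h.mem_of_le hX omegaZ_le ((h.le_normA hX).trans normalizer_le_omegaZ)

/-- A prime divisor of a member divides some value of the functor. -/
theorem prime_dvd_theta {X : Subgroup G} (hX : X ∈ signalizerFamily p A θ) {r : ℕ} (hr : r.Prime)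
    (hd : r ∣ Nat.card X) : ∃ a ∈ A, a ≠ 1 ∧ r ∣ Nat.card (θ a) := by
  haveI := Fact.mk hr
  by_contra hne
  push Not at hne
  obtain ⟨S, hS, hSA⟩ := CfsgLib.Coprime.exists_invariant_sylow (h.le_normA hX) (h.coprime hX)
    (Or.inl (CfsgLib.Coprime.isSolvable_of_isMulCommutative h.elem.1)) r
  have hSm := h.mem_of_le hX hS.1 hSA
  have hSb : S ≤ ⊥ := h.le_of_fix hSm fun a ha ha1 => by
    obtain ⟨n, hn⟩ := IsPGroup.iff_card.1 (hS.isPGroup.to_le (inf_le_left : S ⊓ θ a ≤ S))
    rcases n with - | n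
    · rw [pow_zero] at hn
      exact (card_eq_one.1 hn).le
    · exact absurd ((dvd_pow_self r (Nat.succ_ne_zero n)).trans
        (hn ▸ card_dvd_of_le inf_le_right)) (hne a ha ha1)
  have h1 := S.eq_bot_iff_card.1 (le_bot_iff.1 hSb)
  rw [hS.2] at h1
  exact (Nat.one_lt_pow (hr.factorization_pos_of_dvd Nat.card_pos.ne' hd).ne' hr.one_lt).ne' h1

/-! ### Frames -/

/-- A frame in a member lies in its `O_q`. -/
theorem frame_le_core {q : ℕ} {L S X : Subgroup G} (hS : Frame p A θ q L S)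
    (hX : X ∈ signalizerFamily p A θ) (hSX : S ≤ X) : S ≤ core X q := by
  haveI := Fact.mk hS.prime
  haveI : Group.IsSolvable X := hX.1
  have hLe : Cfsg.IsElementaryAbelian p L :=
    ⟨⟨⟨fun x y => Subtype.ext (h.commA (hS.plane_le x.2) (hS.plane_le y.2))⟩⟩,
      fun x hx => h.elem.2 x (hS.plane_le hx)⟩
  refine le_core_of_fixed hSX hS.group hX.2.1 hLe (h.plane_card hS.plane_le hS.plane).ge
    (hS.plane_le.trans (h.le_normA hX)) fun d hd hd1 => ⟨core (θ d) q, CfsgLib.CFun.isPGroup_core,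
      fun x hx t ht => ?_⟩
  have hxd : x ∈ θ d := h.fix_le hX (hS.plane_le hd) hd1 hx
  have htd : t ∈ core (θ d) q := hS.in_core d hd hd1 ht
  rw [show t * x * t⁻¹ * x⁻¹ = t * (x * t⁻¹ * x⁻¹) by group]
  exact mul_mem htd ((mem_normalizer_iff.1 (CfsgLib.CFun.le_normalizer_core hxd) _).1 (inv_mem htd))

/-- Frames of distinct primes commute. -/
theorem frame_commute {q r : ℕ} {L L' S T : Subgroup G} (hS : Frame p A θ q L S)
    (hT : Frame p A θ r L' T) (hqr : q ≠ r) : S ≤ centralizer (T : Set G) := by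
  haveI := Fact.mk hS.prime
  haveI := Fact.mk hT.prime
  obtain ⟨e, he, he', he1⟩ := h.planes_meet hS.plane_le hS.plane hT.plane_le hT.plane
  refine (hS.in_core e he he1).trans (le_trans ?_ (centralizer_le (hT.in_core e he' he1)))
  exact CfsgLib.CFun.le_centralizer_of_inf_eq_bot
    (CfsgLib.CFun.core_le.trans CfsgLib.CFun.le_normalizer_core)
    (CfsgLib.CFun.core_le.trans CfsgLib.CFun.le_normalizer_core)
    (CfsgLib.CFun.inf_eq_bot_of_isPGroup CfsgLib.CFun.isPGroup_core
      (CfsgLib.CFun.not_dvd_of_isPGroup (Ne.symm hqr) CfsgLib.CFun.isPGroup_core))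

/-- The commutators of the fixed points of a plane in an abelian or odd core are frames. -/
theorem frame_of_core {a : G} {J Q L : Subgroup G} {q : ℕ} (hqp : q.Prime) (ha : a ∈ A) (ha1 : a ≠ 1)
    (hJ : J ∈ signalizerFamily p A θ) (haJ : θ a ≤ J) (hQJ : Q ≤ J)
    (hQn : normalizer (J : Set G) ≤ normalizer (Q : Set G)) (hQq : IsPGroup q Q)
    (hor : (∀ x ∈ Q, ∀ y ∈ Q, x * y = y * x) ∨ q ≠ 2) (hL : L ≤ A) (hLi : L.relIndex A = p)
    (hne : ⁅Q ⊓ centralizer (L : Set G), zpowers a⁆ ≠ ⊥) :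
    Frame p A θ q L ⁅Q ⊓ centralizer (L : Set G), zpowers a⁆ := by
  haveI := Fact.mk hqp
  set Q₀ := Q ⊓ centralizer (L : Set G) with hQ₀
  have hAL : A ≤ normalizer (centralizer (L : Set G) : Set G) := by
    refine le_trans ?_ (CfsgLib.Coprime.normalizer_le_normalizer_centralizer L)
    refine le_trans ?_ (CfsgLib.Coprime.centralizer_le_normalizer_self L)
    exact fun b hb => mem_centralizer_iff.2 fun l hl => h.commA (hL hl) hb
  have hAQ : A ≤ normalizer (Q : Set G) := (h.le_normA hJ).trans hQn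
  have hAQ₀ : A ≤ normalizer (Q₀ : Set G) := CfsgLib.Coprime.inf_le_normalizer hAQ hAL
  have hAa : A ≤ normalizer (zpowers a : Set G) := by
    refine le_trans ?_ (CfsgLib.Coprime.centralizer_le_normalizer_self _)
    exact fun b hb => mem_centralizer_iff.2 fun g hg => h.commA (zpowers_le.2 ha hg) hb
  have hTQ : ⁅Q₀, zpowers a⁆ ≤ Q₀ := by
    rw [commutator_le]
    intro x hx g hg
    rw [commutatorElement_def, mul_assoc x g, mul_assoc x]
    exact mul_mem hx (conj_mem_of_le_normalizer ((zpowers_le.2 ha).trans hAQ₀) hg (inv_mem hx))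
  have hCJ : signalizerInf A θ ≤ J := (h.C_le_theta ha ha1).trans haJ
  have hCL : signalizerInf A θ ≤ normalizer (centralizer (L : Set G) : Set G) :=
    (h.C_le_centralizer.trans (centralizer_le hL)).trans le_normalizer
  have hCa : signalizerInf A θ ≤ normalizer (zpowers a : Set G) :=
    (h.C_le_centralizer.trans (centralizer_le (zpowers_le.2 ha))).trans
      (CfsgLib.Coprime.centralizer_le_normalizer_self _)
  refine ⟨hqp, hL, hLi, h.mem_of_le hJ ((hTQ.trans inf_le_left).trans hQJ)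
    (CfsgLib.CFun.le_normalizer_commutator hAQ₀ hAa), hQq.to_le (hTQ.trans inf_le_left),
    CfsgLib.CFun.le_normalizer_commutator
      (CfsgLib.Coprime.inf_le_normalizer ((hCJ.trans le_normalizer).trans hQn) hCL) hCa,
    hne, hTQ.trans inf_le_right, fun d hd hd1 => ?_⟩
  have hdA := hL hd
  haveI : Group.IsSolvable (θ d) := h.functor.2 d hdA hd1
  have hθd := h.theta_mem hdA hd1
  set R := Q ⊓ centralizer ({d} : Set G) with hR
  have hRd : R ≤ θ d := fun x hx => h.fix_le hJ hdA hd1 ⟨hQJ hx.1, hx.2⟩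
  refine le_trans (commutator_mono (inf_le_inf_left Q (centralizer_le (Set.singleton_subset_iff.2 hd))) le_rfl)
    (commutator_le_core (p := p) ?_ hθd.2.1 hRd (hQq.to_le inf_le_left) (h.elem.2 a ha)
      (h.le_normA hθd ha) ?_ ?_ (hor.imp_left fun hc x hx y hy => hc x hx.1 y hy.1))
  · intro e
    refine hne (le_bot_iff.1 (le_trans hTQ ?_))
    intro x hx
    obtain ⟨k, hk⟩ := hQq ⟨x, hx.1⟩
    have h1 : orderOf x ∣ q ^ k := orderOf_dvd_of_pow_eq_one (congrArg Subtype.val hk)
    have h2 : orderOf x ∣ Nat.card J := by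
      rw [← orderOf_mk x (hQJ hx.1)]; exact orderOf_dvd_natCard _
    rw [mem_bot, ← orderOf_eq_one_iff]
    exact Nat.eq_one_of_dvd_coprimes ((hp.out.coprime_iff_not_dvd.2 hJ.2.1).pow_left k)
      (e ▸ h1) h2
  · exact CfsgLib.Coprime.inf_le_normalizer (zpowers_le.2 (hAQ ha))
      ((zpowers_le.2 (mem_centralizer_singleton_iff.2 (h.commA ha hdA))).trans le_normalizer)
      (mem_zpowers a)
  · refine CfsgLib.Coprime.inf_le_normalizer ?_ ((inf_le_left.trans ?_).trans le_normalizer)
    · intro x hx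
      exact hQn (le_normalizer (haJ (h.fix_le hθd ha ha1 hx)))
    · exact h.theta_le_centralizer hdA hd1

/-- A regular element yields a frame. -/
theorem frame_of_regular {a : G} (ha : a ∈ A) (ha1 : a ≠ 1) {J Q : Subgroup G} {q : ℕ}
    (hJ : J ∈ signalizerFamily p A θ) (haJ : θ a ≤ J) (hqp : q.Prime) (hQJ : Q ≤ J)
    (hQn : normalizer (J : Set G) ≤ normalizer (Q : Set G)) (hQq : IsPGroup q Q)
    (hor : (∀ x ∈ Q, ∀ y ∈ Q, x * y = y * x) ∨ q ≠ 2) (hQa : ¬ Q ≤ centralizer ({a} : Set G)) :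
    ∃ L S, Frame p A θ q L S := by
  by_contra hne
  push Not at hne
  refine hQa ?_
  have hQm : Q ∈ signalizerFamily p A θ := h.mem_of_le hJ hQJ ((h.le_normA hJ).trans hQn)
  have h0 : ⁅Q, zpowers a⁆ ≤ ⊥ := commutator_le_of_hyperplanes h.elem
    (le_trans (Nat.pow_le_pow_right hp.out.pos (by norm_num)) h.card_le) hQm.2.1 hQm.1 (h.le_normA hQm) ha
    fun E hE hi _ => by
      by_contra hb
      exact hne E _ (h.frame_of_core hqp ha ha1 hJ haJ hQJ hQn hQq hor hE hi fun e => hb e.le)
  intro x hx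
  have h1 := h0 (commutator_mem_commutator hx (mem_zpowers a))
  rw [mem_bot, commutatorElement_eq_one_iff_mul_comm] at h1
  exact mem_centralizer_singleton_iff.2 h1

/-- An element which is not regular centralises the odd cores. -/
theorem exceptional_odd {a : G} (hex : ¬ IsRegular p A θ a) {J : Subgroup G}
    (hJ : IsMaxMem p A θ J) (haJ : θ a ≤ J) {r : ℕ} (hr : r.Prime) (hr2 : r ≠ 2) :
    core J r ≤ centralizer ({a} : Set G) := by
  by_contra hn
  exact hex ⟨J, hJ, haJ, r, hr, _, Or.inr ⟨hr2, rfl⟩, hn⟩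

/-- An element which is not regular moves the even core. -/
theorem exceptional_two {a : G} (ha : a ∈ A) (ha1 : a ≠ 1) (hex : ¬ IsRegular p A θ a)
    {J : Subgroup G} (hJ : IsMaxMem p A θ J) (haJ : θ a ≤ J) :
    ¬ core J 2 ≤ centralizer ({a} : Set G) := by
  obtain ⟨r, hr, hn⟩ := h.exists_core_moved ha ha1 hJ haJ
  by_cases hr2 : r = 2
  · exact hr2 ▸ hn
  · exact absurd (h.exceptional_odd hex hJ haJ hr hr2) hn

theorem two_ne_p {J : Subgroup G} (hJ : J ∈ signalizerFamily p A θ) {a : G}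
    (hn : ¬ core J 2 ≤ centralizer ({a} : Set G)) : (2 : ℕ) ≠ p := by
  haveI : Fact (Nat.Prime 2) := ⟨Nat.prime_two⟩
  obtain ⟨n, hn'⟩ := IsPGroup.iff_card.1 (CfsgLib.CFun.isPGroup_core (H := J) (s := 2))
  rcases n with - | n
  · exact absurd (by rw [card_eq_one.1 (hn'.trans (pow_zero 2))]; exact bot_le) hn
  · exact h.prime_ne_p (h.core_mem hJ 2) (hn' ▸ dvd_pow_self 2 (Nat.succ_ne_zero n))

/-- An element which is not regular centralises the centre of the even core. -/
theorem exceptional_center {a : G} (ha : a ∈ A) (ha1 : a ≠ 1) (hex : ¬ IsRegular p A θ a)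
    {J : Subgroup G} (hJ : IsMaxMem p A θ J) (haJ : θ a ≤ J) :
    core J 2 ⊓ centralizer (core J 2 : Set G) ≤ centralizer ({a} : Set G) := by
  haveI : Fact (Nat.Prime 2) := ⟨Nat.prime_two⟩
  set U := core J 2 with hU
  set V := U ⊓ centralizer (U : Set G) with hV
  have hUm := h.core_mem hJ.1 2
  have hVm : V ∈ signalizerFamily p A θ :=
    h.inf_mem hUm ((h.le_normA hUm).trans (CfsgLib.Coprime.normalizer_le_normalizer_centralizer U))
  have hVc : IsMulCommutative V :=
    ⟨⟨fun x y => Subtype.ext (mem_centralizer_iff.1 y.2.2 x x.2.1)⟩⟩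
  have haV : zpowers a ≤ normalizer (V : Set G) := (zpowers_le.2 ha).trans (h.le_normA hVm)
  have hbot := CfsgLib.Coprime.centralizer_inf_commutator_eq_bot hVc haV
    ((h.coprime hVm).coprime_dvd_left (card_dvd_of_le (zpowers_le.2 ha)))
  intro x hx
  rw [mem_centralizer_singleton_iff, ← commutatorElement_eq_one_iff_mul_comm, ← mem_bot]
  suffices hz : ⁅V, zpowers a⁆ = ⊥ from hz ▸ commutator_mem_commutator hx (mem_zpowers a)
  have hle : ⁅V, zpowers a⁆ ≤ V := by
    rw [commutator_le]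
    intro y hy g hg
    rw [commutatorElement_def, mul_assoc y g, mul_assoc y]
    exact mul_mem hy (conj_mem_of_le_normalizer haV hg (inv_mem hy))
  by_contra hne
  have hWq : IsPGroup 2 (⁅V, zpowers a⁆ : Subgroup G) :=
    CfsgLib.CFun.isPGroup_core.to_le (hle.trans inf_le_left)
  obtain ⟨n, hn⟩ := IsPGroup.iff_card.1 hWq
  rcases n with - | n
  · exact hne (card_eq_one.1 (hn.trans (pow_zero 2)))
  obtain ⟨z, hz⟩ := exists_prime_orderOf_dvd_card' (G := (⁅V, zpowers a⁆ : Subgroup G)) 2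
    (hn ▸ dvd_pow_self 2 (Nat.succ_ne_zero n))
  have hz2 : (z : G) ^ 2 = 1 := by
    rw [← SubmonoidClass.coe_pow, ← hz, pow_orderOf_eq_one]; rfl
  have hzO : (z : G) ∈ omegaZ 2 U := ⟨(hle z.2).1, (hle z.2).2, hz2⟩
  have hfix : (z : G) ∈ centralizer ({a} : Set G) := by
    by_contra hn'
    exact hex ⟨J, hJ, haJ, 2, Nat.prime_two, _, Or.inl rfl, fun hl => hn' (hl hzO)⟩
  have hmem : (z : G) ∈ (V ⊓ centralizer (zpowers a : Set G)) ⊓ ⁅V, zpowers a⁆ := by
    have hC : centralizer ({a} : Set G) ≤ centralizer (zpowers a : Set G) := by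
      rw [zpowers_eq_closure, centralizer_closure]
    have hfix' : (z : G) ∈ centralizer (zpowers a : Set G) := hC hfix
    exact ⟨⟨hle z.2, hfix'⟩, z.2⟩
  rw [hbot, mem_bot] at hmem
  have h1 : z = 1 := Subtype.ext hmem
  rw [h1, orderOf_one] at hz
  omega

end SFCtx

end CfsgLib.SolvSignalizer
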