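import Cfsg.Agent.Lib.SolvSignalizer.Frame

/-!
# A minimal incomplete solvable signalizer functor has a frame
-/

set_option autoImplicit false
set_option linter.style.haveILetI false
set_option linter.unusedSectionVars false

open Subgroup
open scoped commutatorElement
open CfsgLib.Coprime (conj_mem_of_le_normalizer IsPiNum)
open CfsgLib.CFun (core coCore)
open Cfsg (signalizerFamily signalizerInf)

namespace CfsgLib.SolvSignalizer

universe u

variable {G : Type u} [Group G] [Finite G] {p : ℕ} [hp : Fact p.Prime] {A : Subgroup G}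
  {θ : G → Subgroup G}

namespace SFCtx

variable (h : SFCtx p A θ)

include h

/-- The normalisers used for the commutator of a point with an operator. -/
theorem le_normalizer_centralizer_plane {L : Subgroup G} (hL : L ≤ A) :
    A ≤ normalizer (centralizer (L : Set G) : Set G) := by
  refine le_trans ?_ (CfsgLib.Coprime.normalizer_le_normalizer_centralizer L)
  refine le_trans ?_ (CfsgLib.Coprime.centralizer_le_normalizer_self L)
  exact fun b hb => mem_centralizer_iff.2 fun l hl => h.commA (hL hl) hb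

/-- Without frames, the central involutions of the largest `2`-member lie in `θ(C_G(A))`. -/
theorem omegaZ_le_C (hno : ∀ (q : ℕ) (L S : Subgroup G), ¬ Frame p A θ q L S)
    {K : Subgroup G} (hKm : K ∈ signalizerFamily p A θ)
    (hKmax : ∀ X ∈ signalizerFamily p A θ, IsPGroup 2 X →
      signalizerInf A θ ≤ normalizer (X : Set G) → X ≤ K) :
    omegaZ 2 K ≤ signalizerInf A θ := by
  have hreg : ∀ a ∈ A, a ≠ 1 → ¬ IsRegular p A θ a := by
    rintro a ha ha1 ⟨J, hJ, haJ, q, hq, Q, hQ, hQa⟩
    haveI := Fact.mk hq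
    obtain ⟨L, S, hS⟩ : ∃ L S, Frame p A θ q L S := by
      rcases hQ with rfl | ⟨hq2, rfl⟩
      · exact h.frame_of_regular ha ha1 hJ.1 haJ hq (omegaZ_le.trans CfsgLib.CFun.core_le)
          ((normalizer_le_core q).trans normalizer_le_omegaZ)
          (CfsgLib.CFun.isPGroup_core.to_le omegaZ_le) (Or.inl omegaZ_comm) hQa
      · exact h.frame_of_regular ha ha1 hJ.1 haJ hq CfsgLib.CFun.core_le (normalizer_le_core q)
          CfsgLib.CFun.isPGroup_core (Or.inr hq2) hQa
    exact hno q L S hS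
  refine le_trans (le_inf le_rfl ?_) (h.fixA_le (h.omegaZ_mem hKm 2))
  intro y hy
  rw [mem_centralizer_iff]
  intro a ha
  rcases eq_or_ne a 1 with rfl | ha1
  · simp
  obtain ⟨J, hJ, haJ⟩ := h.exists_max (h.theta_mem ha ha1)
  have hex := hreg a ha ha1
  set U := core J 2 with hU
  have hUm := h.core_mem hJ.1 2
  have hCJ : signalizerInf A θ ≤ J := (h.C_le_theta ha ha1).trans haJ
  haveI : Fact (Nat.Prime 2) := ⟨Nat.prime_two⟩
  haveI : Group.IsSolvable J := hJ.1.1
  have hUK : U ≤ K := hKmax U hUm CfsgLib.CFun.isPGroup_core (hCJ.trans CfsgLib.CFun.le_normalizer_core)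
  have hU1 : U ≠ ⊥ := fun e => h.exceptional_two ha ha1 hex hJ haJ (by rw [← hU, e]; exact bot_le)
  have hYU : omegaZ 2 K ≤ centralizer (U : Set G) :=
    omegaZ_le_centralizer.trans (centralizer_le hUK)
  have hyJ : y ∈ J := h.le_max hJ CfsgLib.CFun.core_le (h.le_normA hUm) hU1
    CfsgLib.CFun.le_normalizer_core (h.omegaZ_mem hKm 2)
    (hYU.trans (CfsgLib.Coprime.centralizer_le_normalizer_self U)) hy
  -- `J ⊓ C(U)` is centralised by `a`
  have hyU := hYU hy
  have haN : a ∈ normalizer (J : Set G) := h.le_normA hJ.1 ha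
  set w := a * y * a⁻¹ * y⁻¹ with hw
  have hwJ : w ∈ J := mul_mem ((mem_normalizer_iff.1 haN y).1 hyJ) (inv_mem hyJ)
  have hwU : w ∈ centralizer (U : Set G) :=
    mul_mem ((mem_normalizer_iff.1 (CfsgLib.Coprime.normalizer_le_normalizer_centralizer U
      (h.le_normA hUm ha)) y).1 hyU) (inv_mem hyU)
  set W := J ⊓ centralizer (Cfsg.fittingOf J : Set G) with hW
  have hwW : w ∈ W := by
    refine ⟨hwJ, mem_centralizer_iff.2 fun f hf => ?_⟩
    have hle : Cfsg.fittingOf J ≤ centralizer ({w} : Set G) := by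
      refine CfsgLib.CFun.fittingOf_le_of_cores fun r hr => ?_
      intro g hg
      rw [mem_centralizer_singleton_iff]
      by_cases hr2 : r = 2
      · subst hr2
        exact mem_centralizer_iff.1 hwU g hg
      · exact mem_centralizer_iff.1 (displacement_mem_centralizer
          (CfsgLib.CFun.le_normalizer_core hyJ) (h.exceptional_odd hex hJ haJ hr hr2)) g hg
    exact mem_centralizer_singleton_iff.1 (hle hf)
  have hWa : W ≤ centralizer ({a} : Set G) := by
    refine le_of_primary_le fun r P hr hPW hP => ?_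
    haveI := Fact.mk hr
    have hPF : P ≤ core J r := CfsgLib.CFun.le_core_of_le_fittingOf
      (hPW.trans CfsgLib.CFun.centralizer_fittingOf_le) hP
    by_cases hr2 : r = 2
    · subst hr2
      refine le_trans (le_inf hPF ((hPW.trans inf_le_right).trans (centralizer_le ?_)))
        (h.exceptional_center ha ha1 hex hJ haJ)
      exact CfsgLib.CFun.core_le_fittingOf
    · exact hPF.trans (h.exceptional_odd hex hJ haJ hr hr2)
  have hcop : (orderOf a).Coprime (orderOf w) := by
    refine ((hp.out.coprime_iff_not_dvd.2 hJ.1.2.1).coprime_dvd_left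
      (orderOf_dvd_of_pow_eq_one (h.elem.2 a ha))).coprime_dvd_right ?_
    rw [← orderOf_mk w hwJ]
    exact orderOf_dvd_natCard _
  have h1 := CfsgLib.Coprime.eq_one_of_conj_eq_mul (a := a) (x := y) (u := w)
    (by rw [hw]; group)
    (by rw [(mem_centralizer_singleton_iff.1 (hWa hwW)).symm, mul_inv_cancel_right]) hcop
  rw [hw, mul_inv_eq_one, mul_inv_eq_iff_eq_mul] at h1
  exact h1

/-- There is a frame. -/
theorem exists_frame : ∃ (q : ℕ) (L S : Subgroup G), Frame p A θ q L S := by
  classical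
  by_contra hno
  push Not at hno
  haveI h2F : Fact (Nat.Prime 2) := ⟨Nat.prime_two⟩
  obtain ⟨K, hKm, hK2, hKC, hKmax⟩ := h.primeMember 2
  obtain ⟨a₀, ha₀, ha₀1⟩ := (bot_or_exists_ne_one A).resolve_left h.A_ne_bot
  obtain ⟨J₀, hJ₀, haJ₀⟩ := h.exists_max (h.theta_mem ha₀ ha₀1)
  -- the central involutions
  set Y := omegaZ 2 K with hY
  have hYC : Y ≤ signalizerInf A θ := h.omegaZ_le_C hno hKm hKmax
  have hex : ¬ IsRegular p A θ a₀ := by
    rintro ⟨J, hJ, haJ, q, hq, Q, hQ, hQa⟩
    haveI := Fact.mk hq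
    rcases hQ with rfl | ⟨hq2, rfl⟩
    · obtain ⟨L, S, hS⟩ := h.frame_of_regular ha₀ ha₀1 hJ.1 haJ hq
        (omegaZ_le.trans CfsgLib.CFun.core_le) ((normalizer_le_core q).trans normalizer_le_omegaZ)
        (CfsgLib.CFun.isPGroup_core.to_le omegaZ_le) (Or.inl omegaZ_comm) hQa
      exact hno q L S hS
    · obtain ⟨L, S, hS⟩ := h.frame_of_regular ha₀ ha₀1 hJ.1 haJ hq CfsgLib.CFun.core_le
        (normalizer_le_core q) CfsgLib.CFun.isPGroup_core (Or.inr hq2) hQa
      exact hno q L S hS
  have hKne : K ≠ ⊥ := by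
    intro e
    refine h.exceptional_two ha₀ ha₀1 hex hJ₀ haJ₀ ?_
    refine ((hKmax _ (h.core_mem hJ₀.1 2) CfsgLib.CFun.isPGroup_core
      (((h.C_le_theta ha₀ ha₀1).trans haJ₀).trans CfsgLib.CFun.le_normalizer_core)).trans e.le).trans bot_le
  have hY1 : Y ≠ ⊥ := omegaZ_ne_bot hK2 hKne
  have hY2 : IsPGroup 2 Y := hK2.to_le omegaZ_le
  have hYm : Y ∈ signalizerFamily p A θ := h.omegaZ_mem hKm 2
  have hCY : signalizerInf A θ ≤ normalizer (Y : Set G) := hKC.trans normalizer_le_omegaZ
  have hYθ : ∀ d ∈ A, d ≠ 1 → Y ≤ θ d := fun d hd hd1 => hYC.trans (h.C_le_theta hd hd1)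
  have hYK : ∀ X ∈ signalizerFamily p A θ, IsPGroup 2 X → signalizerInf A θ ≤ normalizer (X : Set G) →
      Y ≤ centralizer (X : Set G) := fun X hX hX2 hXC =>
    omegaZ_le_centralizer.trans (centralizer_le (hKmax X hX hX2 hXC))
  -- the `2'`-member
  obtain ⟨a₁, ha₁, ha₁1⟩ : ∃ a ∈ A, a ≠ 1 := ⟨a₀, ha₀, ha₀1⟩
  obtain ⟨K', hK'm, hK'π, hK'C, hK'max⟩ := h.piMember {r | r ≠ 2} ⟨a₁, ha₁, ha₁1, fun hπ => by
    obtain ⟨n, hn⟩ := IsPGroup.iff_card.1 hY2
    rcases n with - | n
    · exact hY1 (card_eq_one.1 (hn.trans (pow_zero 2)))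
    · exact hπ 2 Nat.prime_two (((dvd_pow_self 2 (Nat.succ_ne_zero n)).trans hn.symm.dvd).trans
        (card_dvd_of_le (hYθ a₁ ha₁ ha₁1))) rfl⟩
  obtain ⟨Z, hZ, hZle⟩ := h.exists_max (h.sup_mem hK'm h.inf_mem_family hK'C)
  have hK'Z : K' ≤ Z := le_sup_left.trans hZle
  have hCZ : signalizerInf A θ ≤ Z := le_sup_right.trans hZle
  haveI : Group.IsSolvable Z := hZ.1.1
  have hodd_le : ∀ X ∈ signalizerFamily p A θ, (∀ r : ℕ, r.Prime → r ∣ Nat.card X → r ≠ 2) →
      signalizerInf A θ ≤ normalizer (X : Set G) → X ≤ Z := fun X hX hXr hXC =>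
    (hK'max X hX (fun r hr hd => hXr r hr hd) hXC).trans hK'Z
  by_cases hall : ∀ t : ℕ, t.Prime → t ≠ 2 → Y ≤ centralizer (core Z t : Set G)
  · -- `Y` is itself a frame
    obtain ⟨L, hL, hLi, -⟩ := h.exists_plane ha₀
    refine hno 2 L Y ⟨Nat.prime_two, hL, hLi, hYm, hY2, hCY, hY1,
      hYC.trans (h.C_le_centralizer.trans (centralizer_le hL)), fun d hd hd1 => ?_⟩
    have hdA := hL hd
    have hθd := h.theta_mem hdA hd1
    haveI : Group.IsSolvable (θ d) := hθd.1
    have hCd := h.C_le_theta hdA hd1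
    refine le_core_of_centralizes_cores (hYθ d hdA hd1) hY2 fun r hr => ?_
    haveI := Fact.mk hr
    by_cases hr2 : r = 2
    · subst hr2
      exact hYK _ (h.core_mem hθd 2) CfsgLib.CFun.isPGroup_core (hCd.trans CfsgLib.CFun.le_normalizer_core)
    -- `Y` lies in the even core of `Z`
    have hYcore : Y ≤ core Z 2 := by
      refine le_core_of_centralizes_cores (hYC.trans hCZ) hY2 fun s hs => ?_
      by_cases hs2 : s = 2
      · subst hs2
        exact hYK _ (h.core_mem hZ.1 2) CfsgLib.CFun.isPGroup_core (hCZ.trans CfsgLib.CFun.le_normalizer_core)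
      · exact hall s hs hs2
    have hPZ : core (θ d) r ≤ Z := hodd_le _ (h.core_mem hθd r)
      (fun s hs hd e => CfsgLib.CFun.not_dvd_of_isPGroup (r := r) (s := 2) hr2 CfsgLib.CFun.isPGroup_core
        (e ▸ hd)) (hCd.trans CfsgLib.CFun.le_normalizer_core)
    intro y hy
    rw [mem_centralizer_iff]
    intro x hx
    have h1 : x * y * x⁻¹ * y⁻¹ ∈ core Z 2 ⊓ core (θ d) r := by
      refine mem_inf.2 ⟨mul_mem ((mem_normalizer_iff.1 (CfsgLib.CFun.le_normalizer_core (hPZ hx)) y).1 (hYcore hy))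
        (inv_mem (hYcore hy)), ?_⟩
      rw [show x * y * x⁻¹ * y⁻¹ = x * (y * x⁻¹ * y⁻¹) by group]
      exact mul_mem hx ((mem_normalizer_iff.1 (CfsgLib.CFun.le_normalizer_core (hYθ d hdA hd1 hy)) _).1
        (inv_mem hx))
    rw [CfsgLib.CFun.inf_eq_bot_of_isPGroup CfsgLib.CFun.isPGroup_core
      (CfsgLib.CFun.not_dvd_of_isPGroup hr2 CfsgLib.CFun.isPGroup_core), mem_bot, mul_inv_eq_one,
      mul_inv_eq_iff_eq_mul] at h1
    exact h1
  push Not at hall
  obtain ⟨t, ht, ht2, hYT⟩ := hall
  haveI := Fact.mk ht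
  set T := core Z t with hT
  have hTm := h.core_mem hZ.1 t
  have hTt : IsPGroup t T := CfsgLib.CFun.isPGroup_core
  have hCT : signalizerInf A θ ≤ normalizer (T : Set G) := hCZ.trans CfsgLib.CFun.le_normalizer_core
  have hTpi : ∀ (π : Set ℕ), t ∈ π → IsPiNum π (Nat.card T) := by
    intro π hπ r hr hd
    by_contra hrπ
    haveI := Fact.mk hr
    exact CfsgLib.CFun.not_dvd_of_isPGroup (r := t) (s := r) (fun e => hrπ (e ▸ hπ)) hTt hd
  by_cases hn : ∃ a ∈ A, a ≠ 1 ∧ ¬ IsPiNum {r | r = 2 ∨ r = t} (Nat.card (θ a))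
  · -- at least three primes
    obtain ⟨K₂, hK₂m, -, hK₂C, hK₂max⟩ := h.piMember _ hn
    obtain ⟨H, hH, hHle⟩ := h.exists_max (h.sup_mem hK₂m h.inf_mem_family hK₂C)
    have hK₂H : K₂ ≤ H := le_sup_left.trans hHle
    have hCH : signalizerInf A θ ≤ H := le_sup_right.trans hHle
    haveI : Group.IsSolvable H := hH.1.1
    set T₀ := core H t with hT₀
    have hT₀m := h.core_mem hH.1 t
    have hT₀C : signalizerInf A θ ≤ normalizer (T₀ : Set G) := hCH.trans CfsgLib.CFun.le_normalizer_core
    have hTH : T ≤ H := (hK₂max T hTm (hTpi _ (Or.inr rfl)) hCT).trans hK₂H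
    have hT₀Z : T₀ ≤ Z := hodd_le _ hT₀m (fun s hs hd e => CfsgLib.CFun.not_dvd_of_isPGroup (r := t)
      (s := 2) ht2 CfsgLib.CFun.isPGroup_core (e ▸ hd)) hT₀C
    have hIm : T ⊓ T₀ ∈ signalizerFamily p A θ := h.inf_mem hTm (h.le_normA hT₀m)
    -- the meet has no fixed point of a plane
    have hI : T ⊓ T₀ = ⊥ := by
      refine le_bot_iff.1 (CfsgLib.Coprime.le_of_hyperplanes h.elem
        (le_trans (Nat.pow_le_pow_right hp.out.pos (by norm_num)) h.card_le) hIm.2.1
        (h.le_normA hIm) fun L hL hLi => ?_)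
      by_contra hne
      refine hno t L ((T ⊓ T₀) ⊓ centralizer (L : Set G)) ⟨ht, hL, hLi,
        h.inf_mem hIm (h.le_normalizer_centralizer_plane hL), hTt.to_le (inf_le_left.trans inf_le_left),
        CfsgLib.Coprime.inf_le_normalizer (CfsgLib.Coprime.inf_le_normalizer hCT hT₀C)
          ((h.C_le_centralizer.trans (centralizer_le hL)).trans le_normalizer),
        fun e => hne e.le, inf_le_right, fun d hd hd1 => ?_⟩
      have hdA := hL hd
      have hθd := h.theta_mem hdA hd1
      haveI : Group.IsSolvable (θ d) := hθd.1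
      have hle : (T ⊓ T₀) ⊓ centralizer (L : Set G) ≤ θ d := fun x hx => h.fix_le hTm hdA hd1
        ⟨hx.1.1, centralizer_le (Set.singleton_subset_iff.2 hd) hx.2⟩
      refine le_core_of_sections hle (hTt.to_le (inf_le_left.trans inf_le_left))
        fun r M₁ M₀ hr hrt hc x hx m hm => ?_
      have hM₁m : M₁ ∈ signalizerFamily p A θ := h.mem_of_le hθd hc.le ((h.le_normA hθd).trans hc.norm₁)
      have hM₁C : signalizerInf A θ ≤ normalizer (M₁ : Set G) :=
        ((h.C_le_theta hdA hd1).trans le_normalizer).trans hc.norm₁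
      have hxM : x * m * x⁻¹ * m⁻¹ ∈ M₁ :=
        mul_mem ((mem_normalizer_iff.1 (hc.norm₁ (le_normalizer (hle hx))) m).1 hm) (inv_mem hm)
      have hin : ∀ (U W : Subgroup G), x ∈ U → m ∈ W → W ≤ normalizer (U : Set G) →
          x * m * x⁻¹ * m⁻¹ ∈ U := fun U W hxU hmW hWU => by
        rw [show x * m * x⁻¹ * m⁻¹ = x * (m * x⁻¹ * m⁻¹) by group]
        exact mul_mem hxU ((mem_normalizer_iff.1 (hWU hmW) _).1 (inv_mem hxU))
      by_cases hr2 : r = 2
      · subst hr2
        have hM₁H : M₁ ≤ H := (hK₂max M₁ hM₁m (fun s hs hd => hc.pi s hs hd) hM₁C).trans hK₂H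
        exact mem_of_isPGroup_section hr hrt hc.isSection CfsgLib.CFun.isPGroup_core
          (hin T₀ H hx.1.2 (hM₁H hm) CfsgLib.CFun.le_normalizer_core) hxM
      · have hM₁Z : M₁ ≤ Z := hodd_le _ hM₁m (fun s hs hd => (hc.pi s hs hd).elim
          (fun e => e ▸ hr2) (fun e => e ▸ ht2)) hM₁C
        exact mem_of_isPGroup_section hr hrt hc.isSection hTt
          (hin T Z hx.1.1 (hM₁Z hm) CfsgLib.CFun.le_normalizer_core) hxM
    refine hYT ?_
    intro y hy
    rw [mem_centralizer_iff]
    intro x hx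
    set w := x * y * x⁻¹ * y⁻¹ with hw
    have hyH : y ∈ H := hCH (hYC hy)
    have hwT : w ∈ T := by
      rw [hw, show x * y * x⁻¹ * y⁻¹ = x * (y * x⁻¹ * y⁻¹) by group]
      exact mul_mem hx ((mem_normalizer_iff.1
        (hCT (hYC hy)) _).1 (inv_mem hx))
    have hwc : ∀ r : ℕ, r.Prime → core H r ≤ centralizer ({w} : Set G) := by
      intro r hr g hg
      haveI := Fact.mk hr
      rw [mem_centralizer_singleton_iff]
      by_cases hr2 : r = 2
      · subst hr2
        have hc : y ∈ centralizer (core H 2 : Set G) :=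
          hYK _ (h.core_mem hH.1 2) CfsgLib.CFun.isPGroup_core (hCH.trans CfsgLib.CFun.le_normalizer_core) hy
        exact mem_centralizer_iff.1 (mul_mem ((mem_normalizer_iff.1
          (CfsgLib.Coprime.normalizer_le_normalizer_centralizer _
            (CfsgLib.CFun.le_normalizer_core (hTH hx))) y).1 hc) (inv_mem hc)) g hg
      · have hgZ : core H r ≤ Z := hodd_le _ (h.core_mem hH.1 r) (fun s hs hd e =>
          CfsgLib.CFun.not_dvd_of_isPGroup (r := r) (s := 2) hr2 CfsgLib.CFun.isPGroup_core (e ▸ hd))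
          (hCH.trans CfsgLib.CFun.le_normalizer_core)
        have hdis : core H r ⊓ T = ⊥ := by
          by_cases hrt : r = t
          · subst hrt
            rw [inf_comm]; exact hI
          · exact CfsgLib.CFun.inf_eq_bot_of_isPGroup CfsgLib.CFun.isPGroup_core
              (CfsgLib.CFun.not_dvd_of_isPGroup (Ne.symm hrt) hTt)
        exact (mem_centralizer_iff.1 (CfsgLib.CFun.le_centralizer_of_inf_eq_bot
          (hgZ.trans CfsgLib.CFun.le_normalizer_core) (hTH.trans CfsgLib.CFun.le_normalizer_core)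
          hdis hg) w hwT).symm
    have hwF : w ∈ Cfsg.fittingOf H :=
      CfsgLib.CFun.centralizer_fittingOf_le ⟨hTH hwT, mem_centralizer_iff.2 fun f hf =>
        mem_centralizer_singleton_iff.1 (CfsgLib.CFun.fittingOf_le_of_cores hwc hf)⟩
    have hw₀ : w ∈ T₀ := CfsgLib.CFun.le_core_of_le_fittingOf (zpowers_le.2 hwF)
      (hTt.to_le (zpowers_le.2 hwT)) (mem_zpowers w)
    have hw1 : w ∈ T ⊓ T₀ := ⟨hwT, hw₀⟩
    rw [hI, mem_bot, hw, mul_inv_eq_one, mul_inv_eq_iff_eq_mul] at hw1
    exact hw1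
  · -- two primes
    push Not at hn
    have hpi : ∀ X ∈ signalizerFamily p A θ, ∀ r : ℕ, r.Prime → r ∣ Nat.card X → r = 2 ∨ r = t := by
      intro X hX r hr hd
      obtain ⟨a, ha, ha1, hda⟩ := h.prime_dvd_theta hX hr hd
      exact hn a ha ha1 r hr hda
    -- the `2'`-cores are `t`-groups
    have hco : ∀ X ∈ signalizerFamily p A θ, coCore X 2 ≤ core X t := by
      intro X hX
      refine le_core_of_normal CfsgLib.CFun.coCore_le CfsgLib.CFun.le_normalizer_coCore ?_
      refine h.isPGroup_of_pi fun r hr hd => ?_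
      exact ((hpi _ (h.coCore_mem hX 2) r hr hd).resolve_left fun e =>
        CfsgLib.CFun.not_dvd_coCore (e ▸ hd))
    obtain ⟨X, hX, -, hXmax⟩ := h.exists_max_normalizer hYm hY1
    haveI : Group.IsSolvable X := hX.1.1
    have hCX : signalizerInf A θ ≤ X := hXmax _ h.inf_mem_family hCY
    have hKX : K ≤ X := hXmax K hKm (le_normalizer.trans normalizer_le_omegaZ)
    set GX := core X t with hGX
    have hGXm := h.core_mem hX.1 t
    have hGXY : GX ⊓ centralizer (Y : Set G) = ⊥ := by
      have hm : GX ⊓ centralizer (Y : Set G) ∈ signalizerFamily p A θ :=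
        h.inf_mem hGXm ((h.le_normA hYm).trans (CfsgLib.Coprime.normalizer_le_normalizer_centralizer Y))
      refine le_bot_iff.1 (CfsgLib.Coprime.le_of_hyperplanes h.elem
        (le_trans (Nat.pow_le_pow_right hp.out.pos (by norm_num)) h.card_le) hm.2.1
        (h.le_normA hm) fun L hL hLi => ?_)
      by_contra hne
      refine hno t L _ ⟨ht, hL, hLi, h.inf_mem hm (h.le_normalizer_centralizer_plane hL),
        CfsgLib.CFun.isPGroup_core.to_le (inf_le_left.trans inf_le_left),
        CfsgLib.Coprime.inf_le_normalizer (CfsgLib.Coprime.inf_le_normalizer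
          (hCX.trans CfsgLib.CFun.le_normalizer_core)
          (hCY.trans (CfsgLib.Coprime.normalizer_le_normalizer_centralizer Y)))
          ((h.C_le_centralizer.trans (centralizer_le hL)).trans le_normalizer),
        fun e => hne e.le, inf_le_right, fun d hd hd1 => ?_⟩
      have hdA := hL hd
      have hθd := h.theta_mem hdA hd1
      haveI : Group.IsSolvable (θ d) := hθd.1
      set I := (GX ⊓ centralizer (Y : Set G)) ⊓ centralizer ({d} : Set G) with hI
      refine le_trans (inf_le_inf_left _ (centralizer_le (Set.singleton_subset_iff.2 hd)))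
        (le_trans ?_ (hco _ hθd))
      show I ≤ coCore (θ d) 2
      refine CfsgLib.CFun.le_coCore_of_centralizer hY2 hY1 (hYθ d hdA hd1)
        (fun x hx => h.fix_le hX.1 hdA hd1 ⟨CfsgLib.CFun.core_le hx.1.1, hx.2⟩) ?_
        (inf_le_left.trans inf_le_right) ?_
      · exact fun hd2 => CfsgLib.CFun.not_dvd_of_isPGroup ht2 CfsgLib.CFun.isPGroup_core
          (hd2.trans (card_dvd_of_le (inf_le_left.trans inf_le_left)))
      · have hYd : θ d ⊓ centralizer (Y : Set G) ≤ X :=
          hXmax _ (h.inf_mem hθd ((h.le_normA hYm).trans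
            (CfsgLib.Coprime.normalizer_le_normalizer_centralizer Y)))
            (inf_le_right.trans (CfsgLib.Coprime.centralizer_le_normalizer_self Y))
        exact CfsgLib.Coprime.inf_le_normalizer (CfsgLib.Coprime.inf_le_normalizer
          (hYd.trans CfsgLib.CFun.le_normalizer_core) (inf_le_right.trans le_normalizer))
          ((inf_le_left.trans (h.theta_le_centralizer hdA hd1)).trans le_normalizer)
    have hGXC : GX ⊓ signalizerInf A θ = ⊥ := by
      refine le_bot_iff.1 (le_trans (le_inf inf_le_left ?_) hGXY.le)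
      refine CfsgLib.CFun.le_centralizer_of_inf_eq_bot (inf_le_right.trans hCY)
        (CfsgLib.Coprime.inf_le_normalizer ((omegaZ_le.trans hKX).trans CfsgLib.CFun.le_normalizer_core)
          (hYC.trans le_normalizer)) ?_
      rw [inf_comm]
      exact CfsgLib.CFun.inf_eq_bot_of_isPGroup hY2
        (CfsgLib.CFun.not_dvd_of_isPGroup ht2 (CfsgLib.CFun.isPGroup_core.to_le inf_le_left))
    -- some plane piece of `T` is moved by `Y`
    obtain ⟨L, hL, hLi, hLne⟩ : ∃ L : Subgroup G, L ≤ A ∧ L.relIndex A = p ∧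
        ¬ T ⊓ centralizer (L : Set G) ≤ centralizer (Y : Set G) := by
      by_contra hc
      push Not at hc
      exact hYT (le_centralizer_iff.1 (CfsgLib.Coprime.le_of_hyperplanes h.elem
        (le_trans (Nat.pow_le_pow_right hp.out.pos (by norm_num)) h.card_le) hTm.2.1
        (h.le_normA hTm) hc))
    set W := ⁅T ⊓ centralizer (L : Set G), Y⁆ with hW
    have hCL : signalizerInf A θ ≤ normalizer (centralizer (L : Set G) : Set G) :=
      (h.C_le_centralizer.trans (centralizer_le hL)).trans le_normalizer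
    have hT₁n : signalizerInf A θ ≤ normalizer ((T ⊓ centralizer (L : Set G) : Subgroup G) : Set G) :=
      CfsgLib.Coprime.inf_le_normalizer hCT hCL
    have hWT : W ≤ T ⊓ centralizer (L : Set G) := by
      rw [hW, commutator_le]
      intro x hx g hg
      rw [commutatorElement_def, mul_assoc x g, mul_assoc x]
      exact mul_mem hx ((mem_normalizer_iff.1 (hT₁n (hYC hg)) _).1 (inv_mem hx))
    have hAT₁ : A ≤ normalizer ((T ⊓ centralizer (L : Set G) : Subgroup G) : Set G) :=
      CfsgLib.Coprime.inf_le_normalizer (h.le_normA hTm) (h.le_normalizer_centralizer_plane hL)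
    refine hno t L W ⟨ht, hL, hLi, h.mem_of_le hTm (hWT.trans inf_le_left)
      (CfsgLib.CFun.le_normalizer_commutator hAT₁ (h.le_normA hYm)), hTt.to_le (hWT.trans inf_le_left),
      CfsgLib.CFun.le_normalizer_commutator hT₁n hCY, fun e => hLne fun x hx => ?_,
      hWT.trans inf_le_right, fun d hd hd1 => ?_⟩
    · rw [mem_centralizer_iff]
      intro y hy
      have h1 : ⁅x, y⁆ ∈ W := commutator_mem_commutator hx hy
      rw [e, mem_bot, commutatorElement_eq_one_iff_mul_comm] at h1
      exact h1.symm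
    -- `W` lies in `O_t` of the value at each point
    have hdA := hL hd
    have hθd := h.theta_mem hdA hd1
    haveI : Group.IsSolvable (θ d) := hθd.1
    obtain ⟨J, hJ, hdJ⟩ := h.exists_max hθd
    haveI : Group.IsSolvable J := hJ.1.1
    have hCJ : signalizerInf A θ ≤ J := (h.C_le_theta hdA hd1).trans hdJ
    set Gt := core J t with hGt
    have hGtm := h.core_mem hJ.1 t
    have hexd : ¬ IsRegular p A θ d := by
      rintro ⟨J', hJ', hdJ', q, hq, Q, hQ, hQa⟩
      haveI := Fact.mk hq
      rcases hQ with rfl | ⟨hq2, rfl⟩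
      · obtain ⟨L', S, hS⟩ := h.frame_of_regular hdA hd1 hJ'.1 hdJ' hq
          (omegaZ_le.trans CfsgLib.CFun.core_le) ((normalizer_le_core q).trans normalizer_le_omegaZ)
          (CfsgLib.CFun.isPGroup_core.to_le omegaZ_le) (Or.inl omegaZ_comm) hQa
        exact hno q L' S hS
      · obtain ⟨L', S, hS⟩ := h.frame_of_regular hdA hd1 hJ'.1 hdJ' hq CfsgLib.CFun.core_le
          (normalizer_le_core q) CfsgLib.CFun.isPGroup_core (Or.inr hq2) hQa
        exact hno q L' S hS
    set U := core J 2 with hU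
    have hUm := h.core_mem hJ.1 2
    have hU1 : U ≠ ⊥ := fun e => h.exceptional_two hdA hd1 hexd hJ hdJ (by rw [← hU, e]; exact bot_le)
    have hUX : U ≤ X := (hKmax U hUm CfsgLib.CFun.isPGroup_core
      (hCJ.trans CfsgLib.CFun.le_normalizer_core)).trans hKX
    -- no fixed point in `O_t(J)`
    have hGC : Gt ⊓ signalizerInf A θ = ⊥ := by
      have hDU : Gt ⊓ X ≤ centralizer (U : Set G) := inf_le_left.trans
        (CfsgLib.CFun.le_centralizer_of_inf_eq_bot
          (CfsgLib.CFun.core_le.trans CfsgLib.CFun.le_normalizer_core)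
          (CfsgLib.CFun.core_le.trans CfsgLib.CFun.le_normalizer_core)
          (CfsgLib.CFun.inf_eq_bot_of_isPGroup CfsgLib.CFun.isPGroup_core
            (CfsgLib.CFun.not_dvd_of_isPGroup (Ne.symm ht2) CfsgLib.CFun.isPGroup_core)))
      have hXU : X ⊓ centralizer (U : Set G) ≤ J :=
        h.le_max hJ CfsgLib.CFun.core_le (h.le_normA hUm) hU1 CfsgLib.CFun.le_normalizer_core
          (h.inf_mem hX.1 ((h.le_normA hUm).trans (CfsgLib.Coprime.normalizer_le_normalizer_centralizer U)))
          (inf_le_right.trans (CfsgLib.Coprime.centralizer_le_normalizer_self U))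
      have h1 : Gt ⊓ X ≤ coCore X 2 := CfsgLib.CFun.le_coCore_of_centralizer
        CfsgLib.CFun.isPGroup_core hU1 hUX inf_le_right
        (fun hd2 => CfsgLib.CFun.not_dvd_of_isPGroup ht2 CfsgLib.CFun.isPGroup_core
          (hd2.trans (card_dvd_of_le inf_le_left))) hDU
        (CfsgLib.Coprime.inf_le_normalizer (hXU.trans CfsgLib.CFun.le_normalizer_core)
          (inf_le_left.trans le_normalizer))
      refine le_bot_iff.1 (le_trans (le_inf ?_ inf_le_right) hGXC.le)
      exact (le_inf inf_le_left (inf_le_right.trans hCX)).trans (h1.trans (hco X hX.1))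
    -- work modulo `O_t(J)`
    haveI hN : (Cfsg.pCore t J).Normal := CfsgLib.Coprime.pCore_normal' t
    haveI := CfsgLib.Coprime.pCore_characteristic (G := J) t
    haveI : Group.IsSolvable (J ⧸ Cfsg.pCore t J) :=
      Group.isSolvable_of_surjective (QuotientGroup.mk'_surjective _)
    set f := QuotientGroup.mk' (Cfsg.pCore t J) with hf
    set O := Cfsg.pCore 2 (J ⧸ Cfsg.pCore t J) with hO
    haveI hOn : O.Normal := CfsgLib.Coprime.pCore_normal' 2
    haveI hOc := CfsgLib.Coprime.pCore_characteristic (G := J ⧸ Cfsg.pCore t J) 2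
    haveI := Characteristic.comap_quotient_mk hOc
    set P : Subgroup G := (O.comap f).map J.subtype with hP
    have hPJ : P ≤ J := map_subtype_le _
    have hJP : normalizer (J : Set G) ≤ normalizer (P : Set G) :=
      CfsgLib.LS.normalizer_le_normalizer_map_char _
    have hPm : P ∈ signalizerFamily p A θ := h.mem_of_le hJ.1 hPJ ((h.le_normA hJ.1).trans hJP)
    have hGP : Gt ≤ P := map_mono fun x hx => by
      rw [mem_comap, show f x = 1 from (QuotientGroup.eq_one_iff x).2 hx]
      exact one_mem _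
    have hG2 : ¬ 2 ∣ Nat.card (Cfsg.pCore t J) :=
      CfsgLib.CFun.not_dvd_of_isPGroup ht2 (CfsgLib.Coprime.pCore_isPGroup t)
    have hOpow : ∀ x : J, f x ∈ O → ∃ k : ℕ, x ^ 2 ^ k ∈ Cfsg.pCore t J := by
      intro x hx
      obtain ⟨k, hk⟩ := (CfsgLib.Coprime.pCore_isPGroup (G := J ⧸ Cfsg.pCore t J) 2) ⟨f x, hx⟩
      refine ⟨k, (QuotientGroup.eq_one_iff _).1 ?_⟩
      show f (x ^ 2 ^ k) = 1
      rw [map_pow]
      exact congrArg Subtype.val hk
    -- the fixed points of `A` in `P` form a `2`-group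
    have hCP : P ⊓ centralizer (A : Set G) ∈ signalizerFamily p A θ :=
      h.inf_mem hPm ((h.le_normalizer_centralizer_plane le_rfl))
    have hD2 : IsPGroup 2 (P ⊓ centralizer (A : Set G) : Subgroup G) := by
      rintro ⟨x, ⟨xj, hxO, rfl⟩, hxA⟩
      obtain ⟨k, hk⟩ := hOpow xj hxO
      refine ⟨k, Subtype.ext ?_⟩
      have h1 : ((xj ^ 2 ^ k : J) : G) ∈ Gt ⊓ signalizerInf A θ :=
        ⟨⟨_, hk, rfl⟩, h.fixA_le hPm ⟨⟨xj ^ 2 ^ k, pow_mem hxO _, rfl⟩, by
          rw [SubgroupClass.coe_pow]; exact pow_mem hxA _⟩⟩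
      rw [hGC, mem_bot] at h1
      simpa using h1
    obtain ⟨S, hS, hDS, hSA⟩ := CfsgLib.Coprime.le_invariant_sylow (h.le_normA hPm) (h.coprime hPm)
      (Or.inl (CfsgLib.Coprime.isSolvable_of_isMulCommutative h.elem.1)) inf_le_left hD2 (h.le_normA hCP)
    have hCP' : signalizerInf A θ ≤ normalizer (P : Set G) := (hCJ.trans le_normalizer).trans hJP
    have hSC : signalizerInf A θ ≤ normalizer (S : Set G) := by
      intro c hc
      obtain ⟨e, he, hec⟩ := CfsgLib.Coprime.invariant_sylow_conj (h.le_normA hPm) (h.coprime hPm)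
        (Or.inl (CfsgLib.Coprime.isSolvable_of_isMulCommutative h.elem.1)) hS
        (hS.conjBy (hCP' hc)) hSA (CfsgLib.Coprime.normalizer_conjBy_le (h.C_le_centralizer hc) hSA)
      rw [← CfsgLib.Coprime.conjBy_eq_self_iff, ← hec]
      exact CfsgLib.Coprime.conjBy_eq_self_iff.2 (le_normalizer (hDS he))
    have hSm := h.mem_of_le hPm hS.1 hSA
    have hYS : Y ≤ centralizer (S : Set G) := hYK S hSm hS.isPGroup hSC
    -- the image of `S` is all of the even core
    have hSJ : S ≤ J := hS.1.trans hPJ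
    have himg : (S.subgroupOf J).map f = O := by
      refine eq_of_le_of_card_ge ?_ ?_
      · rintro _ ⟨x, hx, rfl⟩
        obtain ⟨x', hx', e⟩ := hS.1 hx
        rwa [J.subtype_injective e] at hx'
      · have hinj : Function.Injective (f.comp (inclusion hSJ)) := by
          rw [injective_iff_map_eq_one]
          intro x hx
          have hxG : inclusion hSJ x ∈ Cfsg.pCore t J := (QuotientGroup.eq_one_iff _).1 hx
          have h1 : (x : G) ∈ S ⊓ Gt := ⟨x.2, ⟨_, hxG, rfl⟩⟩
          rw [CfsgLib.CFun.inf_eq_bot_of_isPGroup hS.isPGroup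
            (CfsgLib.CFun.not_dvd_of_isPGroup ht2 CfsgLib.CFun.isPGroup_core), mem_bot] at h1
          exact Subtype.ext h1
        have hcard : Nat.card ((S.subgroupOf J).map f) = Nat.card S := by
          have h1 : (f.comp (inclusion hSJ)).range = (S.subgroupOf J).map f := by
            rw [MonoidHom.range_comp, Subgroup.inclusion_range]
          rw [← h1]
          exact Nat.card_congr (MonoidHom.ofInjective hinj).toEquiv.symm
        have hP2 : Nat.card P = Nat.card (Cfsg.pCore t J) * Nat.card O := by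
          rw [hP, card_map_of_injective J.subtype_injective,
            CfsgLib.Coprime.card_eq_card_mul_card_map_mk' (Cfsg.pCore t J)
              (fun x hx => by
                rw [mem_comap, show f x = 1 from (QuotientGroup.eq_one_iff x).2 hx]; exact one_mem _),
            map_comap_eq_self_of_surjective (QuotientGroup.mk'_surjective _)]
        obtain ⟨m, hm⟩ := IsPGroup.iff_card.1 (CfsgLib.Coprime.pCore_isPGroup (G := J ⧸ Cfsg.pCore t J) 2)
        rw [hcard, hS.2, hP2, Nat.factorization_mul Nat.card_pos.ne' Nat.card_pos.ne', Finsupp.add_apply,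
          Nat.factorization_eq_zero_of_not_dvd hG2, zero_add, hm, Nat.Prime.factorization_pow
          Nat.prime_two, Finsupp.single_eq_same]
    have hcore0 : Cfsg.pPrimeCore 2 (J ⧸ Cfsg.pCore t J) = ⊥ := by
      haveI : (Cfsg.pPrimeCore 2 (J ⧸ Cfsg.pCore t J)).Normal := Subgroup.sSup_normal _ (fun _ hh => hh.1)
      refine le_bot_iff.1 ?_
      rw [← CfsgLib.Coprime.pCore_quotient_eq_bot (G := J) t]
      refine CfsgLib.Coprime.le_pCore ?_
      rw [CfsgLib.Coprime.isPGroup_iff_isPiNum]
      intro r hr hd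
      refine (hpi J hJ.1 r hr (hd.trans ((Subgroup.card_subgroup_dvd_card _).trans
        (Subgroup.card_quotient_dvd_card _)))).resolve_left fun e => ?_
      exact CfsgLib.Coprime.pPrimeCore_not_dvd Nat.prime_two (e ▸ hd)
    have hYP : Y ≤ P := by
      intro y hy
      have hyJ : y ∈ J := hCJ (hYC hy)
      refine ⟨⟨y, hyJ⟩, CfsgLib.Coprime.centralizer_pCore_le hcore0 (mem_centralizer_iff.2 fun o ho => ?_), rfl⟩
      rw [← hO, ← himg] at ho
      obtain ⟨x, hx, rfl⟩ := ho
      rw [← map_mul, ← map_mul]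
      exact congrArg f (Subtype.ext (mem_centralizer_iff.1 (hYS hy) _ hx))
    have hT₁d : T ⊓ centralizer (L : Set G) ≤ θ d := fun x hx => h.fix_le hTm hdA hd1
      ⟨hx.1, centralizer_le (Set.singleton_subset_iff.2 hd) hx.2⟩
    have hWG : W ≤ Gt := by
      intro w hw
      have hwP : w ∈ P := by
        refine (show W ≤ P from ?_) hw
        rw [hW, commutator_le]
        intro x hx g hg
        rw [commutatorElement_def, show x * g * x⁻¹ * g⁻¹ = (x * g * x⁻¹) * g⁻¹ by group]
        exact mul_mem ((mem_normalizer_iff.1 (hJP (le_normalizer (hdJ (hT₁d hx)))) g).1 (hYP hg))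
          (inv_mem (hYP hg))
      obtain ⟨wj, hwO, rfl⟩ := hwP
      obtain ⟨k, hk⟩ := hOpow wj hwO
      obtain ⟨n, hn⟩ := hTt ⟨(wj : G), (hWT hw).1⟩
      have hn' : wj ^ t ^ n = 1 := Subtype.ext (by simpa using congrArg Subtype.val hn)
      obtain ⟨j, hj⟩ := exists_pow_eq_self_of_coprime (x := wj) (n := 2 ^ k)
        ((((Nat.coprime_primes Nat.prime_two ht).2 (Ne.symm ht2)).pow k n).coprime_dvd_right
          (orderOf_dvd_of_pow_eq_one hn'))
      exact ⟨wj, hj ▸ pow_mem hk j, rfl⟩
    refine le_trans (le_inf hWG ((hWT.trans hT₁d)))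
      (le_core_of_normal inf_le_right ?_ (CfsgLib.CFun.isPGroup_core.to_le inf_le_left))
    exact CfsgLib.Coprime.inf_le_normalizer (hdJ.trans CfsgLib.CFun.le_normalizer_core) le_normalizer

end SFCtx

end CfsgLib.SolvSignalizer
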