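import Cfsg.Agent.Lib.SolvSignalizer.WorldMember

/-!
# No context of order `p ^ 3` exists

`SFCtx.regular_le`: a regular point of a frame lies in its maximal member.  `SFCtx.false`: the
contradiction from a frame, of odd prime when one exists.
-/

set_option autoImplicit false
set_option linter.style.haveILetI false
set_option linter.unusedSectionVars false
set_option maxHeartbeats 300000

open Subgroup
open scoped commutatorElement
open CfsgLib.CFun (core coCore)
open Cfsg (signalizerFamily signalizerInf)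

namespace CfsgLib.SolvSignalizer

universe u

variable {G : Type u} [Group G] [Finite G] {p : ℕ} [hp : Fact p.Prime] {A : Subgroup G}
  {θ : G → Subgroup G}

namespace SFCtx

variable (h : SFCtx p A θ)

include h

variable {q : ℕ} [hq : Fact q.Prime] {L S M : Subgroup G} (hw : World p A θ q L S M)

include hw

/-- A regular point of a frame lies in its maximal member. -/
theorem regular_le {b : G} (hb : b ∈ L) (hb1 : b ≠ 1) (hreg : IsRegular p A θ b) : θ b ≤ M := by
  have hbA := hw.frame.plane_le hb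
  have hSb := h.frame_point hw hb hb1
  obtain ⟨J, hJ, hbJ, u, hu, Q, hQ, hQb⟩ := hreg
  haveI := Fact.mk hu
  obtain ⟨hQle, hQn, hQor⟩ : Q ≤ core J u ∧ normalizer (J : Set G) ≤ normalizer (Q : Set G) ∧
      ((∀ x ∈ Q, ∀ y ∈ Q, x * y = y * x) ∨ u ≠ 2) := by
    rcases hQ with rfl | ⟨hu2, rfl⟩
    · exact ⟨omegaZ_le, (normalizer_le_core u).trans normalizer_le_omegaZ, Or.inl omegaZ_comm⟩
    · exact ⟨le_rfl, normalizer_le_core u, Or.inr hu2⟩
  have hQu : IsPGroup u Q := CfsgLib.CFun.isPGroup_core.to_le hQle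
  have hQm : Q ∈ signalizerFamily p A θ :=
    h.mem_of_le hJ.1 (hQle.trans CfsgLib.CFun.core_le) ((h.le_normA hJ.1).trans hQn)
  obtain ⟨hYm, hYQ, hθY, hYne⟩ :=
    h.point_commutator hw hQm hbA hb1 ((hbJ.trans le_normalizer).trans hQn)
  have hgen : ∀ {W : Subgroup G}, (∀ E T : Subgroup G, T = ⁅Q ⊓ centralizer (E : Set G), zpowers b⁆ → T ≤ Q →
      Frame p A θ u E T → T ≤ W) → ⁅Q, zpowers b⁆ ≤ W := by
    intro W hW
    refine commutator_le_of_hyperplanes h.elem
      (le_trans (Nat.pow_le_pow_right hp.out.pos (by norm_num)) h.card_le) hQm.2.1 hQm.1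
      (h.le_normA hQm) hbA fun E hE hi _ => ?_
    rcases eq_or_ne ⁅Q ⊓ centralizer (E : Set G), zpowers b⁆ ⊥ with e | e
    · rw [e]; exact bot_le
    · exact hW E _ rfl ((commutator_mono inf_le_left le_rfl).trans hYQ)
        (h.frame_of_core hu hbA hb1 hJ.1 hbJ (hQle.trans CfsgLib.CFun.core_le) hQn hQu hQor hE hi e)
  refine h.le_world_of_normalized hw hYm (hYne hQb) ((h.C_le_theta hbA hb1).trans hθY)
    (hSb.trans hθY) (fun r hr hrq hne => ?_) (h.theta_mem hbA hb1) hθY
  haveI := Fact.mk hr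
  have hcen : ∀ {Y : Subgroup G}, Y ≤ centralizer (core M r : Set G) →
      core M r ⊓ normalizer (Y : Set G) ≠ ⊥ := by
    intro Y hY
    rwa [inf_eq_left.2 ((le_centralizer_iff.1 hY).trans
      (CfsgLib.Coprime.centralizer_le_normalizer_self Y))]
  by_cases huq : u = q
  · -- `q`-frames centralise the cores
    subst huq
    obtain ⟨K, hK⟩ := h.exists_qMember u
    refine hcen (hgen fun E T _ _ hT => ?_)
    rcases h.frame_or_member hw hK hrq hne with ⟨L', T', hT'⟩ | ⟨Z, hZ, -, hKZ, hrZ⟩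
    · have hTM : T ≤ M := (h.other_frame hw hT' hrq).2.le T hT.mem
        ((h.frame_commute hT hT' hrq.symm).trans (CfsgLib.Coprime.centralizer_le_normalizer_self T'))
      exact ((h.frame_le_core hT hw.max.1 hTM).trans core_le_centralizer_coCore).trans
        (centralizer_le (CfsgLib.CFun.core_le_coCore hrq))
    · have hTK : T ≤ K := hK.le_of T hT.mem hT.group hT.inv
      have hSK : S ≤ K := hK.le_of S hw.frame.mem hw.frame.group hw.frame.inv
      exact ((h.frame_le_core hT hZ.1 (hTK.trans hKZ)).trans core_le_centralizer_coCore).trans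
        (centralizer_le ((le_inf (CfsgLib.CFun.core_le_coCore hrq) hrZ).trans
          (h.coCore_eq_inf hw hZ (hSK.trans hKZ)).ge))
  · -- other frames lie in the core of their prime
    have hYu : ⁅Q, zpowers b⁆ ≤ core M u := hgen fun E T _ _ hT => (h.other_frame hw hT huq).1
    rcases eq_or_ne r u with rfl | hru
    · intro e
      exact hYne hQb (le_bot_iff.1 (e ▸ le_inf hYu le_normalizer))
    · exact hcen (hYu.trans (core_le_centralizer_core hru.symm))

/-- The part of a frame of an out prime at an exceptional point. -/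
theorem out_piece (hq2 : q ≠ 2) {c k : G} {J P₀ : Subgroup G} (hc : c ∈ A) (hc1 : c ≠ 1)
    (hJ : IsMaxMem p A θ J) (hcJ : θ c ≤ J) (hSJ : S ≤ J) (hP₀ : P₀ ≤ A) (hcP : c ∈ P₀)
    (hkP : k ∈ P₀) (hk1 : k ≠ 1) (hkex : ¬ IsRegular p A θ k) {v : ℕ} (hv2 : v ≠ 2) (hvq : v ≠ q)
    {L' W : Subgroup G} (hW : Frame p A θ v L' W) (hkL : k ∈ L')
    (hWW : W ≤ ⁅W, signalizerInf A θ ⊓ core J 2⁆) (h2 : core J 2 ≠ ⊥) :
    ∃ N, N ∈ signalizerFamily p A θ ∧ N ≤ coCore M q ∧ W ≤ N ∧
      signalizerInf A θ ≤ normalizer (N : Set G) ∧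
      θ c ⊓ centralizer (P₀ : Set G) ≤ normalizer (N : Set G) ∧
      ∀ r : ℕ, r.Prime → r ≠ q → core M r ≤ core J r → N ≤ centralizer (core M r : Set G) := by
  haveI := Fact.mk hW.prime
  haveI : Fact (Nat.Prime 2) := ⟨Nat.prime_two⟩
  have hkA := hW.plane_le hkL
  obtain ⟨Jk, hJk, hkJk⟩ := h.exists_max (h.theta_mem hkA hk1)
  set B := core Jk v with hB
  set U := core J 2 with hU
  have hBm := h.core_mem hJk.1 v
  have hUm := h.core_mem hJ.1 2
  have hBk : B ≤ centralizer ({k} : Set G) := h.exceptional_odd hkex hJk hkJk hW.prime hv2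
  have hWk : W ≤ θ k := (hW.in_core k hkL hk1).trans CfsgLib.CFun.core_le
  have hWB : W ≤ B := h.frame_le_core hW hJk.1 (hWk.trans hkJk)
  have hCB : signalizerInf A θ ≤ normalizer (B : Set G) :=
    ((h.C_le_theta hkA hk1).trans hkJk).trans CfsgLib.CFun.le_normalizer_core
  have hU2 : U ≤ coCore M q :=
    (CfsgLib.CFun.core_le_coCore (Ne.symm hq2)).trans (h.coCore_le_M hw hJ hSJ)
  -- `B` lies in `M` and centralises the even core
  have hBM : B ≤ M ∧ B ≤ centralizer (core M 2 : Set G) := by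
    rcases eq_or_ne (core M 2) ⊥ with e | e
    · refine ⟨?_, fun x _ => mem_centralizer_iff.2 fun y hy => ?_⟩
      swap
      · rw [mem_bot.1 (e.le hy), one_mul, mul_one]
      have hnum : ∀ {r : ℕ} {X : Subgroup G}, r.Prime → r ≠ 2 → IsPGroup r X →
          CfsgLib.Coprime.IsPiNum {s | s ≠ 2} (Nat.card X) := fun {r X} hr hr2 hX s hs hd hs2 => by
        haveI := Fact.mk hr
        exact CfsgLib.CFun.not_dvd_of_isPGroup (r := r) (s := 2) hr2 hX (hs2 ▸ hd)
      obtain ⟨n, hn⟩ := IsPGroup.iff_card.1 (CfsgLib.CFun.isPGroup_core (H := J) (s := 2))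
      have hn0 : n ≠ 0 := fun e0 => h2 (card_eq_one.1 (by rw [hn, e0, pow_zero]))
      obtain ⟨a, ha, ha1, hd⟩ := h.prime_dvd_theta hUm Nat.prime_two
        ((dvd_pow_self 2 hn0).trans hn.symm.dvd)
      obtain ⟨K', hK'm, -, hK'C, hK'max⟩ :=
        h.piMember {s | s ≠ 2} ⟨a, ha, ha1, fun hpi => hpi 2 Nat.prime_two hd rfl⟩
      obtain ⟨Z, hZ, hle⟩ := h.exists_max (h.sup_mem hK'm h.inf_mem_family hK'C)
      have hK'Z : ∀ {X : Subgroup G}, X ∈ signalizerFamily p A θ →
          CfsgLib.Coprime.IsPiNum {s | s ≠ 2} (Nat.card X) →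
          signalizerInf A θ ≤ normalizer (X : Set G) → X ≤ Z := fun hX hXn hXC =>
        (hK'max _ hX hXn hXC).trans (le_sup_left.trans hle)
      rw [← h.eq_of_all_in hw hZ (le_sup_right.trans hle)
        (hK'Z hw.frame.mem (hnum hq.out hq2 hw.frame.group) hw.frame.inv) fun r hr hrq => ?_]
      · exact hK'Z hBm (hnum hW.prime hv2 CfsgLib.CFun.isPGroup_core) hCB
      · haveI := Fact.mk hr
        rcases eq_or_ne r 2 with rfl | hr2
        · rw [e]; exact bot_le
        · exact hK'Z (h.core_mem hw.max.1 r) (hnum hr hr2 CfsgLib.CFun.isPGroup_core)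
            ((h.world_C hw).trans CfsgLib.CFun.le_normalizer_core)
    · have hwv := (h.other_frame hw hW hvq).2
      have hne : core Jk 2 ≠ ⊥ := fun e2 =>
        h.exceptional_two hkA hk1 hkex hJk hkJk (e2.le.trans bot_le)
      have hB2 : B ≤ centralizer (core M 2 : Set G) := (core_le_centralizer_core hv2).trans
        (centralizer_le (h.core_le_of_core hwv hJk (hWk.trans hkJk) (Ne.symm hv2) hne))
      exact ⟨h.le_max hw.max CfsgLib.CFun.core_le (h.le_normA (h.core_mem hw.max.1 2)) e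
        CfsgLib.CFun.le_normalizer_core hBm
        (hB2.trans (CfsgLib.Coprime.centralizer_le_normalizer_self _)), hB2⟩
  -- the commutator
  set U' := U ⊓ centralizer ({k} : Set G) with hU'
  have hAk : A ≤ normalizer (centralizer ({k} : Set G) : Set G) :=
    (show A ≤ centralizer ({k} : Set G) from fun a ha =>
      mem_centralizer_singleton_iff.2 (h.commA ha hkA)).trans le_normalizer
  have hAU' : A ≤ normalizer (U' : Set G) := CfsgLib.Coprime.inf_le_normalizer (h.le_normA hUm) hAk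
  have hCk : signalizerInf A θ ≤ centralizer ({k} : Set G) :=
    (h.C_le_theta hkA hk1).trans (h.theta_le_centralizer hkA hk1)
  have hCU' : signalizerInf A θ ≤ normalizer (U' : Set G) := CfsgLib.Coprime.inf_le_normalizer
    (((h.C_le_theta hc hc1).trans hcJ).trans CfsgLib.CFun.le_normalizer_core) (hCk.trans le_normalizer)
  have hBΦ : ⁅B, U'⁆ ≤ coCore M q := (commutator_mono le_rfl ((inf_le_left : U' ≤ U).trans hU2)).trans
    (le_normalizer_iff_commutator_le_right.1 (hBM.1.trans CfsgLib.CFun.le_normalizer_coCore))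
  have hX : θ c ⊓ centralizer (P₀ : Set G) ≤ θ k := h.fix_le (h.inf_mem (h.theta_mem hc hc1)
    ((show A ≤ centralizer (P₀ : Set G) from fun a ha =>
      mem_centralizer_iff.2 fun g hg => h.commA (hP₀ hg) ha).trans le_normalizer)) hkA hk1 |>.trans'
        (le_inf le_rfl (inf_le_right.trans (centralizer_le (Set.singleton_subset_iff.2 hkP))))
  refine ⟨⁅B, U'⁆, h.mem_of_le (h.coCore_mem hw.max.1 q) hBΦ
    (CfsgLib.CFun.le_normalizer_commutator (h.le_normA hBm) hAU'), hBΦ, ?_,
    CfsgLib.CFun.le_normalizer_commutator hCB hCU', ?_, fun r hr hrq hrJ => ?_⟩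
  · exact hWW.trans (commutator_mono hWB (le_inf inf_le_right (inf_le_left.trans hCk)))
  · exact CfsgLib.CFun.le_normalizer_commutator
      ((hX.trans hkJk).trans CfsgLib.CFun.le_normalizer_core)
      (CfsgLib.Coprime.inf_le_normalizer ((inf_le_left.trans hcJ).trans CfsgLib.CFun.le_normalizer_core)
        ((hX.trans (h.theta_le_centralizer hkA hk1)).trans le_normalizer))
  · haveI := Fact.mk hr
    have hU'M : U' ≤ M := ((inf_le_left : U' ≤ U).trans hU2).trans CfsgLib.CFun.coCore_le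
    rcases eq_or_ne r 2 with rfl | hr2
    · exact (commutator_mono hBM.2 le_rfl).trans (le_normalizer_iff_commutator_le_left.1
        ((hU'M.trans CfsgLib.CFun.le_normalizer_core).trans
          (CfsgLib.Coprime.normalizer_le_normalizer_centralizer _)))
    · refine (commutator_mono (le_refl B) ?_).trans (le_normalizer_iff_commutator_le_right.1
        ((hBM.1.trans CfsgLib.CFun.le_normalizer_core).trans
          (CfsgLib.Coprime.normalizer_le_normalizer_centralizer _)))
      exact ((inf_le_left : U' ≤ U).trans (core_le_centralizer_core hr2.symm)).trans (centralizer_le hrJ)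

/-- The frame gives a contradiction. -/
theorem frame_false (hch : q = 2 → ∀ (v : ℕ) (L' T : Subgroup G), Frame p A θ v L' T → v = 2) :
    False := by
  classical
  haveI : Fact (Nat.Prime 2) := ⟨Nat.prime_two⟩
  obtain ⟨c, hcL, hc1, hcM⟩ : ∃ c ∈ L, c ≠ 1 ∧ ¬ θ c ≤ M := by
    by_contra hall
    push Not at hall
    exact h.no_plane_member hw.max.1 hw.frame.plane_le hw.frame.plane hall
  have hc := hw.frame.plane_le hcL
  have hcex : ¬ IsRegular p A θ c := fun hr => hcM (h.regular_le hw hcL hc1 hr)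
  have hSc := h.frame_point hw hcL hc1
  let out : Subgroup G → ℕ → Prop := fun J v =>
    v.Prime ∧ v ≠ q ∧ core M v ≠ ⊥ ∧ core M v ⊓ J = ⊥
  have hout : ∀ {J : Subgroup G} {v : ℕ}, out J v → v ∈ (Nat.card G).primeFactors := by
    intro J v hv
    haveI := Fact.mk hv.1
    obtain ⟨n, hn⟩ := IsPGroup.iff_card.1 (CfsgLib.CFun.isPGroup_core (H := M) (s := v))
    rcases n with - | n
    · exact absurd (card_eq_one.1 (hn.trans (pow_zero v))) hv.2.2.1
    · exact Nat.mem_primeFactors.2 ⟨hv.1,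
        ((dvd_pow_self v (Nat.succ_ne_zero n)).trans hn.symm.dvd).trans (card_subgroup_dvd_card _),
        Nat.card_pos.ne'⟩
  obtain ⟨J₁, hJ₁, hcJ₁⟩ := h.exists_max (h.theta_mem hc hc1)
  obtain ⟨J, hJmem, hmin⟩ := Set.exists_min_image {J | IsMaxMem p A θ J ∧ θ c ≤ J}
    (fun J => ((Nat.card G).primeFactors.filter (out J)).card) (Set.toFinite _) ⟨J₁, hJ₁, hcJ₁⟩
  obtain ⟨hJ, hcJ⟩ := hJmem
  have hSJ := hSc.trans hcJ
  have hCJ : signalizerInf A θ ≤ J := (h.C_le_theta hc hc1).trans hcJ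
  set U := core J 2 with hU
  have hU2 := h.exceptional_two hc hc1 hcex hJ hcJ
  have hUm := h.core_mem hJ.1 2
  obtain ⟨hNm, hNU, hθN, hNne⟩ :=
    h.point_commutator hw hUm hc hc1 (hcJ.trans CfsgLib.CFun.le_normalizer_core)
  -- every out prime is odd and has a frame
  have key : ∀ v, out J v → v ≠ 2 ∧
      ∃ L' W, Frame p A θ v L' W ∧ W ≤ ⁅W, signalizerInf A θ ⊓ U⁆ := by
    intro v hv
    haveI := Fact.mk hv.1
    obtain ⟨-, hvq, hne, hmeet⟩ := hv
    have hv2 : v ≠ 2 := by
      rintro rfl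
      have h1 := h.core_le_of_core hw hJ hSJ hvq fun e => hU2 (e.le.trans bot_le)
      exact hne (le_bot_iff.1 (hmeet ▸ le_inf le_rfl (h1.trans CfsgLib.CFun.core_le)))
    refine ⟨hv2, ?_⟩
    by_contra hno
    push Not at hno
    obtain ⟨V, hVm, hVe, hCV, hUV, hfix, hVne⟩ : ∃ V, V ∈ signalizerFamily p A θ ∧
        Cfsg.IsElementaryAbelian v V ∧ signalizerInf A θ ≤ normalizer (V : Set G) ∧
        U ≤ normalizer (V : Set G) ∧ V ⊓ centralizer ({c} : Set G) ≤ centralizer (U : Set G) ∧
        core M v ⊓ V ≠ ⊥ := by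
      have hFm := h.core_mem hw.max.1 v
      by_cases hq2 : q = 2
      · subst hq2
        obtain ⟨K, hK⟩ := h.exists_qMember 2
        rcases h.frame_or_member hw hK hvq hne with ⟨L', T, hT⟩ | ⟨Z, hZ, hCZ, hKZ, hvZ⟩
        · exact absurd (hch rfl v L' T hT) hv2
        have hSZ : S ≤ Z := (hK.le_of S hw.frame.mem hw.frame.group hw.frame.inv).trans hKZ
        have hFD : core M v ≤ core Z v :=
          h.core_le_of_meet hw hZ hSZ hvq (by rwa [inf_eq_left.2 hvZ])
        have hDΦ : core Z v ≤ coCore M 2 :=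
          (CfsgLib.CFun.core_le_coCore hvq).trans (h.coCore_le_M hw hZ hSZ)
        have hUK : U ≤ K :=
          hK.le_of U hUm CfsgLib.CFun.isPGroup_core (hCJ.trans CfsgLib.CFun.le_normalizer_core)
        refine ⟨omegaZ v (core Z v), h.omegaZ_mem (h.core_mem hZ.1 v) v, omegaZ_elementary,
          (hCZ.trans CfsgLib.CFun.le_normalizer_core).trans normalizer_le_omegaZ,
          ((hUK.trans hKZ).trans CfsgLib.CFun.le_normalizer_core).trans normalizer_le_omegaZ, ?_,
          inf_omegaZ_ne_bot CfsgLib.CFun.isPGroup_core hFD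
            ((hDΦ.trans CfsgLib.CFun.coCore_le).trans CfsgLib.CFun.le_normalizer_core) hne⟩
        intro x hx
        have hxJ : x ∈ J := hcJ (h.fix_le hZ.1 hc hc1 ⟨CfsgLib.CFun.core_le (omegaZ_le hx.1), hx.2⟩)
        have hxc : x ∈ coCore J 2 :=
          (h.coCore_eq_inf hw hJ hSJ).ge (mem_inf.2 ⟨hDΦ (omegaZ_le hx.1), hxJ⟩)
        exact le_centralizer_iff.1 core_le_centralizer_coCore hxc
      · have hUΦ : U ≤ coCore M q :=
          (CfsgLib.CFun.core_le_coCore (Ne.symm hq2)).trans (h.coCore_le_M hw hJ hSJ)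
        refine ⟨omegaZ v (core M v), h.omegaZ_mem hFm v, omegaZ_elementary,
          ((h.world_C hw).trans CfsgLib.CFun.le_normalizer_core).trans normalizer_le_omegaZ,
          ((hUΦ.trans CfsgLib.CFun.coCore_le).trans CfsgLib.CFun.le_normalizer_core).trans normalizer_le_omegaZ,
          ?_, fun e => omegaZ_ne_bot CfsgLib.CFun.isPGroup_core hne
            (le_bot_iff.1 (e ▸ le_inf omegaZ_le le_rfl))⟩
        refine le_trans ?_ bot_le
        rw [← hmeet]
        exact le_inf (inf_le_left.trans omegaZ_le) fun x hx =>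
          hcJ (h.fix_le hw.max.1 hc hc1 ⟨CfsgLib.CFun.core_le (omegaZ_le hx.1), hx.2⟩)
    rcases h.pair_action hv2 hc hc1 hJ.1 hcJ hVm hVe hCV hUV hfix with hcen | ⟨L', W, hW, -, -, hWW⟩
    swap
    · exact hno L' W hW hWW
    -- a member with more primes in
    obtain ⟨J', hJ', -, hle⟩ := h.exists_max_normalizer hNm (hNne hU2)
    have hcJ' : θ c ≤ J' := hle _ (h.theta_mem hc hc1) hθN
    have hlt : ((Nat.card G).primeFactors.filter (out J')).card <
        ((Nat.card G).primeFactors.filter (out J)).card := by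
      refine Finset.card_lt_card ?_
      rw [Finset.ssubset_iff_of_subset]
      · refine ⟨v, Finset.mem_filter.2 ⟨hout (J := J) ⟨Fact.out, hvq, hne, hmeet⟩, Fact.out, hvq, hne, hmeet⟩,
          fun hv' => hVne (le_bot_iff.1 ((Finset.mem_filter.1 hv').2.2.2.2 ▸ le_inf inf_le_left ?_))⟩
        exact inf_le_right.trans (hle V hVm ((le_centralizer_iff.1 hcen).trans
          (CfsgLib.Coprime.centralizer_le_normalizer_self _)))
      · intro r hr
        obtain ⟨hrG, hr, hrq, hrne, hrmeet⟩ := Finset.mem_filter.1 hr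
        haveI := Fact.mk hr
        refine Finset.mem_filter.2 ⟨hrG, hr, hrq, hrne, ?_⟩
        by_contra hin
        have h1 := h.core_le_of_meet hw hJ hSJ hrq hin
        refine hrne (le_bot_iff.1 (hrmeet ▸ le_inf le_rfl (hle _ (h.core_mem hw.max.1 r) ?_)))
        rcases eq_or_ne r 2 with rfl | hr2
        · exact h1.trans (le_normalizer_commutator_left U (zpowers c))
        · exact (h1.trans (core_le_centralizer_core hr2)).trans
            ((centralizer_le hNU).trans (CfsgLib.Coprime.centralizer_le_normalizer_self _))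
    exact absurd (hmin J' ⟨hJ', hcJ'⟩) (not_le.2 hlt)
  -- some prime is out
  obtain ⟨v₀, hv₀⟩ : ∃ v, out J v := by
    by_contra hnone
    push Not at hnone
    refine hcM ((h.eq_of_all_in hw hJ hCJ hSJ fun r hr hrq => ?_) ▸ hcJ)
    haveI := Fact.mk hr
    rcases eq_or_ne (core M r) ⊥ with e | e
    · rw [e]; exact bot_le
    · exact (h.core_le_of_meet hw hJ hSJ hrq fun e' => hnone r ⟨hr, hrq, e, e'⟩).trans
        CfsgLib.CFun.core_le
  by_cases hq2 : q = 2
  · obtain ⟨hv2, L', W, hW, -⟩ := key v₀ hv₀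
    exact hv2 (hch hq2 v₀ L' W hW)
  -- every plane through `c` lies in `M`
  refine hcM (h.theta_le_of_planes hc hc1 fun P₀ hP₀ hi hcP => ?_)
  have hXm : θ c ⊓ centralizer (P₀ : Set G) ∈ signalizerFamily p A θ :=
    h.inf_mem (h.theta_mem hc hc1) ((show A ≤ centralizer (P₀ : Set G) from fun a ha =>
      mem_centralizer_iff.2 fun g hg => h.commA (hP₀ hg) ha).trans le_normalizer)
  by_contra hX
  have hpiece : ∀ v, out J v → ∃ N, (∃ W, W ≤ N ∧ W ≤ core M v ∧ W ≠ ⊥) ∧
      N ∈ signalizerFamily p A θ ∧ N ≤ coCore M q ∧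
      signalizerInf A θ ≤ normalizer (N : Set G) ∧
      θ c ⊓ centralizer (P₀ : Set G) ≤ normalizer (N : Set G) ∧
      ∀ r : ℕ, r.Prime → r ≠ q → core M r ≤ core J r → N ≤ centralizer (core M r : Set G) := by
    intro v hv
    obtain ⟨hv2, L', W, hW, hWW⟩ := key v hv
    haveI := Fact.mk hv.1
    obtain ⟨k, hkL, hkP, hk1⟩ := h.planes_meet hW.plane_le hW.plane hP₀ hi
    obtain ⟨hWc, hwv⟩ := h.other_frame hw hW hv.2.1
    have hkex : ¬ IsRegular p A θ k := fun hr => hX
      ((h.fix_le hXm (hW.plane_le hkL) hk1).trans' (le_inf le_rfl (inf_le_right.trans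
        (centralizer_le (Set.singleton_subset_iff.2 hkP)))) |>.trans (h.regular_le hwv hkL hk1 hr))
    obtain ⟨N, h1, h2, h3, h4, h5, h6⟩ := h.out_piece hw hq2 hc hc1 hJ hcJ hSJ hP₀ hcP hkP hk1 hkex hv2
      hv.2.1 hW hkL hWW fun e => hU2 (e.le.trans bot_le)
    exact ⟨N, ⟨W, h3, hWc, hW.ne_bot⟩, h1, h2, h4, h5, h6⟩
  choose N hNW hNfam hNΦ hNC hNX hNr using hpiece
  set T := ⨆ v : {v // out J v}, N v v.2 with hT
  have hTΦ : T ≤ coCore M q := iSup_le fun v => hNΦ v v.2
  have hTm : T ∈ signalizerFamily p A θ := h.mem_of_le (h.coCore_mem hw.max.1 q) hTΦ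
    (le_normalizer_iSup_of fun v => h.le_normA (hNfam v v.2))
  have hNT : ∀ v (hv : out J v), N v hv ≤ T := fun v hv =>
    le_iSup (fun v : {v // out J v} => N v v.2) ⟨v, hv⟩
  have hT1 : T ≠ ⊥ := by
    obtain ⟨W, hWN, -, hW1⟩ := hNW v₀ hv₀
    exact fun e => hW1 (le_bot_iff.1 ((hWN.trans (hNT v₀ hv₀)).trans e.le))
  refine hX (h.le_world_of_normalized hw hTm hT1 (le_normalizer_iSup_of fun v => hNC v v.2) ?_ ?_ hXm
    (le_normalizer_iSup_of fun v => hNX v v.2))
  · exact (le_centralizer_iff.1 (hTΦ.trans (h.frame_commute_right hw.frame hw.max.1 (h.world_S hw)))).trans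
      (CfsgLib.Coprime.centralizer_le_normalizer_self _)
  intro r hr hrq hne
  haveI := Fact.mk hr
  by_cases hmeet : core M r ⊓ J = ⊥
  · obtain ⟨W, hWN, hWc, hW1⟩ := hNW r ⟨hr, hrq, hne, hmeet⟩
    exact fun e => hW1 (le_bot_iff.1 (e ▸ le_inf hWc ((hWN.trans (hNT r _)).trans le_normalizer)))
  · have h1 := h.core_le_of_meet hw hJ hSJ hrq hmeet
    have hTc : T ≤ centralizer (core M r : Set G) := iSup_le fun v => hNr v v.2 r hr hrq h1
    rwa [inf_eq_left.2 ((le_centralizer_iff.1 hTc).trans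
      (CfsgLib.Coprime.centralizer_le_normalizer_self T))]

omit hw in
/-- There is no such context. -/
protected theorem false : False := by
  obtain ⟨q, L, S, hS⟩ := h.exists_frame
  by_cases hodd : ∃ (v : ℕ) (L' T : Subgroup G), Frame p A θ v L' T ∧ v ≠ 2
  · obtain ⟨v, L', T, hT, hv⟩ := hodd
    haveI := Fact.mk hT.prime
    obtain ⟨M, hw⟩ := h.exists_world hT
    exact h.frame_false hw fun e => absurd e hv
  · push Not at hodd
    haveI := Fact.mk hS.prime
    obtain ⟨M, hw⟩ := h.exists_world hS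
    exact h.frame_false hw fun _ => hodd

end SFCtx

end CfsgLib.SolvSignalizer
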