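import Cfsg.Agent.Lib.Coprime.Hyperplanes
import Cfsg.Agent.Lib.CFun.Tools

/-!
# Generation of a commutator with an operator by the fixed points of hyperplanes

The commutator of a solvable `p'`-group with an element `f` of an elementary abelian operator
group is generated by the commutators of the fixed points of the hyperplanes.
-/

set_option autoImplicit false
set_option linter.style.haveILetI false
set_option linter.unusedSectionVars false

open Subgroup
open scoped commutatorElement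
open CfsgLib.Coprime (conj_mem_of_le_normalizer)

namespace CfsgLib.SolvSignalizer

universe u

variable {G : Type u} [Group G] [Finite G] {p : ℕ} [hp : Fact p.Prime]

/-- `[H, f]` is generated by the commutators with `f` of the fixed points of the hyperplanes. -/
theorem commutator_le_of_hyperplanes {B H K : Subgroup G} {f : G} (hB : Cfsg.IsElementaryAbelian p B)
    (hB2 : p ^ 2 ≤ Nat.card B) (hH : ¬ p ∣ Nat.card H) (hs : Group.IsSolvable H)
    (hBH : B ≤ normalizer (H : Set G)) (hf : f ∈ B)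
    (hK : ∀ E : Subgroup G, E ≤ B → E.relIndex B = p → f ∉ E →
      ⁅H ⊓ centralizer (E : Set G), zpowers f⁆ ≤ K) :
    ⁅H, zpowers f⁆ ≤ K := by
  classical
  have hcomm : ∀ a ∈ B, ∀ b ∈ B, a * b = b * a := fun a ha b hb =>
    congrArg Subtype.val (hB.1.is_comm.comm (⟨a, ha⟩ : B) ⟨b, hb⟩)
  have hfp : f ^ p = 1 := hB.2 f hf
  have hfH : zpowers f ≤ normalizer (H : Set G) := (zpowers_le.2 hf).trans hBH
  have hcop : (Nat.card (zpowers f)).Coprime (Nat.card H) := by
    rw [Nat.card_zpowers]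
    exact (hp.out.coprime_iff_not_dvd.2 hH).coprime_dvd_left (orderOf_dvd_of_pow_eq_one hfp)
  set S : Set G := {x | ∃ E : Subgroup G, E ≤ B ∧ E.relIndex B = p ∧ f ∉ E ∧
    ∃ h ∈ H ⊓ centralizer (E : Set G), ∃ g ∈ zpowers f, h * g * h⁻¹ * g⁻¹ = x} with hS
  set K₀ := closure S with hK₀
  refine le_trans ?_ (show K₀ ≤ K from (closure_le K).2 (by
    rintro x ⟨E, hEB, hEi, hfE, h, hh, g, hg, rfl⟩
    exact hK E hEB hEi hfE (commutator_mem_commutator hh hg)))
  have hBK : B ≤ normalizer (K₀ : Set G) := by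
    have h1 : ∀ b ∈ B, ∀ x ∈ K₀, b * x * b⁻¹ ∈ K₀ := by
      intro b hb x hx
      suffices hle : K₀.map (MulAut.conj b).toMonoidHom ≤ K₀ from hle ⟨x, hx, rfl⟩
      rw [hK₀, MonoidHom.map_closure, closure_le]
      rintro _ ⟨_, ⟨E, hEB, hEi, hfE, h, hh, g, hg, rfl⟩, rfl⟩
      refine subset_closure ⟨E, hEB, hEi, hfE, b * h * b⁻¹, ⟨conj_mem_of_le_normalizer hBH hb hh.1,
        mem_centralizer_iff.2 fun e he => ?_⟩, g, hg, ?_⟩
      · have h2 := mem_centralizer_iff.1 hh.2 e he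
        have h3 := hcomm e (hEB he) b hb
        calc e * (b * h * b⁻¹) = b * (e * h) * b⁻¹ := by rw [← mul_assoc, ← mul_assoc, h3]; group
          _ = b * (h * e) * b⁻¹ := by rw [h2]
          _ = b * h * (b⁻¹ * b) * e * b⁻¹ := by group
          _ = b * h * b⁻¹ * (b * e * b⁻¹) := by group
          _ = b * h * b⁻¹ * e := by rw [← h3, mul_inv_cancel_right]
      · have h3 := hcomm g (zpowers_le.2 hf hg) b hb
        show b * h * b⁻¹ * g * (b * h * b⁻¹)⁻¹ * g⁻¹ = b * (h * g * h⁻¹ * g⁻¹) * b⁻¹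
        calc _ = b * h * (b⁻¹ * g * b) * h⁻¹ * (b⁻¹ * g⁻¹) := by group
          _ = b * h * g * h⁻¹ * (b⁻¹ * g⁻¹) := by rw [show b⁻¹ * g * b = g by rw [mul_assoc, h3]; group]
          _ = b * h * g * h⁻¹ * (g * b)⁻¹ := by group
          _ = _ := by rw [h3]; group
    exact CfsgLib.Invol.le_normalizer_of_forall_conj h1
  have hHf : ⁅H, zpowers f⁆ ≤ H := by
    rw [commutator_le]
    intro x hx g hg
    rw [commutatorElement_def, mul_assoc x g, mul_assoc x]
    exact mul_mem hx (conj_mem_of_le_normalizer hfH hg (inv_mem hx))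
  -- descend through the invariant normal subgroups
  suffices key : ∀ V : Subgroup G, V ≤ H → H ≤ normalizer (V : Set G) → B ≤ normalizer (V : Set G) →
      ⁅H, zpowers f⁆ ≤ V ⊔ K₀ → ⁅H, zpowers f⁆ ≤ K₀ from
    key H le_rfl le_normalizer hBH (hHf.trans le_sup_left)
  intro V
  induction V using WellFoundedLT.induction with
  | _ V ih =>
  intro hVH hHV hBV hle
  by_cases hVb : V = ⊥
  · rwa [hVb, bot_sup_eq] at hle
  obtain ⟨V₀, -, hV₀⟩ := exists_maximal_ge_of_wellFoundedGT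
    (fun Y : Subgroup G => Y < V ∧ H ≤ normalizer (Y : Set G) ∧ B ≤ normalizer (Y : Set G)) ⊥
    ⟨bot_lt_iff_ne_bot.2 hVb, fun _ _ => by rw [normalizer_eq_top]; exact mem_top _,
      fun _ _ => by rw [normalizer_eq_top]; exact mem_top _⟩
  obtain ⟨hlt, hHV₀, hBV₀⟩ := hV₀.prop
  refine ih V₀ hlt (hlt.le.trans hVH) hHV₀ hBV₀ ?_
  have hVV₀ : V ≤ normalizer (V₀ : Set G) := hVH.trans hHV₀
  -- the factor is abelian
  have hab : ⁅V, V⁆ ≤ V₀ := by
    by_contra hnot
    have h1 : V₀ ⊔ ⁅V, V⁆ = V := by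
      have hle1 : V₀ ⊔ ⁅V, V⁆ ≤ V := sup_le hlt.le (commutator_le_self V)
      by_contra hne
      refine hnot (le_trans le_sup_right (hV₀.2 ⟨lt_of_le_of_ne hle1 hne, ?_, ?_⟩ le_sup_left))
      · exact CfsgLib.Coprime.sup_le_normalizer hHV₀ (CfsgLib.CFun.le_normalizer_commutator hHV hHV)
      · exact CfsgLib.Coprime.sup_le_normalizer hBV₀ (CfsgLib.CFun.le_normalizer_commutator hBV hBV)
    haveI : (V₀.subgroupOf V).Normal := (normal_subgroupOf_iff_le_normalizer hlt.le).2 hVV₀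
    haveI : Group.IsSolvable V := by
      haveI := hs
      exact Group.isSolvable_of_isSolvable_injective (inclusion_injective hVH)
    haveI : Nontrivial (V ⧸ V₀.subgroupOf V) := by
      by_contra hn
      rw [not_nontrivial_iff_subsingleton] at hn
      exact hlt.not_ge (subgroupOf_eq_top.1 (QuotientGroup.subgroup_eq_top_of_subsingleton _ hn))
    refine (Group.IsSolvable.commutator_lt_top_of_nontrivial (V ⧸ V₀.subgroupOf V)).ne ?_
    rw [← map_top_of_surjective _ (QuotientGroup.mk'_surjective (V₀.subgroupOf V)),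
      _root_.commutator_def, ← map_top_of_surjective _ (QuotientGroup.mk'_surjective (V₀.subgroupOf V)),
      ← map_commutator]
    refine le_antisymm (map_mono le_top) ?_
    rintro _ ⟨x, -, rfl⟩
    have hx : (x : G) ∈ V₀ ⊔ ⁅V, V⁆ := h1.symm ▸ x.2
    have hcV : ⁅V, V⁆ ≤ normalizer (V₀ : Set G) := (commutator_le_self V).trans hVV₀
    obtain ⟨n, hn, c, hc, e⟩ := CfsgLib.Coprime.mem_sup_exists hcV hx
    have hc' : (⟨c, commutator_le_self V hc⟩ : V) ∈ ⁅(⊤ : Subgroup V), (⊤ : Subgroup V)⁆ := by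
      have h3 : ⁅V, V⁆ = (⁅(⊤ : Subgroup V), (⊤ : Subgroup V)⁆).map V.subtype := by
        rw [map_commutator, ← MonoidHom.range_eq_map, range_subtype]
      obtain ⟨d, hd, hde⟩ := h3.le hc
      rw [show (⟨c, commutator_le_self V hc⟩ : V) = d from Subtype.ext hde.symm]
      exact hd
    refine ⟨_, hc', (QuotientGroup.eq).2 ?_⟩
    rw [mem_subgroupOf]
    show c⁻¹ * (x : G) ∈ V₀
    rw [← e, ← mul_assoc]
    exact (mem_normalizer_iff''.1 (hcV hc) n).1 hn
  have hab' : ∀ x ∈ V, ∀ y ∈ V, x * y * x⁻¹ * y⁻¹ ∈ V₀ := fun x hx y hy =>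
    hab (commutator_mem_commutator hx hy)
  set J := V₀ ⊔ K₀ with hJ
  have hfV : f ∈ normalizer (V : Set G) := hBV hf
  -- the part of `V` in `J`
  set P := J ⊓ V with hP
  have hVP : V ≤ normalizer (P : Set G) := by
    refine CfsgLib.Invol.le_normalizer_of_forall_conj fun v hv x hx => ?_
    have h1 : v * x * v⁻¹ * x⁻¹ ∈ V₀ := hab' v hv x hx.2
    refine mem_inf.2 ⟨by simpa using mul_mem ((le_sup_left : V₀ ≤ J) h1) hx.1,
      mul_mem (mul_mem hv hx.2) (inv_mem hv)⟩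
  have hKH : K₀ ≤ H := by
    rw [hK₀, closure_le]
    rintro _ ⟨E, -, -, -, h, hh, g, hg, rfl⟩
    exact hHf (commutator_mem_commutator hh.1 hg)
  have hJH : J ≤ H := sup_le (hlt.le.trans hVH) hKH
  have hJV : V ⊔ K₀ ≤ normalizer (P : Set G) :=
    sup_le hVP (le_sup_right.trans (CfsgLib.Coprime.inf_le_normalizer le_normalizer (hJH.trans hHV)))
  have hfJ : f ∈ normalizer (J : Set G) := CfsgLib.Coprime.sup_le_normalizer hBV₀ hBK hf
  have hzJ : zpowers f ≤ normalizer (J : Set G) := zpowers_le.2 hfJ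
  -- the commutator of `V` with `f` lies in `J`
  have hVf : ∀ v ∈ V, ∀ g ∈ zpowers f, v * g * v⁻¹ * g⁻¹ ∈ J := by
    let W : Subgroup G :=
      { carrier := {v | v ∈ V ∧ ∀ g ∈ zpowers f, v * g * v⁻¹ * g⁻¹ ∈ J}
        one_mem' := ⟨one_mem _, fun g _ => by simp⟩
        mul_mem' := fun {v w} hv hw => ⟨mul_mem hv.1 hw.1, fun g hg => by
          have hm : w * g * w⁻¹ * g⁻¹ ∈ P :=
            ⟨hw.2 g hg, by
              rw [mul_assoc w g, mul_assoc w]
              exact mul_mem hw.1 (conj_mem_of_le_normalizer ((zpowers_le.2 hf).trans hBV) hg (inv_mem hw.1))⟩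
          rw [show v * w * g * (v * w)⁻¹ * g⁻¹ =
            (v * (w * g * w⁻¹ * g⁻¹) * v⁻¹) * (v * g * v⁻¹ * g⁻¹) by group]
          exact mul_mem ((mem_normalizer_iff.1 (hVP hv.1) _).1 hm).1 (hv.2 g hg)⟩
        inv_mem' := fun {v} hv => ⟨inv_mem hv.1, fun g hg => by
          have hm : v * g * v⁻¹ * g⁻¹ ∈ P :=
            ⟨hv.2 g hg, by
              rw [mul_assoc v g, mul_assoc v]
              exact mul_mem hv.1 (conj_mem_of_le_normalizer ((zpowers_le.2 hf).trans hBV) hg (inv_mem hv.1))⟩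
          rw [show v⁻¹ * g * v⁻¹⁻¹ * g⁻¹ = v⁻¹ * (v * g * v⁻¹ * g⁻¹)⁻¹ * v by group]
          exact ((mem_normalizer_iff''.1 (hVP hv.1) _).1 (inv_mem hm)).1⟩ }
    suffices hW : V ≤ W from fun v hv => (hW hv).2
    refine CfsgLib.Coprime.le_of_hyperplanes hB hB2 (fun hd => hH (hd.trans (card_dvd_of_le hVH)))
      hBV fun E hEB hEi v hv => ⟨hv.1, fun g hg => ?_⟩
    by_cases hfE : f ∈ E
    · rw [← mem_centralizer_iff.1 hv.2 g (zpowers_le.2 hfE hg), mul_inv_cancel_right, mul_inv_cancel]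
      exact one_mem _
    · exact (le_sup_right : K₀ ≤ J) (subset_closure ⟨E, hEB, hEi, hfE, v, ⟨hVH hv.1, hv.2⟩, g, hg, rfl⟩)
  by_cases hcase : ∀ v ∈ V, ∀ g ∈ zpowers f, v * g * v⁻¹ * g⁻¹ ∈ V₀
  · -- `f` centralises the factor
    rw [← CfsgLib.Coprime.commutator_commutator_eq hfH hcop
      (Or.inl (CfsgLib.Coprime.isSolvable_of_isMulCommutative inferInstance))]
    refine (commutator_mono hle le_rfl).trans ?_
    rw [commutator_le]
    intro x hx g hg
    obtain ⟨v, hv, k, hk, rfl⟩ := CfsgLib.Coprime.mem_sup_exists ((hKH.trans hHV)) hx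
    have hv' : k⁻¹ * v * k ∈ V := (mem_normalizer_iff''.1 (hHV (hKH hk)) v).1 hv
    rw [commutatorElement_def, show v * k * g * (v * k)⁻¹ * g⁻¹ =
      k * ((k⁻¹ * v * k) * g * (k⁻¹ * v * k)⁻¹ * g⁻¹) * k⁻¹ * (k * g * k⁻¹ * g⁻¹) by group]
    refine mul_mem ((le_sup_left : V₀ ≤ J)
      ((mem_normalizer_iff.1 (hHV₀ (hKH hk)) _).1 (hcase _ hv' g hg))) ((le_sup_right : K₀ ≤ J) ?_)
    rw [mul_assoc k g, mul_assoc k]
    exact mul_mem hk (conj_mem_of_le_normalizer ((zpowers_le.2 hf).trans hBK) hg (inv_mem hk))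
  · -- `f` moves the factor, so the factor lies in `J`
    push Not at hcase
    obtain ⟨v₁, hv₁, g₁, hg₁, hne₁⟩ := hcase
    set D := ⁅H, zpowers f⁆ with hD
    set C := H ⊓ centralizer (zpowers f : Set G) with hC
    have hBf : B ≤ normalizer (zpowers f : Set G) := by
      refine le_trans ?_ (CfsgLib.Coprime.centralizer_le_normalizer_self _)
      intro b hb
      exact mem_centralizer_iff.2 fun g hg => hcomm g (zpowers_le.2 hf hg) b hb
    have hBC : B ≤ normalizer (C : Set G) := CfsgLib.Coprime.inf_le_normalizer hBH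
      (hBf.trans (CfsgLib.Coprime.normalizer_le_normalizer_centralizer _))
    have hCD : C ≤ normalizer (D : Set G) := CfsgLib.CFun.le_normalizer_commutator
      (inf_le_left.trans le_normalizer)
      (inf_le_right.trans (CfsgLib.Coprime.centralizer_le_normalizer_self _))
    have hBP : B ≤ normalizer (P : Set G) :=
      CfsgLib.Coprime.inf_le_normalizer (CfsgLib.Coprime.sup_le_normalizer hBV₀ hBK) hBV
    let U : Subgroup G :=
      { carrier := {x | x ∈ P ∧ ∀ c ∈ C, c * x * c⁻¹ ∈ P}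
        one_mem' := ⟨one_mem _, fun c _ => by simp⟩
        mul_mem' := fun {x y} hx hy => ⟨mul_mem hx.1 hy.1, fun c hc => by
          rw [show c * (x * y) * c⁻¹ = (c * x * c⁻¹) * (c * y * c⁻¹) by group]
          exact mul_mem (hx.2 c hc) (hy.2 c hc)⟩
        inv_mem' := fun {x} hx => ⟨inv_mem hx.1, fun c hc => by
          rw [show c * x⁻¹ * c⁻¹ = (c * x * c⁻¹)⁻¹ by group]
          exact inv_mem (hx.2 c hc)⟩ }
    have hUC : C ≤ normalizer (U : Set G) := by
      refine CfsgLib.Invol.le_normalizer_of_forall_conj fun d hd x hx => ⟨hx.2 d hd, fun c hc => ?_⟩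
      rw [show c * (d * x * d⁻¹) * c⁻¹ = (c * d) * x * (c * d)⁻¹ by group]
      exact hx.2 _ (mul_mem hc hd)
    have hUD : D ≤ normalizer (U : Set G) := by
      refine CfsgLib.Invol.le_normalizer_of_forall_conj fun d hd x hx => ⟨?_, fun c hc => ?_⟩
      · exact (mem_normalizer_iff.1 (hJV (hle hd)) _).1 hx.1
      · rw [show c * (d * x * d⁻¹) * c⁻¹ = (c * d * c⁻¹) * (c * x * c⁻¹) * (c * d * c⁻¹)⁻¹ by group]
        exact (mem_normalizer_iff.1 (hJV (hle ((mem_normalizer_iff.1 (hCD hc) d).1 hd))) _).1 (hx.2 c hc)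
    have hHU : H ≤ normalizer (U : Set G) := by
      rw [← CfsgLib.Coprime.commutator_sup_centralizer hfH hcop
        (Or.inl (CfsgLib.Coprime.isSolvable_of_isMulCommutative inferInstance))]
      exact sup_le hUD hUC
    have hBU : B ≤ normalizer (U : Set G) := by
      refine CfsgLib.Invol.le_normalizer_of_forall_conj fun b hb x hx =>
        ⟨(mem_normalizer_iff.1 (hBP hb) _).1 hx.1, fun c hc => ?_⟩
      rw [show c * (b * x * b⁻¹) * c⁻¹ = b * ((b⁻¹ * c * b) * x * (b⁻¹ * c * b)⁻¹) * b⁻¹ by group]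
      exact (mem_normalizer_iff.1 (hBP hb) _).1 (hx.2 _ ((mem_normalizer_iff''.1 (hBC hb) c).1 hc))
    have hV₀U : V₀ ≤ U := fun x hx => ⟨⟨le_sup_left (α := Subgroup G) hx, hlt.le hx⟩, fun c hc => by
      have h1 := (mem_normalizer_iff.1 (hHV₀ hc.1) x).1 hx
      exact ⟨le_sup_left (α := Subgroup G) h1, hlt.le h1⟩⟩
    have hcg : ∀ v ∈ V, v * g₁ * v⁻¹ * g₁⁻¹ ∈ V := fun v hv => by
      rw [mul_assoc v g₁, mul_assoc v]
      exact mul_mem hv (conj_mem_of_le_normalizer ((zpowers_le.2 hf).trans hBV) hg₁ (inv_mem hv))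
    have hy : v₁ * g₁ * v₁⁻¹ * g₁⁻¹ ∈ U := by
      refine ⟨⟨hVf v₁ hv₁ g₁ hg₁, hcg v₁ hv₁⟩, fun c hc => ?_⟩
      have hcg1 : c * g₁ * c⁻¹ = g₁ := by
        rw [← mem_centralizer_iff.1 hc.2 g₁ hg₁, mul_inv_cancel_right]
      have hv' : c * v₁ * c⁻¹ ∈ V := (mem_normalizer_iff.1 (hHV hc.1) v₁).1 hv₁
      have e : c * (v₁ * g₁ * v₁⁻¹ * g₁⁻¹) * c⁻¹ =
          (c * v₁ * c⁻¹) * (c * g₁ * c⁻¹) * (c * v₁ * c⁻¹)⁻¹ * (c * g₁ * c⁻¹)⁻¹ := by group
      rw [e, hcg1]
      exact ⟨hVf _ hv' g₁ hg₁, hcg _ hv'⟩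
    have hUV : U = V := by
      by_contra hne
      have hlt' : U < V := lt_of_le_of_ne (fun x hx => hx.1.2) hne
      exact hne₁ (hV₀.2 ⟨hlt', hHU, hBU⟩ hV₀U hy)
    exact hle.trans (sup_le (fun x hx => (hUV.symm ▸ hx : x ∈ U).1.1) le_sup_right)

end CfsgLib.SolvSignalizer
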