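import Cfsg.Agent.Lib.SolvSignalizer.Atoms
import Mathlib.GroupTheory.GroupAction.Basic

/-!
# A group with central commutators on a fixed point free piece

`W` is an elementary `q`-group, `N` normalises it, `T` is a central elementary `r`-subgroup of `N`
containing the commutators, and the elements of `T` outside the hyperplane `H` fix no point of `W`.
The kernel `rad N H` consists of the elements of `N` whose commutators with `N` lie in `H`.
-/

set_option autoImplicit false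
set_option linter.style.haveILetI false
set_option linter.unusedSectionVars false

open Subgroup
open CfsgLib.Coprime (conj_mem_of_le_normalizer)

namespace CfsgLib.SolvSignalizer

universe u

variable {G : Type u} [Group G]

/-- The elements of `N` commuting with `N` modulo `H`. -/
def rad (N H : Subgroup G) : Subgroup G :=
  closure {u | u ∈ N ∧ ∀ v ∈ N, u * v * u⁻¹ * v⁻¹ ∈ H}

/-- The standing hypotheses. -/
structure HData (q r : ℕ) (W N T H : Subgroup G) : Prop where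
  welem : Cfsg.IsElementaryAbelian q W
  w_ne : W ≠ ⊥
  hNW : N ≤ normalizer (W : Set G)
  hrq : r ≠ q
  telem : Cfsg.IsElementaryAbelian r T
  hTN : T ≤ N
  central : T ≤ centralizer (N : Set G)
  hyp : IsHyp r T H
  comm : ∀ u ∈ N, ∀ v ∈ N, u * v * u⁻¹ * v⁻¹ ∈ T
  hHW : H ≤ centralizer (W : Set G)
  fpf : ∀ t ∈ T, t ∉ H → W ⊓ centralizer ({t} : Set G) = ⊥
  rpow : ∀ u ∈ N, ∀ v ∈ N, u ^ r * v * (u ^ r)⁻¹ * v⁻¹ = 1

theorem card_fixed_modEq {G' : Type u} [Group G'] [Finite G'] {s : ℕ} [Fact s.Prime] (σ : MulAut G')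
    (hs : σ ^ s = 1) :
    Nat.card G' ≡ Nat.card {g : G' // σ g = g} [MOD s] := by
  have hp : IsPGroup s (zpowers σ) := fun τ => by
    obtain ⟨i, hi⟩ := mem_zpowers_iff.1 τ.2
    refine ⟨1, Subtype.ext ?_⟩
    rw [pow_one, SubmonoidClass.coe_pow, ← hi, ← zpow_natCast, ← zpow_mul, mul_comm, zpow_mul,
      zpow_natCast, hs, one_zpow, OneMemClass.coe_one]
  have h := hp.card_modEq_card_fixedPoints G'
  have e : MulAction.fixedPoints (zpowers σ) G' = {g : G' | σ g = g} := by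
    ext g
    constructor
    · exact fun hg => hg ⟨σ, mem_zpowers σ⟩
    · intro hg τ
      have hmem : zpowers σ ≤ MulAction.stabilizer (MulAut G') g := zpowers_le.2 hg
      exact hmem τ.2
  rw [e] at h
  exact h

namespace HData

variable [Finite G] {q r : ℕ} [hq : Fact q.Prime] [hr : Fact r.Prime] {W N T H : Subgroup G}
  (d : HData q r W N T H)

include d

theorem H_le_N : H ≤ N := d.hyp.1.trans d.hTN

theorem comm_central {u v : G} (hu : u ∈ N) (hv : v ∈ N) {w : G} (hw : w ∈ N) :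
    Commute (u * v * u⁻¹ * v⁻¹) w :=
  (mem_centralizer_iff.1 (d.central (d.comm u hu v hv)) w hw).symm

theorem comm_mul {a b v : G} (ha : a ∈ N) (hb : b ∈ N) (hv : v ∈ N) :
    a * b * v * (a * b)⁻¹ * v⁻¹ = (a * v * a⁻¹ * v⁻¹) * (b * v * b⁻¹ * v⁻¹) := by
  have hc := d.comm_central hb hv ha
  have hT := comm_of_elem d.telem (d.comm b hb v hv) (d.comm a ha v hv)
  rw [← hT]
  calc a * b * v * (a * b)⁻¹ * v⁻¹ = a * (b * v * b⁻¹ * v⁻¹) * (v * a⁻¹ * v⁻¹) := by group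
    _ = (b * v * b⁻¹ * v⁻¹) * a * (v * a⁻¹ * v⁻¹) := by rw [hc.eq]
    _ = _ := by group

theorem comm_inv {a v : G} (ha : a ∈ N) (hv : v ∈ N) :
    a⁻¹ * v * a⁻¹⁻¹ * v⁻¹ = (a * v * a⁻¹ * v⁻¹)⁻¹ := by
  have h := d.comm_mul (inv_mem ha) ha hv
  rw [inv_mul_cancel] at h
  simp only [one_mul, inv_one, mul_one, mul_inv_cancel] at h
  exact eq_inv_of_mul_eq_one_left h.symm

theorem mem_rad {u : G} : u ∈ rad N H ↔ u ∈ N ∧ ∀ v ∈ N, u * v * u⁻¹ * v⁻¹ ∈ H := by
  refine ⟨fun hu => ?_, fun hu => subset_closure hu⟩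
  induction hu using closure_induction with
  | mem x hx => exact hx
  | one => exact ⟨one_mem _, fun v _ => by simp⟩
  | mul a b _ _ ha hb =>
    exact ⟨mul_mem ha.1 hb.1, fun v hv => d.comm_mul ha.1 hb.1 hv ▸ mul_mem (ha.2 v hv) (hb.2 v hv)⟩
  | inv a _ ha => exact ⟨inv_mem ha.1, fun v hv => d.comm_inv ha.1 hv ▸ inv_mem (ha.2 v hv)⟩

theorem rad_le : rad N H ≤ N := fun _ hu => (d.mem_rad.1 hu).1

theorem T_le_rad : T ≤ rad N H := fun t ht => d.mem_rad.2 ⟨d.hTN ht, fun v hv => by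
  rw [← mem_centralizer_iff.1 (d.central ht) v hv, mul_inv_cancel_right, mul_inv_cancel]
  exact one_mem _⟩

theorem comm_mem_rad {u v : G} (hu : u ∈ N) (hv : v ∈ N) : u * v * u⁻¹ * v⁻¹ ∈ rad N H :=
  d.T_le_rad (d.comm u hu v hv)

theorem pow_mem_rad {u : G} (hu : u ∈ N) : u ^ r ∈ rad N H :=
  d.mem_rad.2 ⟨pow_mem hu r, fun v hv => by rw [d.rpow u hu v hv]; exact one_mem _⟩

theorem rad_normal : ((rad N H).subgroupOf N).Normal := ⟨fun x hx m => by
  rw [mem_subgroupOf] at hx ⊢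
  simpa using mul_mem (d.comm_mem_rad m.2 x.2) hx⟩

theorem comm_swap {u v : G} (hu : u ∈ N) (hv : v ∈ N) :
    u * v * u⁻¹ * v⁻¹ ∈ H ↔ v * u * v⁻¹ * u⁻¹ ∈ H := by
  rw [← inv_mem_iff]
  have e : (u * v * u⁻¹ * v⁻¹)⁻¹ = v * u * v⁻¹ * u⁻¹ := by group
  rw [e]

theorem comm_xor {e f g : G} (he : e ∈ N) (hf : f ∈ N) (hg : g ∈ N) (hr2 : r = 2) :
    f * g * e * (f * g)⁻¹ * e⁻¹ ∈ H ↔ ((f * e * f⁻¹ * e⁻¹ ∈ H) ↔ (g * e * g⁻¹ * e⁻¹ ∈ H)) := by
  rw [d.comm_mul hf hg he]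
  have ha := d.comm f hf e he
  have hb := d.comm g hg e he
  constructor
  · intro h
    exact ⟨fun h' => (Subgroup.mul_mem_cancel_left H h').1 h,
      fun h' => (Subgroup.mul_mem_cancel_right H h').1 h⟩
  · intro h
    by_cases hA : f * e * f⁻¹ * e⁻¹ ∈ H
    · exact mul_mem hA (h.1 hA)
    · have hB : g * e * g⁻¹ * e⁻¹ ∉ H := fun hB => hA (h.2 hB)
      obtain ⟨i, hi⟩ := d.hyp.exists_pow d.telem ha hA hb
      subst hr2
      have hi2 := ZMod.val_lt i
      rcases Nat.lt_or_ge i.val 1 with h0 | h0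
      · rw [Nat.lt_one_iff.1 h0, pow_zero, inv_one, one_mul] at hi
        exact absurd hi hB
      · rw [show i.val = 1 by omega, pow_one] at hi
        have e2 : (f * e * f⁻¹ * e⁻¹)⁻¹ = f * e * f⁻¹ * e⁻¹ :=
          inv_eq_of_mul_eq_one_left (by rw [← pow_two]; exact d.telem.2 _ ha)
        rwa [e2] at hi

theorem exists_noncommuting {k : G} (hk : k ∈ N) (hkr : k ∉ rad N H) :
    ∃ h ∈ N, h * k * h⁻¹ * k⁻¹ ∈ T ∧ h * k * h⁻¹ * k⁻¹ ∉ H := by
  by_contra hc
  push Not at hc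
  exact hkr (d.mem_rad.2 ⟨hk, fun v hv => (d.comm_swap hk hv).2 (hc v hv (d.comm v hv k hk))⟩)

end HData

end CfsgLib.SolvSignalizer
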