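import Cfsg.Agent.Lib.SolvSignalizer.HeisBasic

/-!
# The piece is small when some element with a small commutator space moves `N` modulo the kernel
-/

set_option autoImplicit false
set_option linter.style.haveILetI false
set_option linter.unusedSectionVars false

open Subgroup
open CfsgLib.Coprime (conj_mem_of_le_normalizer)

namespace CfsgLib.SolvSignalizer

universe u

variable {G : Type u} [Group G]

theorem card_inf_centralizer_conj [Finite G] {W : Subgroup G} {g : G}
    (hg : g ∈ normalizer (W : Set G)) (k : G) :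
    Nat.card (W ⊓ centralizer ({g * k * g⁻¹} : Set G) : Subgroup G) =
      Nat.card (W ⊓ centralizer ({k} : Set G) : Subgroup G) := by
  have e : W ⊓ centralizer ({g * k * g⁻¹} : Set G) =
      (W ⊓ centralizer ({k} : Set G)).map (MulAut.conj g).toMonoidHom := by
    ext v
    constructor
    · intro hv
      refine ⟨g⁻¹ * v * g, mem_inf.2 ⟨(mem_normalizer_iff''.1 hg v).1 hv.1,
        mem_centralizer_singleton_iff.2 ?_⟩, by simp [mul_assoc]⟩
      calc g⁻¹ * v * g * k = g⁻¹ * (v * (g * k * g⁻¹)) * g := by group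
        _ = g⁻¹ * ((g * k * g⁻¹) * v) * g := by rw [mem_centralizer_singleton_iff.1 hv.2]
        _ = _ := by group
    · rintro ⟨w, hw, rfl⟩
      refine mem_inf.2 ⟨(mem_normalizer_iff.1 hg w).1 hw.1, mem_centralizer_singleton_iff.2 ?_⟩
      show g * w * g⁻¹ * (g * k * g⁻¹) = g * k * g⁻¹ * (g * w * g⁻¹)
      calc g * w * g⁻¹ * (g * k * g⁻¹) = g * (w * k) * g⁻¹ := by group
        _ = g * (k * w) * g⁻¹ := by rw [mem_centralizer_singleton_iff.1 hw.2]
        _ = _ := by group
  rw [e]
  exact Nat.card_congr ((W ⊓ centralizer ({k} : Set G)).equivMapOfInjective _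
    (MulAut.conj g).injective).toEquiv.symm

/-- The common fixed points of two elements with small commutator spaces. -/
theorem card_le_of_two_small [Finite G] {q L : ℕ} [hq : Fact q.Prime] {W : Subgroup G}
    (hW : Cfsg.IsElementaryAbelian q W) {x c : G} (hx : x ∈ normalizer (W : Set G))
    (hc : c ∈ normalizer (W : Set G)) (h1 : Nat.card (mv W x) ≤ q ^ L)
    (h2 : Nat.card (mv W c) ≤ q ^ L) :
    Nat.card W ≤ q ^ (2 * L) *
      Nat.card (W ⊓ centralizer ({x} : Set G) ⊓ centralizer ({c} : Set G) : Subgroup G) := by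
  set A := W ⊓ centralizer ({x} : Set G) with hA
  set B := W ⊓ centralizer ({c} : Set G) with hB
  have hAB : A ⊓ B = W ⊓ centralizer ({x} : Set G) ⊓ centralizer ({c} : Set G) :=
    le_antisymm (le_inf inf_le_left (inf_le_right.trans inf_le_right))
      (le_inf inf_le_left (le_inf (inf_le_left.trans inf_le_left) inf_le_right))
  have hn : A ≤ normalizer (B : Set G) := fun a ha =>
    CfsgLib.Coprime.centralizer_le_normalizer_self _
      (mem_centralizer_iff.2 fun b hb => comm_of_elem hW hb.1 ha.1)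
  have e1 := CfsgLib.EABasic.card_sup_mul_card_inf_of_le_normalizer hn
  have hle : Nat.card (A ⊔ B : Subgroup G) ≤ Nat.card W := card_le_of_le (sup_le inf_le_left inf_le_left)
  have e : Nat.card W * Nat.card W = (Nat.card (mv W x) * Nat.card (mv W c)) *
      (Nat.card A * Nat.card B) := by
    rw [← mul_mul_mul_comm, card_mv_mul hW hx, card_mv_mul hW hc]
  have h4 : Nat.card W * Nat.card W ≤ q ^ (2 * L) * Nat.card (A ⊓ B : Subgroup G) * Nat.card W := by
    rw [e, two_mul L, pow_add, ← e1, mul_assoc (q ^ L * q ^ L), mul_comm (Nat.card (A ⊓ B : Subgroup G))]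
    exact Nat.mul_le_mul (Nat.mul_le_mul h1 h2) (Nat.mul_le_mul hle le_rfl)
  rw [← hAB]
  exact Nat.le_of_mul_le_mul_right h4 Nat.card_pos

namespace HData

variable [Finite G] {q r : ℕ} [hq : Fact q.Prime] [hr : Fact r.Prime] {W N T H : Subgroup G}
  (d : HData q r W N T H)

include d

theorem exists_dim : ∃ n, Nat.card W = q ^ n :=
  IsPGroup.iff_card.1 (CfsgLib.EABasic.isPGroup_of_isElementaryAbelian d.welem)

theorem card_W_modEq : Nat.card W ≡ 1 [MOD r] := by
  obtain ⟨t, ht, htH⟩ := d.hyp.exists_not_mem d.telem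
  let σ : MulAut W :=
    { toFun := fun w => ⟨t * w * t⁻¹, conj_mem_of_le_normalizer d.hNW (d.hTN ht) w.2⟩
      invFun := fun w => ⟨t⁻¹ * w * t, by
        simpa using conj_mem_of_le_normalizer d.hNW (inv_mem (d.hTN ht)) w.2⟩
      left_inv := fun w => Subtype.ext (by simp [mul_assoc])
      right_inv := fun w => Subtype.ext (by simp [mul_assoc])
      map_mul' := fun a b => Subtype.ext (by simp [mul_assoc]) }
  have hpow : ∀ (n : ℕ) (w : W), ((σ ^ n) w : G) = t ^ n * w * (t ^ n)⁻¹ := by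
    intro n
    induction n with
    | zero => intro w; simp
    | succ n ih =>
      intro w
      rw [pow_succ', MulAut.mul_apply]
      show t * ((σ ^ n) w : G) * t⁻¹ = _
      rw [ih, pow_succ']
      group
  have hs : σ ^ r = 1 := by
    ext w
    rw [hpow, d.telem.2 t ht, MulAut.one_apply]
    simp
  have h := card_fixed_modEq σ hs
  have e : Nat.card {w : W // σ w = w} = 1 := by
    rw [Nat.card_eq_one_iff_unique]
    refine ⟨⟨fun a b => ?_⟩, ⟨⟨1, map_one σ⟩⟩⟩
    have key : ∀ a : {w : W // σ w = w}, (a : W) = 1 := fun a => by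
      have hm : ((a : W) : G) ∈ W ⊓ centralizer ({t} : Set G) :=
        mem_inf.2 ⟨(a : W).2, mem_centralizer_singleton_iff.2
          (mul_inv_eq_iff_eq_mul.1 (congrArg Subtype.val a.2)).symm⟩
      rw [d.fpf t ht htH, mem_bot] at hm
      exact Subtype.ext hm
    exact Subtype.ext ((key a).trans (key b).symm)
  rwa [e] at h

/-- The dimension bounds. -/
theorem dim_le {x : G} (hxW : x ∈ normalizer (W : Set G)) (hxN : x ∈ normalizer (N : Set G))
    (hmoved : ∃ u ∈ N, x * u * x⁻¹ * u⁻¹ ∉ rad N H) {L n : ℕ} (hL : Nat.card (mv W x) ≤ q ^ L)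
    (hn : Nat.card W = q ^ n) : n ≤ 4 * L ∧ (r ≠ 2 → n ≤ 3 * L) := by
  obtain ⟨u, hu, hk⟩ := hmoved
  set k := x * u * x⁻¹ * u⁻¹ with hkdef
  have hkN : k ∈ N := mul_mem ((mem_normalizer_iff.1 hxN u).1 hu) (inv_mem hu)
  obtain ⟨h, hh, hzT, hzH⟩ := d.exists_noncommuting hkN hk
  set z := h * k * h⁻¹ * k⁻¹ with hz
  set C := W ⊓ centralizer ({k} : Set G) with hC
  -- the lower bound on `C`
  set c := u * x * u⁻¹ with hc
  have huW := d.hNW hu
  have hcL : Nat.card (mv W c) ≤ q ^ L := by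
    have k1 := card_mv_mul d.welem hxW
    have k2 := card_mv_mul d.welem (mul_mem (mul_mem huW hxW) (inv_mem huW) : c ∈ normalizer (W : Set G))
    rw [card_inf_centralizer_conj huW, ← k1] at k2
    exact (Nat.eq_of_mul_eq_mul_right Nat.card_pos k2).trans_le hL
  have hlow : Nat.card W ≤ q ^ (2 * L) * Nat.card C := by
    refine (card_le_of_two_small d.welem hxW (mul_mem (mul_mem huW hxW) (inv_mem huW)) hL hcL).trans
      (Nat.mul_le_mul le_rfl (card_le_of_le fun v hv => mem_inf.2 ⟨hv.1.1, mem_centralizer_singleton_iff.2 ?_⟩))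
    have c1 : Commute v x := mem_centralizer_singleton_iff.1 hv.1.2
    have c2 : Commute v c := mem_centralizer_singleton_iff.1 hv.2
    have e : k = x * c⁻¹ := by rw [hkdef, hc]; group
    rw [e]
    exact c1.mul_right c2.inv_right
  obtain ⟨m, hm⟩ := IsPGroup.iff_card.1 ((CfsgLib.EABasic.isPGroup_of_isElementaryAbelian d.welem).to_le
    (inf_le_left : C ≤ W))
  -- the translates
  have hzN : ∀ w ∈ N, Commute z w := fun w hw => (mem_centralizer_iff.1 (d.central hzT) w hw).symm
  have h1 : h * k * h⁻¹ = z * k := by rw [hz]; group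
  have h2 : h * (z * k) * h⁻¹ = z * z * k := by
    calc h * (z * k) * h⁻¹ = z * (h * k * h⁻¹) := by
          simp only [← mul_assoc]; rw [(hzN h hh).eq]
      _ = z * (z * k) := by rw [h1]
      _ = _ := (mul_assoc z z k).symm
  have hzW := d.hNW (d.hTN hzT)
  have hc1 : Nat.card (W ⊓ centralizer ({z * k} : Set G) : Subgroup G) = Nat.card C := by
    rw [← h1]; exact card_inf_centralizer_conj (d.hNW hh) k
  have hd01 : C ⊓ (W ⊓ centralizer ({z * k} : Set G)) = ⊥ := by
    refine le_bot_iff.1 (le_trans ?_ (d.fpf z hzT hzH).le)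
    refine fun v hv => mem_inf.2 ⟨hv.1.1, mem_centralizer_singleton_iff.2 ?_⟩
    have c1 : Commute v k := mem_centralizer_singleton_iff.1 hv.1.2
    have c2 : Commute v (z * k) := mem_centralizer_singleton_iff.1 hv.2.2
    have := c2.mul_right c1.inv_right
    rwa [mul_inv_cancel_right] at this
  have hnorm : ∀ {X Y : Subgroup G}, X ≤ W → Y ≤ W → Y ≤ normalizer (X : Set G) := fun hX hY y hy =>
    CfsgLib.Coprime.centralizer_le_normalizer_self _
      (mem_centralizer_iff.2 fun w hw => comm_of_elem d.welem (hX hw) (hY hy))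
  have hsup : Nat.card (C ⊔ (W ⊓ centralizer ({z * k} : Set G)) : Subgroup G) = q ^ (m + m) := by
    rw [CfsgLib.CFun.ZLen.card_sup_eq (hnorm inf_le_left inf_le_left) hd01, hc1, hm, pow_add]
  rw [hn, hm, ← pow_add] at hlow
  have hlow' : n ≤ 2 * L + m := (Nat.pow_le_pow_iff_right hq.out.one_lt).1 hlow
  have hup : m + m ≤ n := by
    have := card_le_of_le (sup_le inf_le_left inf_le_left : C ⊔ (W ⊓ centralizer ({z * k} : Set G)) ≤ W)
    rw [hsup, hn] at this
    exact (Nat.pow_le_pow_iff_right hq.out.one_lt).1 this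
  refine ⟨by omega, fun hr2 => ?_⟩
  have hz2T : z * z ∈ T := mul_mem hzT hzT
  have hz2H : z * z ∉ H := by
    intro hz2
    apply hzH
    obtain ⟨j, hj⟩ := (hr.out.odd_of_ne_two hr2)
    have e : z = z ^ r * ((z * z) ^ j)⁻¹ := by
      rw [← pow_two, ← pow_mul, hj, pow_succ' z (2 * j), mul_inv_cancel_right]
    rw [e, d.telem.2 z hzT, one_mul]
    exact inv_mem (pow_mem hz2 j)
  have hc2 : Nat.card (W ⊓ centralizer ({z * z * k} : Set G) : Subgroup G) = Nat.card C := by
    rw [← h2, card_inf_centralizer_conj (d.hNW hh), hc1]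
  have hd2 : (C ⊔ (W ⊓ centralizer ({z * k} : Set G))) ⊓ (W ⊓ centralizer ({z * z * k} : Set G)) = ⊥ := by
    refine le_bot_iff.1 fun v hv => ?_
    obtain ⟨a, ha, b, hb, rfl⟩ := CfsgLib.Coprime.mem_sup_exists (hnorm inf_le_left inf_le_left) hv.1
    have hk0 : k * a * k⁻¹ = a := mul_inv_eq_iff_eq_mul.2 (mem_centralizer_singleton_iff.1 ha.2).symm
    have hk1 : k * b * k⁻¹ = z⁻¹ * b * z := by
      have e : z * k * b * (z * k)⁻¹ = b :=
        mul_inv_eq_iff_eq_mul.2 (mem_centralizer_singleton_iff.1 hb.2).symm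
      calc k * b * k⁻¹ = z⁻¹ * (z * k * b * (z * k)⁻¹) * z := by group
        _ = _ := by rw [e]
    have hv2 : z * z * k * (a * b) * (z * z * k)⁻¹ = a * b :=
      mul_inv_eq_iff_eq_mul.2 (mem_centralizer_singleton_iff.1 hv.2.2).symm
    have e : (z * z * a * (z * z)⁻¹) * (z * b * z⁻¹) = a * b := by
      rw [← hv2]
      calc (z * z * a * (z * z)⁻¹) * (z * b * z⁻¹)
          = z * z * (a * (z⁻¹ * b * z)) * (z * z)⁻¹ := by group
        _ = z * z * ((k * a * k⁻¹) * (k * b * k⁻¹)) * (z * z)⁻¹ := by rw [hk0, hk1]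
        _ = _ := by group
    have hzk : Commute z k := hzN k hkN
    have ha' : z * z * a * (z * z)⁻¹ ∈ C := by
      refine mem_inf.2 ⟨(mem_normalizer_iff.1 (mul_mem hzW hzW) a).1 ha.1, mem_centralizer_singleton_iff.2 ?_⟩
      exact (((hzk.mul_left hzk)).mul_left (mem_centralizer_singleton_iff.1 ha.2 : Commute a k)).mul_left
        (hzk.mul_left hzk).inv_left
    have hb' : z * b * z⁻¹ ∈ W ⊓ centralizer ({z * k} : Set G) := by
      refine mem_inf.2 ⟨(mem_normalizer_iff.1 hzW b).1 hb.1, mem_centralizer_singleton_iff.2 ?_⟩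
      have hzzk : Commute z (z * k) := (Commute.refl z).mul_right hzk
      exact (hzzk.mul_left (mem_centralizer_singleton_iff.1 hb.2 : Commute b (z * k))).mul_left hzzk.inv_left
    have hdiff : a⁻¹ * (z * z * a * (z * z)⁻¹) ∈ C ⊓ (W ⊓ centralizer ({z * k} : Set G)) := by
      refine mem_inf.2 ⟨mul_mem (inv_mem ha) ha', ?_⟩
      have e' : a⁻¹ * (z * z * a * (z * z)⁻¹) = b * (z * b * z⁻¹)⁻¹ := by
        rw [eq_mul_inv_iff_mul_eq, mul_assoc, inv_mul_eq_iff_eq_mul]
        exact e
      rw [e']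
      exact mul_mem hb (inv_mem hb')
    rw [hd01, mem_bot, inv_mul_eq_one] at hdiff
    have ha1 : a = 1 := by
      have hm' : a ∈ W ⊓ centralizer ({z * z} : Set G) := mem_inf.2 ⟨ha.1,
        mem_centralizer_singleton_iff.2 (mul_inv_eq_iff_eq_mul.1 hdiff.symm).symm⟩
      rwa [d.fpf _ hz2T hz2H, mem_bot] at hm'
    subst ha1
    simp only [one_mul, mul_one, mul_inv_cancel] at e ⊢
    have hm' : b ∈ W ⊓ centralizer ({z} : Set G) :=
      mem_inf.2 ⟨hb.1, mem_centralizer_singleton_iff.2 (mul_inv_eq_iff_eq_mul.1 e).symm⟩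
    rwa [d.fpf _ hzT hzH] at hm'
  have h3 := card_le_of_le (sup_le (sup_le inf_le_left inf_le_left) inf_le_left :
    (C ⊔ (W ⊓ centralizer ({z * k} : Set G))) ⊔ (W ⊓ centralizer ({z * z * k} : Set G)) ≤ W)
  rw [CfsgLib.CFun.ZLen.card_sup_eq (hnorm (sup_le inf_le_left inf_le_left) inf_le_left) hd2, hsup, hc2,
    hm, hn, ← pow_add] at h3
  have := (Nat.pow_le_pow_iff_right hq.out.one_lt).1 h3
  omega

end HData

end CfsgLib.SolvSignalizer
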