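import Cfsg.Agent.Lib.SolvSignalizer.HeisBounds
import Cfsg.Agent.Lib.SolvSignalizer.EndBound

/-!
# Bounds on the factor group by the kernel
-/

set_option autoImplicit false
set_option linter.style.haveILetI false
set_option linter.unusedSectionVars false

open Subgroup
open CfsgLib.Coprime (conj_mem_of_le_normalizer)

namespace CfsgLib.SolvSignalizer

universe u

variable {G : Type u} [Group G]

/-- Conjugation by a normalising element as an automorphism. -/
def conjAut {N : Subgroup G} {g : G} (h : g ∈ normalizer (N : Set G)) : MulAut N where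
  toFun u := ⟨g * u * g⁻¹, (mem_normalizer_iff.1 h u).1 u.2⟩
  invFun u := ⟨g⁻¹ * u * g, (mem_normalizer_iff''.1 h u).1 u.2⟩
  left_inv u := Subtype.ext (by simp [mul_assoc])
  right_inv u := Subtype.ext (by simp [mul_assoc])
  map_mul' a b := Subtype.ext (by simp [mul_assoc])

/-- The automorphism of `N` modulo `K` induced by an element normalising both. -/
def quotAut {N K : Subgroup G} [(K.subgroupOf N).Normal] {g : G} (h₁ : g ∈ normalizer (N : Set G))
    (h₂ : g ∈ normalizer (K : Set G)) : MulAut (N ⧸ K.subgroupOf N) :=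
  QuotientGroup.congr _ _ (conjAut h₁) (by
    ext u
    constructor
    · rintro ⟨v, hv, rfl⟩
      exact (mem_normalizer_iff.1 h₂ v).1 hv
    · intro hu
      exact ⟨(conjAut h₁).symm u, (mem_normalizer_iff''.1 h₂ u).1 hu, (conjAut h₁).apply_symm_apply u⟩)

theorem quotAut_mk {N K : Subgroup G} [(K.subgroupOf N).Normal] {g : G}
    (h₁ : g ∈ normalizer (N : Set G)) (h₂ : g ∈ normalizer (K : Set G)) (u : N) :
    quotAut h₁ h₂ (QuotientGroup.mk u) =
      QuotientGroup.mk (⟨g * u * g⁻¹, (mem_normalizer_iff.1 h₁ u).1 u.2⟩ : N) := rfl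

theorem quotAut_pow {N K : Subgroup G} [(K.subgroupOf N).Normal] {g : G}
    (h₁ : g ∈ normalizer (N : Set G)) (h₂ : g ∈ normalizer (K : Set G)) :
    ∀ (n : ℕ) (u : N), ((quotAut h₁ h₂ : MulAut (N ⧸ K.subgroupOf N)) ^ n) (QuotientGroup.mk u) =
      QuotientGroup.mk (⟨g ^ n * u * (g ^ n)⁻¹, (mem_normalizer_iff.1 (pow_mem h₁ n) u).1 u.2⟩ : N) := by
  intro n
  induction n with
  | zero => intro u; simp
  | succ n ih =>
    intro u
    rw [pow_succ', MulAut.mul_apply, ih, quotAut_mk]
    exact congrArg QuotientGroup.mk (Subtype.ext (by simp [pow_succ', mul_assoc]))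

theorem mk_eq_mk_iff {N K : Subgroup G} [(K.subgroupOf N).Normal] (a b : N) :
    (QuotientGroup.mk a : N ⧸ K.subgroupOf N) = QuotientGroup.mk b ↔ (a : G) * (b : G)⁻¹ ∈ K := by
  rw [← div_eq_one (b := (QuotientGroup.mk b : N ⧸ K.subgroupOf N)), ← QuotientGroup.mk_div,
    QuotientGroup.eq_one_iff, mem_subgroupOf, Subgroup.coe_div, div_eq_mul_inv]

theorem quotAut_eq_one_iff {N K : Subgroup G} [(K.subgroupOf N).Normal] {g : G}
    (h₁ : g ∈ normalizer (N : Set G)) (h₂ : g ∈ normalizer (K : Set G)) :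
    (quotAut h₁ h₂ : MulAut (N ⧸ K.subgroupOf N)) = 1 ↔ ∀ u ∈ N, g * u * g⁻¹ * u⁻¹ ∈ K := by
  constructor
  · intro h u hu
    have e : quotAut h₁ h₂ (QuotientGroup.mk ⟨u, hu⟩) = (QuotientGroup.mk ⟨u, hu⟩ : N ⧸ K.subgroupOf N) := by
      rw [h]; rfl
    rw [quotAut_mk, mk_eq_mk_iff] at e
    exact e
  · intro h
    refine MulEquiv.ext fun y => ?_
    induction y using QuotientGroup.induction_on with
    | H u =>
      rw [quotAut_mk, MulAut.one_apply, mk_eq_mk_iff]
      exact h u u.2

variable [Finite G] {q r : ℕ} [hq : Fact q.Prime] [hr : Fact r.Prime] {W N T H : Subgroup G}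

/-- The bounds from the endomorphisms. -/
theorem HData.quot_bounds (d : HData q r W N T H) [((rad N H).subgroupOf N).Normal] {n : ℕ}
    (hn : Nat.card W = q ^ n) :
    Nat.card (N ⧸ (rad N H).subgroupOf N) ≤ n * n ∧
      ∀ {x : G} (_ : x ∈ normalizer (W : Set G)) (h₁ : x ∈ normalizer (N : Set G))
        (h₂ : x ∈ normalizer (rad N H : Set G)) {L : ℕ}, Nat.card (mv W x) ≤ q ^ L →
        (quotAut h₁ h₂ : MulAut (N ⧸ (rad N H).subgroupOf N)) ^ q = 1 →
        (quotAut h₁ h₂ : MulAut (N ⧸ (rad N H).subgroupOf N)) ≠ 1 →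
        q * ((n - L) ^ 2 + Nat.card (N ⧸ (rad N H).subgroupOf N)) ≤
          q * (n * n) + (Nat.card (N ⧸ (rad N H).subgroupOf N) +
            (q - 1) * Nat.card {y : N ⧸ (rad N H).subgroupOf N // quotAut h₁ h₂ y = y}) := by
  classical
  letI : CommGroup W := { (inferInstance : Group W) with
    mul_comm := fun a b => Subtype.ext (comm_of_elem d.welem a.2 b.2) }
  have hp0 : ∀ v : Additive W, q • v = 0 := fun v =>
    Additive.toMul.injective (Subtype.ext (by simpa using d.welem.2 _ v.toMul.2))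
  letI : Module (ZMod q) (Additive W) := AddCommGroup.zmodModule (n := q) hp0
  haveI : Nontrivial (Additive W) := (Subgroup.nontrivial_iff_ne_bot W).2 d.w_ne
  let act : normalizer (W : Set G) →* Module.End (ZMod q) (Additive W) :=
    { toFun := fun g => AddMonoidHom.toZModLinearMap q
        { toFun := fun v => Additive.ofMul
            (⟨(g : G) * v.toMul * (g : G)⁻¹, (mem_normalizer_iff.1 g.2 _).1 v.toMul.2⟩ : W)
          map_zero' := by
            show Additive.ofMul _ = Additive.ofMul (1 : W)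
            congr 1
            exact Subtype.ext (by simp)
          map_add' := fun v w => by
            show Additive.ofMul _ = Additive.ofMul (_ * _ : W)
            congr 1
            exact Subtype.ext (by simp [mul_assoc]) }
      map_one' := LinearMap.ext fun v => Additive.toMul.injective (Subtype.ext (by simp))
      map_mul' := fun g h => LinearMap.ext fun v => Additive.toMul.injective (Subtype.ext (by
        simp [mul_assoc])) }
  have hfin : Module.finrank (ZMod q) (Additive W) = n := by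
    haveI : Module.Finite (ZMod q) (Additive W) := Module.Finite.of_finite
    have h := Module.natCard_eq_pow_finrank (K := ZMod q) (V := Additive W)
    rw [Nat.card_zmod, Nat.card_congr (Additive.toMul : Additive W ≃ W), hn] at h
    exact (Nat.pow_right_injective hq.out.two_le h).symm
  have hH : ∀ a : normalizer (W : Set G), (a : G) ∈ H → act a = 1 := fun a ha =>
    LinearMap.ext fun v => Additive.toMul.injective (Subtype.ext (by
      show (a : G) * v.toMul * (a : G)⁻¹ = v.toMul
      rw [← mem_centralizer_iff.1 (d.hHW ha) _ v.toMul.2, mul_inv_cancel_right]))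
  let φ : N →* Module.End (ZMod q) (Additive W) := act.comp (Subgroup.inclusion d.hNW)
  have hker : ∀ a : N, (a : G) ∈ H → φ a = 1 := fun a ha => hH _ ha
  let Q := N ⧸ (rad N H).subgroupOf N
  haveI := Fintype.ofFinite Q
  let t : Q → N := fun y => y.out
  have hcomm : ∀ a b m : N, Commute (φ (a * b * a⁻¹ * b⁻¹)) (φ m) := fun a b m =>
    (show Commute (a * b * a⁻¹ * b⁻¹) m from
      Subtype.ext (d.comm_central a.2 b.2 m.2).eq).map φ
  have hcentral : ∀ a : N, (a : G) ∈ rad N H → ∀ m, Commute (φ a) (φ m) := by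
    intro a ha m
    have h1 : φ (a * m * a⁻¹ * m⁻¹) = 1 := hker _ ((d.mem_rad.1 ha).2 m m.2)
    show φ a * φ m = φ m * φ a
    rw [← map_mul, ← map_mul]
    calc φ (a * m) = φ ((a * m * a⁻¹ * m⁻¹) * (m * a)) := by group
      _ = _ := by rw [map_mul, h1, one_mul]
  have hsep : ∀ i j : Q, i ≠ j → ∃ h : N, ∀ v : Additive W,
      φ (h * t i * h⁻¹ * (t i)⁻¹) v = φ (h * t j * h⁻¹ * (t j)⁻¹) v → v = 0 := by
    intro i j hij
    have hnr : (((t j)⁻¹ * t i : N) : G) ∉ rad N H := by
      intro hm
      apply hij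
      rw [← QuotientGroup.out_eq' i, ← QuotientGroup.out_eq' j]
      exact (QuotientGroup.eq.2 (mem_subgroupOf.2 hm)).symm
    obtain ⟨h, hh, hT, hnH⟩ := d.exists_noncommuting ((t j)⁻¹ * t i).2 hnr
    refine ⟨⟨h, hh⟩, fun v hv => ?_⟩
    set zi := h * (t i : G) * h⁻¹ * (t i : G)⁻¹ with hzi
    set zj := h * (t j : G) * h⁻¹ * (t j : G)⁻¹ with hzj
    have hziT : zi ∈ T := d.comm h hh _ (t i).2
    have hzjT : zj ∈ T := d.comm h hh _ (t j).2
    have hprod : h * (((t j)⁻¹ * t i : N) : G) * h⁻¹ * (((t j)⁻¹ * t i : N) : G)⁻¹ = zj⁻¹ * zi := by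
      have hc : zi * (t j : G)⁻¹ = (t j : G)⁻¹ * zi := d.comm_central hh (t i).2 (inv_mem (t j).2)
      have hc2 : zj⁻¹ * (t j : G)⁻¹ = (t j : G)⁻¹ * zj⁻¹ :=
        (d.comm_central hh (t j).2 (inv_mem (t j).2)).inv_left
      calc h * (((t j)⁻¹ * t i : N) : G) * h⁻¹ * (((t j)⁻¹ * t i : N) : G)⁻¹
          = (t j : G)⁻¹ * zj⁻¹ * zi * (t j : G) := by
            rw [hzi, hzj]; simp only [Subgroup.coe_mul, InvMemClass.coe_inv]; group
        _ = zj⁻¹ * ((t j : G)⁻¹ * zi) * (t j : G) := by rw [← hc2]; group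
        _ = _ := by rw [← hc]; group
    have e1 : zi * v.toMul * zi⁻¹ = zj * v.toMul * zj⁻¹ :=
      congrArg (fun w : Additive W => ((Additive.toMul w : W) : G)) hv
    have hfix : (v.toMul : G) ∈ W ⊓ centralizer ({zj⁻¹ * zi} : Set G) := by
      refine mem_inf.2 ⟨v.toMul.2, mem_centralizer_singleton_iff.2 ?_⟩
      calc (v.toMul : G) * (zj⁻¹ * zi) = zj⁻¹ * (zj * v.toMul * zj⁻¹) * zi := by group
        _ = zj⁻¹ * (zi * v.toMul * zi⁻¹) * zi := by rw [e1]
        _ = _ := by group
    rw [d.fpf _ (mul_mem (inv_mem hzjT) hziT) (hprod ▸ hnH), mem_bot] at hfix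
    exact Additive.toMul.injective (Subtype.ext hfix)
  constructor
  · have := transversal_card_le φ t hcomm hsep
    rwa [hfin, ← Nat.card_eq_fintype_card] at this
  intro x hxW h₁ h₂ L hL hσq hσ1
  set σ : MulAut Q := quotAut h₁ h₂ with hσ
  let X := act ⟨x, hxW⟩
  let X' := act ⟨x, hxW⟩⁻¹
  -- the correction factors
  have hcorr : ∀ i : Q, ∃ s : N, (s : G) ∈ rad N H ∧
      x * (t i : G) * x⁻¹ = (s : G) * (t (σ i) : G) := by
    intro i
    let w : N := ⟨x * (t i : G) * x⁻¹, (mem_normalizer_iff.1 h₁ _).1 (t i).2⟩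
    have e : (QuotientGroup.mk w : Q) = QuotientGroup.mk (t (σ i)) := by
      rw [QuotientGroup.out_eq']
      conv_rhs => rw [← QuotientGroup.out_eq' i]
      rfl
    exact ⟨w * (t (σ i))⁻¹, (mk_eq_mk_iff _ _).1 e, by simp [w]⟩
  choose s hs hse using hcorr
  have hconj : ∀ i : Q, X * φ (t i) * X' = φ (s i) * φ (t (σ i)) := by
    intro i
    show act ⟨x, hxW⟩ * act (Subgroup.inclusion d.hNW (t i)) * act ⟨x, hxW⟩⁻¹ = _
    rw [← map_mul, ← map_mul, ← map_mul φ]
    show _ = act (Subgroup.inclusion d.hNW (s i * t (σ i)))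
    exact congrArg act (Subtype.ext (hse i))
  -- orbits of `σ`
  let κ := Quotient (MulAction.orbitRel (zpowers σ) Q)
  haveI := Fintype.ofFinite κ
  haveI := Fintype.ofFinite (zpowers σ)
  have hord : orderOf σ = q := orderOf_eq_prime hσq hσ1
  have hz : Fintype.card (zpowers σ) = q := by rw [← Nat.card_eq_fintype_card, Nat.card_zpowers, hord]
  have hburn : Fintype.card κ * q =
      Nat.card Q + (q - 1) * Nat.card {y : Q // σ y = y} := by
    have h := MulAction.sum_card_fixedBy_eq_card_orbits_mul_card_group (zpowers σ) Q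
    rw [hz] at h
    show Fintype.card (Quotient (MulAction.orbitRel (zpowers σ) Q)) * q = _
    rw [← h, ← Finset.add_sum_erase _ _ (Finset.mem_univ (1 : zpowers σ))]
    congr 1
    · rw [← Nat.card_eq_fintype_card]
      exact Nat.card_congr (Equiv.subtypeUnivEquiv fun y => one_smul (zpowers σ) y)
    · have hc : ∀ τ ∈ Finset.univ.erase (1 : zpowers σ),
          Fintype.card (MulAction.fixedBy Q τ) = Nat.card {y : Q // σ y = y} := by
        intro τ hτ
        rw [← Nat.card_eq_fintype_card]
        refine Nat.card_congr (Equiv.subtypeEquivRight fun y => ?_)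
        have hτ1 : (τ : MulAut Q) ≠ 1 := fun e => Finset.ne_of_mem_erase hτ (Subtype.ext e)
        have hgen : σ ∈ zpowers (τ : MulAut Q) := by
          have e : zpowers (τ : MulAut Q) = zpowers σ := Subgroup.eq_of_le_of_card_ge
            (zpowers_le.2 τ.2) (by
              rw [Nat.card_zpowers, Nat.card_zpowers, hord]
              refine Nat.le_of_eq (orderOf_eq_prime ?_ hτ1).symm
              obtain ⟨i, hi⟩ := mem_zpowers_iff.1 τ.2
              rw [← hi, ← zpow_natCast, ← zpow_mul, mul_comm, zpow_mul, zpow_natCast, hσq, one_zpow])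
          exact e.ge (mem_zpowers σ)
        constructor
        · intro hy
          exact (zpowers_le.2 (show (τ : MulAut Q) ∈ MulAction.stabilizer (MulAut Q) y from hy)) hgen
        · intro hy
          exact (zpowers_le.2 (show σ ∈ MulAction.stabilizer (MulAut Q) y from hy)) τ.2
      rw [Finset.sum_congr rfl hc, Finset.sum_const, Finset.card_erase_of_mem (Finset.mem_univ _),
        Finset.card_univ, hz, smul_eq_mul]
  have hrep : ∀ i : Q, ∃ (k : κ) (m : ℕ), σ.toEquiv^[m] k.out = i := by
    intro i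
    refine ⟨Quotient.mk'' i, ?_⟩
    have hrel : (Quotient.mk'' i : κ).out ∈ MulAction.orbit (zpowers σ) i :=
      MulAction.orbitRel_apply.1 (Quotient.mk_out' i)
    obtain ⟨τ, hτ⟩ := MulAction.mem_orbit_symm.1 hrel
    obtain ⟨m, hm⟩ := mem_powers_iff_mem_zpowers.2 τ.2
    refine ⟨m, ?_⟩
    have hit : ∀ (j : ℕ) (y : Q), σ.toEquiv^[j] y = (σ ^ j) y := by
      intro j
      induction j with
      | zero => intro y; rfl
      | succ j ih => intro y; rw [Function.iterate_succ_apply', ih, pow_succ', MulAut.mul_apply]; rfl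
    rw [hit]
    change σ ^ m = (τ : MulAut Q) at hm
    rw [hm]
    exact hτ
  have hX : X' * X = 1 := by show act _ * act _ = 1; rw [← map_mul, inv_mul_cancel, map_one]
  have hX' : X * X' = 1 := by show act _ * act _ = 1; rw [← map_mul, mul_inv_cancel, map_one]
  have hb := fixed_end_bound φ t hcomm hsep X X' hX hX' σ.toEquiv (fun i => φ (s i))
    (fun i m => hcentral (s i) (hs i) m) hconj (fun k : κ => k.out) hrep
  rw [hfin] at hb
  have hR : Module.finrank (ZMod q) (LinearMap.range (X - 1)) ≤ L := by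
    haveI : Module.Finite (ZMod q) (Additive W) := Module.Finite.of_finite
    have h := Module.natCard_eq_pow_finrank (K := ZMod q) (V := LinearMap.range (X - 1))
    rw [Nat.card_zmod] at h
    refine (Nat.pow_le_pow_iff_right hq.out.one_lt).1 (h ▸ le_trans ?_ hL)
    refine Nat.card_le_card_of_injective (fun z : LinearMap.range (X - 1) =>
      (⟨((Additive.toMul (z : Additive W) : W) : G), ?_⟩ : mv W x)) ?_
    · obtain ⟨v, hv⟩ := z.2
      rw [← hv]
      show ((Additive.toMul ((X - 1) v) : W) : G) ∈ mv W x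
      rw [LinearMap.sub_apply, toMul_sub, div_eq_mul_inv]
      exact mem_mv (v.toMul).2
    · intro a b e
      exact Subtype.ext (Additive.toMul.injective (Subtype.ext (congrArg Subtype.val e : _)))
  have hmono : (n - L) ^ 2 ≤ (n - Module.finrank (ZMod q) (LinearMap.range (X - 1))) ^ 2 :=
    Nat.pow_le_pow_left (by omega) 2
  rw [← Nat.card_eq_fintype_card] at hb
  have hkey := Nat.mul_le_mul_left q (le_trans (Nat.add_le_add_right hmono _) hb)
  rw [mul_add q (n * n), mul_comm q (Fintype.card κ), hburn] at hkey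
  exact hkey

end CfsgLib.SolvSignalizer
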