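import Cfsg.Agent.Lib.SolvSignalizer.HeisBasic

/-!
# The factor group by the kernel has even rank
-/

set_option autoImplicit false
set_option linter.style.haveILetI false
set_option linter.unusedSectionVars false

open Subgroup

namespace CfsgLib.SolvSignalizer

universe u

variable {G : Type u} [Group G] [Finite G] {q r : ℕ} [hq : Fact q.Prime] [hr : Fact r.Prime]
  {W N T H : Subgroup G} (d : HData q r W N T H)

include d

theorem HData.le_normalizer_of_rad_le {S : Subgroup G} (h1 : rad N H ≤ S) (h2 : S ≤ N) :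
    N ≤ normalizer (S : Set G) := by
  have key : ∀ a ∈ N, ∀ u ∈ S, a * u * a⁻¹ ∈ S := fun a ha u hu => by
    have := mul_mem (h1 (d.comm_mem_rad ha (h2 hu))) hu
    simpa using this
  intro a ha
  rw [mem_normalizer_iff]
  refine fun u => ⟨key a ha u, fun hu => ?_⟩
  have := key a⁻¹ (inv_mem ha) _ hu
  simpa [mul_assoc] using this

theorem HData.card_sup_zpowers_mod {S : Subgroup G} (h1 : rad N H ≤ S) (h2 : S ≤ N) {e : G}
    (he : e ∈ N) (heS : e ∉ S) : Nat.card (S ⊔ zpowers e : Subgroup G) = r * Nat.card S := by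
  have hn : zpowers e ≤ normalizer (S : Set G) :=
    zpowers_le.2 (d.le_normalizer_of_rad_le h1 h2 he)
  let F : Fin r × S → (S ⊔ zpowers e : Subgroup G) := fun is =>
    ⟨(is.2 : G) * e ^ (is.1 : ℕ), mul_mem (mem_sup_left is.2.2)
      (mem_sup_right (pow_mem (mem_zpowers e) _))⟩
  have hinj : Function.Injective F := by
    rintro ⟨i, s⟩ ⟨j, t⟩ h
    have h' : (s : G) * e ^ (i : ℕ) = (t : G) * e ^ (j : ℕ) := congrArg Subtype.val h
    have hij : i = j := by
      by_contra hne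
      wlog hle : (i : ℕ) ≤ j generalizing i j s t
      · exact this j t i s h.symm h'.symm (Ne.symm hne) (le_of_not_ge hle)
      have hpos : ¬ r ∣ (j : ℕ) - i := fun hd => by
        have := Nat.eq_zero_of_dvd_of_lt hd (by omega)
        exact hne (Fin.ext (by omega))
      have hd : e ^ ((j : ℕ) - i) ∈ S := by
        have e1 : e ^ ((j : ℕ) - i) = (t : G)⁻¹ * s := by
          rw [← pow_mul_pow_sub e hle, (Commute.pow_pow_self e _ _).eq, ← mul_assoc] at h'
          rw [mul_right_cancel h', inv_mul_cancel_left]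
        rw [e1]; exact mul_mem (inv_mem t.2) s.2
      obtain ⟨a, ha⟩ := Nat.exists_mul_mod_eq_one_of_coprime
        ((hr.out.coprime_iff_not_dvd.2 hpos).symm) hr.out.one_lt
      have h4 := pow_mem hd a
      rw [← pow_mul, ← Nat.mod_add_div (((j : ℕ) - i) * a) r, ha.2, pow_add, pow_one, pow_mul] at h4
      exact heS ((mul_mem_cancel_right (pow_mem (h1 (d.pow_mem_rad he)) _)).1 h4)
    subst hij
    exact Prod.ext rfl (Subtype.ext (mul_right_cancel h'))
  have hsurj : Function.Surjective F := by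
    rintro ⟨z, hz⟩
    obtain ⟨s, hs, w, hw, rfl⟩ := CfsgLib.Coprime.mem_sup_exists hn hz
    obtain ⟨n, rfl⟩ := mem_powers_iff_mem_zpowers.2 hw
    refine ⟨(⟨n % r, Nat.mod_lt _ hr.out.pos⟩,
      ⟨s * (e ^ r) ^ (n / r), mul_mem hs (pow_mem (h1 (d.pow_mem_rad he)) _)⟩), Subtype.ext ?_⟩
    show s * (e ^ r) ^ (n / r) * e ^ (n % r) = s * e ^ n
    rw [mul_assoc, ← pow_mul, ← pow_add, Nat.div_add_mod]
  rw [← Nat.card_eq_of_bijective F ⟨hinj, hsurj⟩, Nat.card_prod, Nat.card_fin]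

theorem HData.even_rank : ∀ (k : ℕ) (S : Subgroup G), rad N H ≤ S → S ≤ N →
    (∀ u ∈ S, (∀ v ∈ S, u * v * u⁻¹ * v⁻¹ ∈ H) → u ∈ rad N H) →
    Nat.card S = r ^ k * Nat.card (rad N H) → Even k := by
  intro k
  induction k using Nat.strong_induction_on with
  | _ k ih =>
  intro S h1 h2 hnd hk
  by_cases hS : S ≤ rad N H
  · rw [le_antisymm hS h1, eq_comm, mul_eq_right₀ Nat.card_pos.ne'] at hk
    rcases Nat.eq_zero_or_pos k with h0 | h0
    · rw [h0]; exact ⟨0, rfl⟩
    · exact absurd hk (Nat.one_lt_pow h0.ne' hr.out.one_lt).ne'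
  obtain ⟨e, he, her⟩ := Set.not_subset.1 hS
  obtain ⟨f, hf, hef⟩ : ∃ f ∈ S, e * f * e⁻¹ * f⁻¹ ∉ H := by
    by_contra hc
    push Not at hc
    exact her (hnd e he hc)
  have heN := h2 he
  have hfN := h2 hf
  -- the part orthogonal to both
  let C : Subgroup G :=
    { carrier := {g | g ∈ S ∧ g * e * g⁻¹ * e⁻¹ ∈ H ∧ g * f * g⁻¹ * f⁻¹ ∈ H}
      one_mem' := ⟨one_mem _, by simp, by simp⟩
      mul_mem' := fun {a b} ha hb => ⟨mul_mem ha.1 hb.1,
        d.comm_mul (h2 ha.1) (h2 hb.1) heN ▸ mul_mem ha.2.1 hb.2.1,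
        d.comm_mul (h2 ha.1) (h2 hb.1) hfN ▸ mul_mem ha.2.2 hb.2.2⟩
      inv_mem' := fun {a} ha => ⟨inv_mem ha.1,
        d.comm_inv (h2 ha.1) heN ▸ inv_mem ha.2.1, d.comm_inv (h2 ha.1) hfN ▸ inv_mem ha.2.2⟩ }
  have hCS : C ≤ S := fun g hg => hg.1
  have hCr : rad N H ≤ C := fun g hg =>
    ⟨h1 hg, (d.mem_rad.1 hg).2 e heN, (d.mem_rad.1 hg).2 f hfN⟩
  have heC : e ∉ C := fun h => hef h.2.2
  have hfe : f * e * f⁻¹ * e⁻¹ ∉ H := fun h => hef ((d.comm_swap hfN heN).1 h)
  have hCe : C ⊔ zpowers e ≤ N := sup_le (hCS.trans h2) (zpowers_le.2 heN)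
  have hfC : f ∉ C ⊔ zpowers e := by
    intro hmem
    -- everything there is orthogonal to `e`
    apply hfe
    let E : Subgroup G :=
      { carrier := {g | g ∈ N ∧ g * e * g⁻¹ * e⁻¹ ∈ H}
        one_mem' := ⟨one_mem _, by simp⟩
        mul_mem' := fun {a b} ha hb => ⟨mul_mem ha.1 hb.1, d.comm_mul ha.1 hb.1 heN ▸ mul_mem ha.2 hb.2⟩
        inv_mem' := fun {a} ha => ⟨inv_mem ha.1, d.comm_inv ha.1 heN ▸ inv_mem ha.2⟩ }
    have hle : C ⊔ zpowers e ≤ E := sup_le (fun g hg => ⟨h2 hg.1, hg.2.1⟩)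
      (zpowers_le.2 ⟨heN, by simp⟩)
    exact (hle hmem).2
  have c1 := d.card_sup_zpowers_mod hCr (hCS.trans h2) heN heC
  have c2 := d.card_sup_zpowers_mod (hCr.trans le_sup_left) hCe hfN hfC
  have hgen : C ⊔ zpowers e ⊔ zpowers f = S := by
    refine le_antisymm (sup_le (sup_le hCS (zpowers_le.2 he)) (zpowers_le.2 hf)) fun g hg => ?_
    have hgN := h2 hg
    -- clear the two products
    obtain ⟨i, hi⟩ := d.hyp.exists_pow d.telem (d.comm f hfN e heN) hfe (d.comm g hgN e heN)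
    obtain ⟨j, hj⟩ := d.hyp.exists_pow d.telem (d.comm e heN f hfN) hef (d.comm g hgN f hfN)
    have hpow : ∀ (a b : G), a ∈ N → b ∈ N → ∀ n : ℕ,
        a ^ n * b * (a ^ n)⁻¹ * b⁻¹ = (a * b * a⁻¹ * b⁻¹) ^ n := by
      intro a b ha hb n
      induction n with
      | zero => simp
      | succ n ihn => rw [pow_succ' a, d.comm_mul ha (pow_mem ha n) hb, ihn, ← pow_succ']
    set g' := (e ^ j.val)⁻¹ * (f ^ i.val)⁻¹ * g with hg'
    have hfi := pow_mem hfN i.val
    have hej := pow_mem heN j.val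
    have hmemC : g' ∈ C := by
      refine ⟨mul_mem (mul_mem (inv_mem (pow_mem he _)) (inv_mem (pow_mem hf _))) hg, ?_, ?_⟩
      · rw [hg', d.comm_mul (mul_mem (inv_mem hej) (inv_mem hfi)) hgN heN,
          d.comm_mul (inv_mem hej) (inv_mem hfi) heN, d.comm_inv hej heN, d.comm_inv hfi heN,
          hpow f e hfN heN, hpow e e heN heN]
        simpa using hi
      · rw [hg', d.comm_mul (mul_mem (inv_mem hej) (inv_mem hfi)) hgN hfN,
          d.comm_mul (inv_mem hej) (inv_mem hfi) hfN, d.comm_inv hej hfN, d.comm_inv hfi hfN,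
          hpow f f hfN hfN, hpow e f heN hfN]
        simpa using hj
    have e1 : g = f ^ i.val * (e ^ j.val * g') := by rw [hg']; group
    rw [e1]
    exact mul_mem (mem_sup_right (pow_mem (mem_zpowers f) _))
      (mem_sup_left (mul_mem (mem_sup_right (pow_mem (mem_zpowers e) _)) (mem_sup_left hmemC)))
  rw [hgen, c1, hk] at c2
  rcases k with - | - | k
  · rw [pow_zero, one_mul] at c2
    have := card_le_of_le hCr
    have h2' := hr.out.two_le
    have h3 := Nat.mul_le_mul_right (Nat.card C) h2'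
    have h4 := Nat.mul_le_mul_left r h3
    have h5 := Nat.card_pos (α := C)
    nlinarith
  · rw [pow_one] at c2
    have := card_le_of_le hCr
    have h2' := hr.out.two_le
    have h3 := Nat.mul_le_mul_right (Nat.card C) h2'
    have h4 := Nat.mul_le_mul_left r h3
    have h5 := Nat.card_pos (α := C)
    nlinarith
  have hC : Nat.card C = r ^ k * Nat.card (rad N H) := by
    rw [pow_succ', pow_succ'] at c2
    have e1 : r * (r * Nat.card C) = r * (r * (r ^ k * Nat.card (rad N H))) := by rw [← c2]; ring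
    exact Nat.eq_of_mul_eq_mul_left hr.out.pos (Nat.eq_of_mul_eq_mul_left hr.out.pos e1)
  have hev := ih k (by omega) C hCr (hCS.trans h2) (fun u hu hall => hnd u hu.1 fun v hv => ?_) hC
  · obtain ⟨j, hj⟩ := hev
    exact ⟨j + 1, by omega⟩
  · -- `v` is a product from `C`, `e` and `f`
    let D : Subgroup G :=
      { carrier := {g | g ∈ N ∧ g * u * g⁻¹ * u⁻¹ ∈ H}
        one_mem' := ⟨one_mem _, by simp⟩
        mul_mem' := fun {a b} ha hb =>
          ⟨mul_mem ha.1 hb.1, d.comm_mul ha.1 hb.1 (h2 hu.1) ▸ mul_mem ha.2 hb.2⟩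
        inv_mem' := fun {a} ha => ⟨inv_mem ha.1, d.comm_inv ha.1 (h2 hu.1) ▸ inv_mem ha.2⟩ }
    have hle : C ⊔ zpowers e ⊔ zpowers f ≤ D :=
      sup_le (sup_le (fun g hg => ⟨h2 hg.1, (d.comm_swap (h2 hu.1) (h2 hg.1)).1 (hall g hg)⟩)
        (zpowers_le.2 ⟨heN, (d.comm_swap (h2 hu.1) heN).1 hu.2.1⟩))
        (zpowers_le.2 ⟨hfN, (d.comm_swap (h2 hu.1) hfN).1 hu.2.2⟩)
    exact (d.comm_swap (h2 hu.1) (h2 hv)).2 (hle (hgen.ge hv)).2

/-- The rank of `N` modulo the kernel is even. -/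
theorem HData.even_quotient [((rad N H).subgroupOf N).Normal] {k : ℕ}
    (hk : Nat.card (N ⧸ (rad N H).subgroupOf N) = r ^ k) : Even k :=
  d.even_rank k N d.rad_le le_rfl (fun _ hu h => d.mem_rad.2 ⟨hu, h⟩) (by
    rw [← hk, card_eq_card_quotient_mul_card_subgroup ((rad N H).subgroupOf N),
      Nat.card_congr (subgroupOfEquivOfLe d.rad_le).toEquiv])

end CfsgLib.SolvSignalizer
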