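import Cfsg.Agent.Lib.SolvSignalizer.Act
import Cfsg.Agent.Lib.Coprime.PGroupFrattini
import Cfsg.Agent.Lib.PGroup.PqCore
import Cfsg.Agent.Lib.LocalStructure.FStar

/-!
# A minimal group moved by a `q`-group commuting with the fixed points of `A`

`N` is a nilpotent group on the elementary `q`-group `V`, `A` is an abelian `p`-group, and the
`q`-group `R` centralises `C_N(A)`.
-/

set_option autoImplicit false
set_option linter.style.haveILetI false
set_option linter.unusedSectionVars false

open Subgroup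
open CfsgLib.Coprime (conj_mem_of_le_normalizer)

namespace CfsgLib.SolvSignalizer

universe u

variable {G : Type u} [Group G]

/-- The standing hypotheses on an operator configuration. -/
structure SData (p q : ℕ) (V A N R : Subgroup G) : Prop where
  velem : Cfsg.IsElementaryAbelian q V
  hAV : A ≤ normalizer (V : Set G)
  hNV : N ≤ normalizer (V : Set G)
  hRV : R ≤ normalizer (V : Set G)
  faith : N ⊓ centralizer (V : Set G) = ⊥
  hAN : A ≤ normalizer (N : Set G)
  hRN : R ≤ normalizer (N : Set G)
  hAR : A ≤ normalizer (R : Set G)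
  pA : IsPGroup p A
  commA : ∀ a ∈ A, ∀ b ∈ A, a * b = b * a
  qR : IsPGroup q R
  nilN : Group.IsNilpotent N
  pN : ¬ p ∣ Nat.card N
  qN : ¬ q ∣ Nat.card N
  hpq : p ≠ q
  fix : N ⊓ centralizer (A : Set G) ≤ centralizer (R : Set G)

/-- A configuration in which `R` moves `N` but no proper invariant subgroup of it. -/
structure SMin (p q r : ℕ) (V A N R : Subgroup G) : Prop extends SData p q V A N R where
  rN : IsPGroup r N
  moved : ¬ R ≤ centralizer (N : Set G)
  minimal : ∀ M : Subgroup G, M ≤ N → A ≤ normalizer (M : Set G) → R ≤ normalizer (M : Set G) →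
    M ≠ N → R ≤ centralizer (M : Set G)

theorem SData.coprimeA [Finite G] {p q : ℕ} [hp : Fact p.Prime] {V A N R : Subgroup G}
    (h : SData p q V A N R) : (Nat.card A).Coprime (Nat.card N) := by
  obtain ⟨n, hn⟩ := IsPGroup.iff_card.1 h.pA
  rw [hn]
  exact (hp.out.coprime_iff_not_dvd.2 h.pN).pow_left n

theorem SData.coprimeR [Finite G] {p q : ℕ} [hq : Fact q.Prime] {V A N R : Subgroup G}
    (h : SData p q V A N R) : (Nat.card R).Coprime (Nat.card N) := by
  obtain ⟨n, hn⟩ := IsPGroup.iff_card.1 h.qR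
  rw [hn]
  exact (hq.out.coprime_iff_not_dvd.2 h.qN).pow_left n

namespace SMin

variable [Finite G] {p q r : ℕ} [hp : Fact p.Prime] [hq : Fact q.Prime] {V A N R : Subgroup G}
  (h : SMin p q r V A N R)

/-- The part of `N` centralised by `R`. -/
def phi (_ : SMin p q r V A N R) : Subgroup G := N ⊓ centralizer (R : Set G)

include h

theorem solvN : Group.IsSolvable N := CfsgLib.Coprime.isSolvable_of_isNilpotent h.nilN

theorem norm_centR : A ≤ normalizer (centralizer (R : Set G) : Set G) :=
  h.hAR.trans (CfsgLib.Coprime.normalizer_le_normalizer_centralizer R)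

theorem A_le_phi : A ≤ normalizer (h.phi : Set G) :=
  CfsgLib.Coprime.inf_le_normalizer h.hAN h.norm_centR

theorem le_phi {M : Subgroup G} (hM : M ≤ N) (hA : A ≤ normalizer (M : Set G))
    (hR : R ≤ normalizer (M : Set G)) (hne : M ≠ N) : M ≤ h.phi :=
  le_inf hM (le_centralizer_iff.1 (h.minimal M hM hA hR hne))

theorem commutator_le_phi : ⁅N, N⁆ ≤ h.phi := by
  refine h.le_phi (commutator_le_self N) ?_ ?_ fun e => h.moved ?_
  · exact fun a ha => mem_normalizer_commutator (h.hAN ha)
  · exact fun a ha => mem_normalizer_commutator (h.hRN ha)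
  · haveI := h.solvN
    have hN : N = ⊥ := by
      by_contra hb
      haveI : Nontrivial N := (Subgroup.nontrivial_iff_ne_bot N).2 hb
      refine (Group.IsSolvable.commutator_lt_top_of_nontrivial N).ne ?_
      apply map_injective N.subtype_injective
      rw [_root_.commutator_def, map_commutator, ← MonoidHom.range_eq_map, range_subtype, e]
    rw [hN, le_centralizer_iff]
    exact bot_le
where
  mem_normalizer_commutator {a : G} (ha : a ∈ normalizer (N : Set G)) :
      a ∈ normalizer ((⁅N, N⁆ : Subgroup G) : Set G) := by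
    have e : N.map (MulAut.conj a).toMonoidHom = N := by
      ext x
      constructor
      · rintro ⟨y, hy, rfl⟩
        exact (mem_normalizer_iff.1 ha y).1 hy
      · intro hx
        refine ⟨a⁻¹ * x * a, (mem_normalizer_iff''.1 ha x).1 hx, ?_⟩
        simp [mul_assoc]
    rw [mem_normalizer_iff]
    intro x
    conv_rhs => rw [← e, ← map_commutator]
    exact (Subgroup.mem_map_iff_mem (MulAut.conj a).injective).symm

theorem comm_mem_phi {a b : G} (ha : a ∈ N) (hb : b ∈ N) : a * b * a⁻¹ * b⁻¹ ∈ h.phi :=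
  h.commutator_le_phi (by simpa [commutatorElement_def] using commutator_mem_commutator ha hb)

theorem phi_normal : N ≤ normalizer (h.phi : Set G) := by
  have key : ∀ a ∈ N, ∀ x ∈ h.phi, a * x * a⁻¹ ∈ h.phi := fun a ha x hx => by
    have := mul_mem (h.comm_mem_phi ha hx.1) hx
    simpa [mul_assoc] using this
  intro a ha
  rw [mem_normalizer_iff]
  refine fun x => ⟨key a ha x, fun hx => ?_⟩
  have := key a⁻¹ (inv_mem ha) _ hx
  simpa [mul_assoc] using this

theorem commutator_R : ⁅N, R⁆ = N := by
  have hle : ⁅N, R⁆ ≤ N := by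
    rw [commutator_le]
    intro n hn t ht
    rw [commutatorElement_def, mul_assoc n t n⁻¹, mul_assoc n]
    exact mul_mem hn (conj_mem_of_le_normalizer h.hRN ht (inv_mem hn))
  by_contra hne
  have hnorm : ∀ {g : G}, g ∈ normalizer (N : Set G) → g ∈ normalizer (R : Set G) →
      g ∈ normalizer ((⁅N, R⁆ : Subgroup G) : Set G) := by
    intro g h1 h2
    have e : ∀ {K : Subgroup G}, g ∈ normalizer (K : Set G) →
        K.map (MulAut.conj g).toMonoidHom = K := by
      intro K hK
      ext x
      constructor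
      · rintro ⟨y, hy, rfl⟩
        exact (mem_normalizer_iff.1 hK y).1 hy
      · intro hx
        refine ⟨g⁻¹ * x * g, (mem_normalizer_iff''.1 hK x).1 hx, ?_⟩
        simp [mul_assoc]
    rw [mem_normalizer_iff]
    intro x
    conv_rhs => rw [← e h1, ← e h2, ← map_commutator]
    exact (Subgroup.mem_map_iff_mem (MulAut.conj g).injective).symm
  have h1 := h.minimal _ hle (fun a ha => hnorm (h.hAN ha) (h.hAR ha))
    (fun t ht => hnorm (h.hRN ht) (le_normalizer ht)) hne
  exact h.moved (CfsgLib.Coprime.le_centralizer_of_le_centralizer_commutator h.hRN h.coprimeR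
    (Or.inr h.solvN) h1)

theorem phi_central : h.phi ≤ centralizer (N : Set G) := by
  have h1 : ⁅⁅R, h.phi⁆, N⁆ = ⊥ := by
    rw [show ⁅R, h.phi⁆ = ⊥ from commutator_eq_bot_iff_le_centralizer.2
      (le_centralizer_iff.1 (inf_le_right : N ⊓ centralizer (R : Set G) ≤ _)),
      commutator_bot_left]
  have h2 : ⁅⁅h.phi, N⁆, R⁆ = ⊥ := by
    rw [commutator_eq_bot_iff_le_centralizer]
    exact ((commutator_mono inf_le_left le_rfl).trans h.commutator_le_phi).trans inf_le_right
  have h3 : ⁅⁅N, R⁆, h.phi⁆ = ⊥ := commutator_commutator_eq_bot_of_rotate h1 h2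
  rw [h.commutator_R, commutator_eq_bot_iff_le_centralizer] at h3
  exact le_centralizer_iff.1 h3

theorem pow_mem_phi [hr : Fact r.Prime] {n : G} (hn : n ∈ N) : n ^ r ∈ h.phi := by
  have hchar : ∀ g ∈ normalizer (N : Set G),
      g ∈ normalizer (((frattini N).map N.subtype : Subgroup G) : Set G) := by
    intro g hg
    exact CfsgLib.LS.normalizer_le_normalizer_map_char (frattini N) hg
  have hne : (frattini N).map N.subtype ≠ N := by
    refine (CfsgLib.PGroup.frattini_map_lt fun e => h.moved ?_).ne
    rw [e, le_centralizer_iff]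
    exact bot_le
  refine h.le_phi (map_subtype_le _) (fun a ha => hchar a (h.hAN ha))
    (fun a ha => hchar a (h.hRN ha)) hne ?_
  exact ⟨⟨n, hn⟩ ^ r, CfsgLib.Coprime.pow_mem_frattini h.rN _, rfl⟩

/-- Only the elements of `phi` are fixed by `A` modulo `phi`. -/
theorem mem_phi_of_fixed {n : G} (hn : n ∈ N) (hfix : ∀ a ∈ A, a * n * a⁻¹ * n⁻¹ ∈ h.phi) :
    n ∈ h.phi := by
  obtain ⟨m, hm, hc⟩ := CfsgLib.Coprime.exists_fixed_in_coset h.A_le_phi
    (h.coprimeA.coprime_dvd_right (card_dvd_of_le inf_le_left))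
    (Or.inl (CfsgLib.Coprime.isSolvable_of_isMulCommutative
      ⟨⟨fun a b => Subtype.ext (h.commA a a.2 b b.2)⟩⟩)) (h.phi_normal hn) hfix
  have h2 : n * m ∈ h.phi := mem_inf.2 ⟨mul_mem hn hm.1, h.fix (mem_inf.2 ⟨mul_mem hn hm.1, hc⟩)⟩
  simpa using mul_mem h2 (inv_mem hm)

end SMin

end CfsgLib.SolvSignalizer
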