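import Cfsg.Agent.Lib.SolvSignalizer.Minimal
import Mathlib.GroupTheory.GroupAction.Basic

/-!
# The product over the orbit

In a minimal configuration no element of `N` can be fixed modulo `K` by the stabiliser of `K` while
lying in all other translates of `K`.
-/

set_option autoImplicit false
set_option linter.style.haveILetI false
set_option linter.unusedSectionVars false

open Subgroup

namespace CfsgLib.SolvSignalizer

universe u

variable {G : Type u} [Group G]

namespace SMin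

variable [Finite G] {p q r : ℕ} [hp : Fact p.Prime] [hq : Fact q.Prime] [hr : Fact r.Prime]
  {V A N R : Subgroup G} (h : SMin p q r V A N R)

include h

theorem N_ne_bot : N ≠ ⊥ := fun e => h.moved (by rw [e, le_centralizer_iff]; exact bot_le)

theorem r_dvd : r ∣ Nat.card N := by
  haveI : Nontrivial N := (Subgroup.nontrivial_iff_ne_bot N).2 h.N_ne_bot
  obtain ⟨n, hn, e⟩ := h.rN.nontrivial_iff_card.1 inferInstance
  exact e ▸ dvd_pow_self r hn.ne'

theorem r_ne_p : r ≠ p := fun e => h.pN (e ▸ h.r_dvd)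

theorem r_ne_q : r ≠ q := fun e => h.qN (e ▸ h.r_dvd)

theorem orbit_contra {K : Subgroup G} (hΦK : h.phi ≤ K) {g : G} (hg : g ∈ N) (hgK : g ∉ K)
    (hfix : ∀ a ∈ A, a ∈ normalizer (K : Set G) → a * g * a⁻¹ * g⁻¹ ∈ K)
    (hother : ∀ a ∈ A, a ∉ normalizer (K : Set G) → a * g * a⁻¹ ∈ K) : False := by
  classical
  haveI := Fintype.ofFinite A
  let F : Subgroup N := h.phi.subgroupOf N
  have hcomm : ∀ a b : N, ((b * a)⁻¹ * (a * b) : N) ∈ F := fun a b => by
    rw [mem_subgroupOf]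
    have := h.comm_mem_phi (inv_mem a.2) (inv_mem b.2)
    simpa [mul_assoc] using this
  haveI : F.Normal := (normal_subgroupOf_iff_le_normalizer (inf_le_left : h.phi ≤ N)).2 h.phi_normal
  letI : CommGroup (N ⧸ F) :=
    { (inferInstance : Group (N ⧸ F)) with
      mul_comm := fun x y => QuotientGroup.induction_on x fun a => QuotientGroup.induction_on y fun b =>
        (QuotientGroup.eq.2 (hcomm a b)).symm }
  let σ : A → N →* N := fun a =>
    { toFun := fun x => ⟨(a : G) * x * (a : G)⁻¹, CfsgLib.Coprime.conj_mem_of_le_normalizer h.hAN a.2 x.2⟩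
      map_one' := Subtype.ext (by simp)
      map_mul' := fun x y => Subtype.ext (by simp [mul_assoc]) }
  have hσF : ∀ a : A, F ≤ F.comap (σ a) := fun a x hx =>
    CfsgLib.Coprime.conj_mem_of_le_normalizer h.A_le_phi a.2 hx
  let P : N ⧸ F := ∏ a : A, (QuotientGroup.mk (σ a ⟨g, hg⟩) : N ⧸ F)
  have hPfix : ∀ b : A, QuotientGroup.map F F (σ b) (hσF b) P = P := by
    intro b
    show QuotientGroup.map F F (σ b) (hσF b) (∏ a : A, _) = ∏ a : A, _
    rw [map_prod]
    refine Fintype.prod_equiv (Equiv.mulLeft b) _ _ fun a => ?_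
    show (QuotientGroup.mk (σ b (σ a ⟨g, hg⟩)) : N ⧸ F) = QuotientGroup.mk (σ (b * a) ⟨g, hg⟩)
    congr 1
    exact Subtype.ext (by simp [σ, mul_assoc])
  obtain ⟨n, hn⟩ := QuotientGroup.mk_surjective P
  have hnΦ : (n : G) ∈ h.phi := by
    refine h.mem_phi_of_fixed n.2 fun a ha => ?_
    have e := hPfix ⟨a, ha⟩
    rw [← hn] at e
    change (QuotientGroup.mk (σ ⟨a, ha⟩ n) : N ⧸ F) = QuotientGroup.mk n at e
    rw [QuotientGroup.eq, mem_subgroupOf] at e
    have := inv_mem (CfsgLib.Coprime.conj_mem_of_le_normalizer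
      (le_of_le_of_eq h.phi_normal rfl) (σ ⟨a, ha⟩ n).2 e)
    simpa [σ, mul_assoc] using this
  -- project to `N ⧸ K`
  let L : Subgroup N := K.subgroupOf N
  have hFL : F ≤ L := fun x hx => hΦK hx
  haveI : L.Normal := ⟨fun x hx m => by
    have h1 : (m * x * m⁻¹ * x⁻¹ : N) ∈ L := hΦK (h.comm_mem_phi m.2 x.2)
    simpa using mul_mem h1 hx⟩
  letI : CommGroup (N ⧸ L) :=
    { (inferInstance : Group (N ⧸ L)) with
      mul_comm := fun x y => QuotientGroup.induction_on x fun a => QuotientGroup.induction_on y fun b =>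
        (QuotientGroup.eq.2 (hFL (hcomm a b))).symm }
  let ψ : N ⧸ F →* N ⧸ L := QuotientGroup.map F L (MonoidHom.id N) hFL
  let B : A → Prop := fun a => (a : G) ∈ normalizer (K : Set G)
  have hterm : ∀ a : A, ψ (QuotientGroup.mk (σ a ⟨g, hg⟩)) =
      ψ (if B a then QuotientGroup.mk ⟨g, hg⟩ else 1) := by
    intro a
    split_ifs with hB
    · show (QuotientGroup.mk (σ a ⟨g, hg⟩) : N ⧸ L) = QuotientGroup.mk _
      rw [QuotientGroup.eq, mem_subgroupOf]
      show (((σ a ⟨g, hg⟩)⁻¹ * ⟨g, hg⟩ : N) : G) ∈ K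
      have e : (σ a ⟨g, hg⟩)⁻¹ * ⟨g, hg⟩ =
          (σ a ⟨g, hg⟩)⁻¹ * ((σ a ⟨g, hg⟩ * ⟨g, hg⟩⁻¹))⁻¹ * σ a ⟨g, hg⟩ := by group
      rw [e]
      have h1 : ((σ a ⟨g, hg⟩ * (⟨g, hg⟩ : N)⁻¹ : N)) ∈ L := hfix a a.2 hB
      exact mem_subgroupOf.1 ((inferInstance : L.Normal).conj_mem' _ (inv_mem h1) _)
    · rw [map_one]
      exact (QuotientGroup.eq_one_iff _).2 (hother a a.2 hB)
  have h1 : ψ P = ψ (QuotientGroup.mk ⟨g, hg⟩) ^ (Finset.univ.filter B).card := by
    show ψ (∏ a : A, _) = _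
    rw [map_prod, Finset.prod_congr rfl fun a _ => hterm a, ← map_prod, Finset.prod_ite,
      Finset.prod_const, Finset.prod_const_one, mul_one, map_pow]
  have h2 : ψ P = 1 := by
    rw [← hn]
    exact (QuotientGroup.eq_one_iff _).2 (hΦK hnΦ)
  have hcardB : (Finset.univ.filter B).card = Nat.card ((normalizer (K : Set G)).subgroupOf A) := by
    rw [Nat.card_eq_fintype_card]
    exact (Fintype.card_subtype B).symm.trans (Fintype.card_congr (Equiv.refl _))
  obtain ⟨i, hi⟩ := IsPGroup.iff_card.1 (h.pA.to_subgroup ((normalizer (K : Set G)).subgroupOf A))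
  rw [h1, hcardB, hi] at h2
  have h3 : orderOf (ψ (QuotientGroup.mk ⟨g, hg⟩)) ∣ p ^ i := orderOf_dvd_of_pow_eq_one h2
  obtain ⟨j, hj⟩ := IsPGroup.iff_card.1 h.rN
  have h4 : orderOf (ψ (QuotientGroup.mk ⟨g, hg⟩)) ∣ r ^ j :=
    (_root_.orderOf_dvd_natCard _).trans ((card_quotient_dvd_card L).trans (dvd_of_eq hj))
  have h5 := Nat.eq_one_of_dvd_coprimes (Nat.coprime_pow_primes i j hp.out hr.out h.r_ne_p.symm) h3 h4
  rw [orderOf_eq_one_iff] at h5
  have h6 : (QuotientGroup.mk ⟨g, hg⟩ : N ⧸ L) = 1 := h5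
  exact hgK (mem_subgroupOf.1 ((QuotientGroup.eq_one_iff _).1 h6))

end SMin

end CfsgLib.SolvSignalizer
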