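import Cfsg.Agent.Lib.SolvSignalizer.SingleCore
import Cfsg.Agent.Lib.SolvSignalizer.Generation
import Cfsg.Agent.Lib.CFun.OddSectionAction

/-!
# Commutators modulo a normal `q`-subgroup

Subgroups defined by commutators modulo a subgroup, and generation of a `q'`-quotient by the pieces
fixed by the hyperplanes of an elementary operator group.
-/

set_option autoImplicit false
set_option linter.style.haveILetI false
set_option linter.unusedSectionVars false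

open Subgroup
open scoped commutatorElement
open CfsgLib.CFun.Sect (img mem_img mk_commute img_le_normalizer)

namespace CfsgLib.SolvSignalizer

universe u

variable {G : Type u} [Group G]

/-- The elements of `K` commuting with `H` modulo `N`. -/
def commSet (K H N : Subgroup G) : Subgroup G where
  carrier := {r | r ∈ K ∧ r ∈ normalizer (N : Set G) ∧ ∀ x ∈ H, x * r * x⁻¹ * r⁻¹ ∈ N}
  one_mem' := ⟨one_mem _, one_mem _, fun x _ => by simp⟩
  mul_mem' := fun {r s} hr hs => ⟨mul_mem hr.1 hs.1, mul_mem hr.2.1 hs.2.1, fun x hx => by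
    rw [show x * (r * s) * x⁻¹ * (r * s)⁻¹ =
      (x * r * x⁻¹ * r⁻¹) * (r * (x * s * x⁻¹ * s⁻¹) * r⁻¹) by group]
    exact mul_mem (hr.2.2 x hx) ((mem_normalizer_iff.1 hr.2.1 _).1 (hs.2.2 x hx))⟩
  inv_mem' := fun {r} hr => ⟨inv_mem hr.1, inv_mem hr.2.1, fun x hx => by
    rw [show x * r⁻¹ * x⁻¹ * r⁻¹⁻¹ = r⁻¹ * (x * r * x⁻¹ * r⁻¹)⁻¹ * r by group]
    exact (mem_normalizer_iff''.1 hr.2.1 _).1 (inv_mem (hr.2.2 x hx))⟩

/-- The elements of `H` commuting with `E` modulo `Q`. -/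
def pieceSub (H E Q : Subgroup G) : Subgroup G where
  carrier := {g | g ∈ H ∧ g ∈ normalizer (Q : Set G) ∧ ∀ e ∈ E, g * e * g⁻¹ * e⁻¹ ∈ Q}
  one_mem' := ⟨one_mem _, one_mem _, fun e _ => by simp⟩
  mul_mem' := fun {g k} hg hk => ⟨mul_mem hg.1 hk.1, mul_mem hg.2.1 hk.2.1, fun e he => by
    rw [show g * k * e * (g * k)⁻¹ * e⁻¹ =
      (g * (k * e * k⁻¹ * e⁻¹) * g⁻¹) * (g * e * g⁻¹ * e⁻¹) by group]
    exact mul_mem ((mem_normalizer_iff.1 hg.2.1 _).1 (hk.2.2 e he)) (hg.2.2 e he)⟩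
  inv_mem' := fun {g} hg => ⟨inv_mem hg.1, inv_mem hg.2.1, fun e he => by
    rw [show g⁻¹ * e * g⁻¹⁻¹ * e⁻¹ = g⁻¹ * (g * e * g⁻¹ * e⁻¹)⁻¹ * g by group]
    exact (mem_normalizer_iff''.1 hg.2.1 _).1 (inv_mem (hg.2.2 e he))⟩

theorem commSet_le {K H N : Subgroup G} : commSet K H N ≤ K := fun _ hr => hr.1

theorem pieceSub_le {H E Q : Subgroup G} : pieceSub H E Q ≤ H := fun _ hg => hg.1

variable [Finite G]

theorem le_normalizer_normalizer_of {M N : Subgroup G} (h : M ≤ normalizer (N : Set G)) :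
    M ≤ normalizer ((normalizer (N : Set G) : Subgroup G) : Set G) :=
  h.trans le_normalizer

theorem le_normalizer_commSet {M K H N : Subgroup G} (hK : M ≤ normalizer (K : Set G))
    (hH : M ≤ normalizer (H : Set G)) (hN : M ≤ normalizer (N : Set G)) :
    M ≤ normalizer (commSet K H N : Set G) := by
  refine CfsgLib.Invol.le_normalizer_of_forall_conj fun g hg r hr =>
    ⟨(mem_normalizer_iff.1 (hK hg) r).1 hr.1,
      (mem_normalizer_iff.1 (le_normalizer_normalizer_of hN hg) r).1 hr.2.1, fun x hx => ?_⟩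
  rw [show x * (g * r * g⁻¹) * x⁻¹ * (g * r * g⁻¹)⁻¹ =
    g * ((g⁻¹ * x * g) * r * (g⁻¹ * x * g)⁻¹ * r⁻¹) * g⁻¹ by group]
  exact (mem_normalizer_iff.1 (hN hg) _).1 (hr.2.2 _ ((mem_normalizer_iff''.1 (hH hg) x).1 hx))

theorem le_normalizer_pieceSub {M H E Q : Subgroup G} (hH : M ≤ normalizer (H : Set G))
    (hE : M ≤ normalizer (E : Set G)) (hQ : M ≤ normalizer (Q : Set G)) :
    M ≤ normalizer (pieceSub H E Q : Set G) := by
  refine CfsgLib.Invol.le_normalizer_of_forall_conj fun g hg x hx =>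
    ⟨(mem_normalizer_iff.1 (hH hg) x).1 hx.1,
      (mem_normalizer_iff.1 (le_normalizer_normalizer_of hQ hg) x).1 hx.2.1, fun e he => ?_⟩
  rw [show g * x * g⁻¹ * e * (g * x * g⁻¹)⁻¹ * e⁻¹ =
    g * (x * (g⁻¹ * e * g) * x⁻¹ * (g⁻¹ * e * g)⁻¹) * g⁻¹ by group]
  exact (mem_normalizer_iff.1 (hQ hg) _).1 (hx.2.2 _ ((mem_normalizer_iff''.1 (hE hg) e).1 he))

variable {q : ℕ} [hq : Fact q.Prime] {E H Q W : Subgroup G}

/-- The data needed to read the quotient by `Q`. -/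
theorem img_setup (hE : Cfsg.IsElementaryAbelian q E) (hEQ : E ≤ normalizer (Q : Set G))
    (hQH : Q ≤ H) (hH : H ≤ normalizer (Q : Set G)) (hEH : E ≤ normalizer (H : Set G))
    (hi : ¬ q ∣ Q.relIndex H) (hidx : q ^ 2 ≤ (E ⊓ Q).relIndex E) :
    Cfsg.IsElementaryAbelian q (img Q E) ∧ q ^ 2 ≤ Nat.card (img Q E) ∧
      ¬ q ∣ Nat.card (img Q H) ∧ img Q E ≤ normalizer (img Q H : Set _) := by
  refine ⟨⟨⟨⟨fun a b => ?_⟩⟩, ?_⟩, ?_, ?_, img_le_normalizer hEH⟩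
  · obtain ⟨_, x, hx, rfl⟩ := a
    obtain ⟨_, y, hy, rfl⟩ := b
    refine Subtype.ext ((mk_commute (V := Q)).2 ?_).eq
    have hxy : (x : G) * y = y * x := CfsgLib.EABasic.comm_of_isElementaryAbelian hE hx hy
    rw [hxy, mul_inv_cancel_right, mul_inv_cancel]
    exact one_mem _
  · rintro _ ⟨x, hx, rfl⟩
    rw [← map_pow, show x ^ q = 1 from Subtype.ext (hE.2 _ hx), map_one]
  · refine hidx.trans ?_
    set φ : E →* normalizer (Q : Set G) ⧸ Q.subgroupOf (normalizer (Q : Set G)) :=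
      (QuotientGroup.mk' (Q.subgroupOf (normalizer (Q : Set G)))).comp (inclusion hEQ) with hφ
    have hr : φ.range = img Q E := by
      rw [MonoidHom.range_comp, Subgroup.inclusion_range]
      rfl
    have hk : φ.ker = (E ⊓ Q).subgroupOf E := by
      ext x
      rw [MonoidHom.mem_ker, mem_subgroupOf, mem_inf, MonoidHom.comp_apply, CfsgLib.CFun.Sect.mk_eq_one]
      exact ⟨fun h => ⟨x.2, h⟩, fun h => h.2⟩
    rw [← hr, ← Subgroup.index_ker, hk]
    rfl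
  · intro hd
    have h1 := CfsgLib.CFun.Sect.card_img_mul (S := H) hQH hH
    have h2 := CfsgLib.Coprime.card_mul_relIndex hQH
    exact hi (by
      rw [← h1] at h2
      rw [Nat.eq_of_mul_eq_mul_left Nat.card_pos h2]
      exact hd)

/-- A hyperplane of the image pulls back to a hyperplane. -/
theorem exists_hyperplane (hEQ : E ≤ normalizer (Q : Set G))
    {E₁ : Subgroup (normalizer (Q : Set G) ⧸ Q.subgroupOf (normalizer (Q : Set G)))}
    (hle : E₁ ≤ img Q E) (hi₁ : E₁.relIndex (img Q E) = q) :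
    ∃ E' : Subgroup G, E' ≤ E ∧ E'.relIndex E = q ∧ E ⊓ Q ≤ E' ∧
      ∀ e : normalizer (Q : Set G), (e : G) ∈ E →
        ((e : G) ∈ E' ↔ QuotientGroup.mk' (Q.subgroupOf (normalizer (Q : Set G))) e ∈ E₁) := by
  set φ : E →* normalizer (Q : Set G) ⧸ Q.subgroupOf (normalizer (Q : Set G)) :=
    (QuotientGroup.mk' (Q.subgroupOf (normalizer (Q : Set G)))).comp (inclusion hEQ) with hφ
  have hr : φ.range = img Q E := by
    rw [MonoidHom.range_comp, Subgroup.inclusion_range]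
    rfl
  refine ⟨(E₁.comap φ).map E.subtype, map_subtype_le _, ?_, ?_, fun e he => ?_⟩
  · have h1 : ((E₁.comap φ).map E.subtype).relIndex E = (E₁.comap φ).relIndex ⊤ := by
      conv_lhs => arg 2; rw [← range_subtype E, MonoidHom.range_eq_map]
      exact relIndex_map_map_of_injective _ _ E.subtype_injective
    rw [h1, relIndex_comap, ← MonoidHom.range_eq_map, hr, hi₁]
  · rintro x ⟨hxE, hxQ⟩
    refine ⟨⟨x, hxE⟩, ?_, rfl⟩
    show φ ⟨x, hxE⟩ ∈ E₁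
    rw [hφ, MonoidHom.comp_apply, (CfsgLib.CFun.Sect.mk_eq_one (x := inclusion hEQ ⟨x, hxE⟩)).2 hxQ]
    exact one_mem _
  · constructor
    · rintro ⟨y, hy, e'⟩
      rwa [show e = inclusion hEQ y from Subtype.ext e'.symm]
    · intro h
      exact ⟨⟨e, he⟩, h, rfl⟩

/-- The pieces generate. -/
theorem le_of_pieces (hE : Cfsg.IsElementaryAbelian q E) (hEQ : E ≤ normalizer (Q : Set G))
    (hQH : Q ≤ H) (hH : H ≤ normalizer (Q : Set G)) (hEH : E ≤ normalizer (H : Set G))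
    (hi : ¬ q ∣ Q.relIndex H) (hidx : q ^ 2 ≤ (E ⊓ Q).relIndex E) (hQW : Q ≤ W)
    (hW : ∀ E' : Subgroup G, E' ≤ E → E'.relIndex E = q → E ⊓ Q ≤ E' → pieceSub H E' Q ≤ W) :
    H ≤ W := by
  obtain ⟨hBe, hB2, hHq, hBH⟩ := img_setup hE hEQ hQH hH hEH hi hidx
  intro g hg
  set π := QuotientGroup.mk' (Q.subgroupOf (normalizer (Q : Set G)))
  have hmain : img Q H ≤ img Q W := by
    refine CfsgLib.Coprime.le_of_hyperplanes hBe hB2 hHq hBH fun E₁ hle hi₁ => ?_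
    obtain ⟨E', hE'E, hE'i, hEQ', hiff⟩ := exists_hyperplane hEQ hle hi₁
    rintro _ ⟨⟨x, hx, rfl⟩, hc⟩
    refine mem_img.2 ⟨x, hW E' hE'E hE'i hEQ' ⟨hx, x.2, fun e he => ?_⟩, rfl⟩
    exact (mk_commute (x := x) (y := ⟨e, hEQ (hE'E he)⟩)).1
      (mem_centralizer_iff.1 hc _ ((hiff ⟨e, hEQ (hE'E he)⟩ (hE'E he)).1 he)).symm
  obtain ⟨y, hy, e⟩ := mem_img.1 (hmain (mem_img.2 ⟨⟨g, hH hg⟩, hg, rfl⟩))
  have h1 : π (y⁻¹ * ⟨g, hH hg⟩) = 1 := by rw [map_mul, map_inv, e]; exact inv_mul_cancel _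
  rw [CfsgLib.CFun.Sect.mk_eq_one] at h1
  simpa using mul_mem hy (hQW h1)

/-- Commutators with an operator come from the pieces not containing it. -/
theorem comm_of_pieces (hE : Cfsg.IsElementaryAbelian q E) (hEQ : E ≤ normalizer (Q : Set G))
    (hQH : Q ≤ H) (hH : H ≤ normalizer (Q : Set G)) (hEH : E ≤ normalizer (H : Set G))
    (hsol : Group.IsSolvable H)
    (hi : ¬ q ∣ Q.relIndex H) (hidx : q ^ 2 ≤ (E ⊓ Q).relIndex E) (hQW : Q ≤ W)
    {f : G} (hf : f ∈ E)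
    (hW : ∀ E' : Subgroup G, E' ≤ E → E'.relIndex E = q → E ⊓ Q ≤ E' → f ∉ E' →
      ∀ g ∈ pieceSub H E' Q, ∀ y ∈ zpowers f, g * y * g⁻¹ * y⁻¹ ∈ W) :
    ∀ g ∈ H, g * f * g⁻¹ * f⁻¹ ∈ W := by
  obtain ⟨hBe, hB2, hHq, hBH⟩ := img_setup hE hEQ hQH hH hEH hi hidx
  set π := QuotientGroup.mk' (Q.subgroupOf (normalizer (Q : Set G))) with hπ
  haveI := hsol
  have hs : Group.IsSolvable (img Q H) := by
    let φ : H →* img Q H := (π.comp (inclusion hH)).codRestrict (img Q H) fun x =>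
      mem_img.2 ⟨inclusion hH x, x.2, rfl⟩
    refine Group.isSolvable_of_surjective (f := φ) ?_
    rintro ⟨_, x, hx, rfl⟩
    exact ⟨⟨x, hx⟩, rfl⟩
  intro g hg
  have hmain := commutator_le_of_hyperplanes (K := img Q W) hBe hB2 hHq hs hBH
    (f := π ⟨f, hEQ hf⟩) (mem_img.2 ⟨_, hf, rfl⟩) fun E₁ hle hi₁ hfE₁ => by
      obtain ⟨E', hE'E, hE'i, hEQ', hiff⟩ := exists_hyperplane hEQ hle hi₁
      have hfE' : f ∉ E' := fun hh => hfE₁ ((hiff ⟨f, hEQ hf⟩ hf).1 hh)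
      rw [commutator_le]
      rintro _ ⟨⟨x, hx, rfl⟩, hc⟩ _ ⟨n, rfl⟩
      have hxP : (x : G) ∈ pieceSub H E' Q := ⟨hx, x.2, fun e he =>
        (mk_commute (x := x) (y := ⟨e, hEQ (hE'E he)⟩)).1
          (mem_centralizer_iff.1 hc _ ((hiff ⟨e, hEQ (hE'E he)⟩ (hE'E he)).1 he)).symm⟩
      refine mem_img.2 ⟨⁅x, (⟨f, hEQ hf⟩ : normalizer (Q : Set G)) ^ n⁆, ?_, ?_⟩
      · simpa [commutatorElement_def] using hW E' hE'E hE'i hEQ' hfE' x hxP (f ^ n) ⟨n, rfl⟩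
      · rw [map_commutatorElement, map_zpow]
  have h1 := hmain (commutator_mem_commutator (mem_img.2 ⟨⟨g, hH hg⟩, hg, rfl⟩)
    (mem_zpowers (π ⟨f, hEQ hf⟩)))
  obtain ⟨y, hy, e⟩ := mem_img.1 h1
  rw [← map_commutatorElement, ← hπ] at e
  have h2 : π (y⁻¹ * ⁅(⟨g, hH hg⟩ : normalizer (Q : Set G)), ⟨f, hEQ hf⟩⁆) = 1 := by
    rw [map_mul, map_inv, e, inv_mul_cancel]
  rw [hπ, CfsgLib.CFun.Sect.mk_eq_one] at h2
  have h3 := mul_mem hy (hQW h2)
  simpa [commutatorElement_def, mul_assoc] using h3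

end CfsgLib.SolvSignalizer
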