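import Cfsg.Agent.Lib.SolvSignalizer.FrameExists
import Cfsg.Agent.Lib.SolvSignalizer.Pieces
import Cfsg.Agent.Lib.LocalStructure.JFive

/-!
# The even core of a point acting on an invariant abelian `v`-member

If the fixed points of `c` on `V` are centralised by `U = O_2(J)`, then either `[U, c]` centralises
`V` or `[V ⊓ C(L), U ⊓ θ(A)]` is a `v`-frame for some plane `L`.
-/

set_option autoImplicit false
set_option linter.style.haveILetI false
set_option linter.unusedSectionVars false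

open Subgroup
open scoped commutatorElement
open CfsgLib.Coprime (conj_mem_of_le_normalizer)
open CfsgLib.CFun (core coCore)
open Cfsg (signalizerFamily signalizerInf)

namespace CfsgLib.SolvSignalizer

universe u

variable {G : Type u} [Group G] [Finite G]

/-- The elements of `H` acting trivially on a section `M₁ / M₀` that it normalises. -/
theorem commSet_trivial {H M₁ M₀ : Subgroup G} {t : G} (ht : t ∈ commSet H M₁ M₀) {x : G}
    (hx : x ∈ M₁) : t * x * t⁻¹ * x⁻¹ ∈ M₀ := by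
  rw [show t * x * t⁻¹ * x⁻¹ = (x * t * x⁻¹ * t⁻¹)⁻¹ by group]
  exact inv_mem (ht.2.2 x hx)

variable {p : ℕ} [hp : Fact p.Prime] {A : Subgroup G} {θ : G → Subgroup G}

namespace SFCtx

variable (h : SFCtx p A θ)

include h

theorem commute_plane {c x : G} (hc : c ∈ A) {E : Subgroup G} (hE : E ≤ A) (hi : E.relIndex A = p)
    (hcE : c ∉ E) (hxc : x * c = c * x) (hxE : x ∈ centralizer (E : Set G)) :
    x ∈ centralizer (A : Set G) := by
  have hA : E ⊔ zpowers c = A := by
    refine le_antisymm (sup_le hE (zpowers_le.2 hc)) (relIndex_eq_one.1 ?_)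
    have h1 := relIndex_mul_relIndex E (E ⊔ zpowers c) A le_sup_left (sup_le hE (zpowers_le.2 hc))
    rw [hi] at h1
    rcases (Nat.dvd_prime hp.out).1 ⟨_, h1.symm⟩ with h2 | h2
    · exact absurd (relIndex_eq_one.1 h2 ((le_sup_right : zpowers c ≤ _) (mem_zpowers c))) hcE
    · rw [h2] at h1
      exact Nat.eq_of_mul_eq_mul_left hp.out.pos (h1.trans (mul_one p).symm)
  rw [← hA, mem_centralizer_iff]
  have h1 : (E ⊔ zpowers c : Subgroup G) ≤ centralizer ({x} : Set G) :=
    sup_le (fun e he => mem_centralizer_singleton_iff.2 (mem_centralizer_iff.1 hxE e he))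
      (zpowers_le.2 (mem_centralizer_singleton_iff.2 hxc.symm))
  exact fun y hy => mem_centralizer_singleton_iff.1 (h1 hy)

/-- The dichotomy for the action of the even core of a point on `V`. -/
theorem pair_action {v : ℕ} [hv : Fact v.Prime] (hv2 : v ≠ 2) {c : G} {J V : Subgroup G}
    (hc : c ∈ A) (hc1 : c ≠ 1) (hJ : J ∈ signalizerFamily p A θ) (hcJ : θ c ≤ J)
    (hVm : V ∈ signalizerFamily p A θ) (hVe : Cfsg.IsElementaryAbelian v V)
    (hCV : signalizerInf A θ ≤ normalizer (V : Set G))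
    (hUV : core J 2 ≤ normalizer (V : Set G))
    (hfix : V ⊓ centralizer ({c} : Set G) ≤ centralizer (core J 2 : Set G)) :
    ⁅core J 2, zpowers c⁆ ≤ centralizer (V : Set G) ∨
      ∃ L W, Frame p A θ v L W ∧ c ∉ L ∧ W ≤ V ∧
        W ≤ ⁅W, signalizerInf A θ ⊓ core J 2⁆ := by
  haveI : Fact (Nat.Prime 2) := ⟨Nat.prime_two⟩
  set U := core J 2 with hU
  have hUm : U ∈ signalizerFamily p A θ := h.core_mem hJ 2
  have hAV : A ≤ normalizer (V : Set G) := h.le_normA hVm
  by_cases hU1 : U = ⊥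
  · left
    rw [hU1, commutator_le]
    intro x hx y _
    rw [mem_bot.1 hx, commutatorElement_one_left]
    exact one_mem _
  have h2p : (2 : ℕ) ≠ p := by
    refine h.prime_ne_p hUm ?_
    obtain ⟨k, hk⟩ := IsPGroup.iff_card.1 (CfsgLib.CFun.isPGroup_core (H := J) (s := 2))
    rcases k with - | k
    · exact absurd (card_eq_one.1 (hk.trans (pow_zero 2))) hU1
    · exact (dvd_pow_self 2 (Nat.succ_ne_zero k)).trans hk.symm.dvd
  have hA2 : p ^ 2 ≤ Nat.card A := le_trans (Nat.pow_le_pow_right hp.out.pos (by norm_num)) h.card_le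
  have hcA : zpowers c ≤ A := zpowers_le.2 hc
  have hcU : zpowers c ≤ normalizer (U : Set G) := hcA.trans (h.le_normA hUm)
  set E := signalizerInf A θ ⊓ U with hE
  have hEA : E ≤ centralizer (A : Set G) := inf_le_left.trans h.C_le_centralizer
  by_cases hEV : E ≤ centralizer (V : Set G)
  · -- the pieces act without fixed points
    left
    refine commutator_le_of_hyperplanes h.elem hA2 hUm.2.1 hUm.1 (h.le_normA hUm) hc fun L hL hi hcL => ?_
    have hcCV : zpowers c ≤ normalizer (centralizer (V : Set G) : Set G) :=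
      hcA.trans (hAV.trans (CfsgLib.Coprime.normalizer_le_normalizer_centralizer V))
    suffices hR : U ⊓ centralizer (L : Set G) ≤ centralizer (V : Set G) from
      (commutator_mono hR le_rfl).trans (le_normalizer_iff_commutator_le_left.1 hcCV)
    haveI : ((⊥ : Subgroup G).subgroupOf V).Normal := by rw [bot_subgroupOf]; infer_instance
    have hsec : IsSection v V ⊥ := ⟨inferInstance, fun x hx y hy => by
        rw [mem_bot, CfsgLib.EABasic.comm_of_isElementaryAbelian hVe hx hy]; group,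
      fun x hx => mem_bot.2 (hVe.2 x hx)⟩
    have hst : ∀ {M : Subgroup G}, M ≤ normalizer (V : Set G) → M ≤ stab V ⊥ := fun hM =>
      le_inf hM (by rw [normalizer_eq_top]; exact le_top)
    have h1 := sec_trivial_of_fpf (p := p) (b := c) (R := U ⊓ centralizer (L : Set G)) V ⊥ hsec
      (CfsgLib.CFun.isPGroup_core.to_le inf_le_left) (Ne.symm hv2) h2p
      (hst (inf_le_left.trans hUV)) (hst hAV hc) (h.elem.2 c hc)
      (CfsgLib.Coprime.inf_le_normalizer (zpowers_le.2 (h.le_normA hUm hc))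
        ((zpowers_le.2 ((mem_centralizer_iff.2 fun l hl => h.commA (hL hl) hc) :
          c ∈ centralizer (L : Set G))).trans le_normalizer) (mem_zpowers c))
      (fun r hr hcr x hx => ?_) (fun x hx hxc r hr => ?_)
    · intro r hr
      rw [mem_centralizer_iff]
      intro x hx
      have := mem_bot.1 (h1 r hr x hx)
      rw [mul_inv_eq_one, mul_inv_eq_iff_eq_mul] at this
      exact this.symm
    · have hrE : r ∈ E := mem_inf.2 ⟨h.fixA_le hUm
        ⟨hr.1, h.commute_plane hc hL hi hcL hcr.symm hr.2⟩, hr.1⟩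
      rw [mem_bot, mul_inv_eq_one, mul_inv_eq_iff_eq_mul]
      exact (mem_centralizer_iff.1 (hEV hrE) x hx).symm
    · rw [mem_bot, mul_inv_eq_one, mul_inv_eq_iff_eq_mul] at hxc ⊢
      exact mem_centralizer_iff.1 (hfix ⟨hx, mem_centralizer_singleton_iff.2 hxc.symm⟩) r hr.1
  -- a piece moved by `E`
  right
  obtain ⟨L, hL, hi, hne⟩ : ∃ L : Subgroup G, L ≤ A ∧ L.relIndex A = p ∧
      ¬ V ⊓ centralizer (L : Set G) ≤ centralizer (E : Set G) := by
    by_contra hc'
    push Not at hc'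
    exact hEV (le_centralizer_iff.1
      (CfsgLib.Coprime.le_of_hyperplanes h.elem hA2 hVm.2.1 hAV hc'))
  have hcL : c ∉ L := fun hcL => hne (((inf_le_inf_left V
    (centralizer_le (Set.singleton_subset_iff.2 hcL))).trans hfix).trans
      (centralizer_le (inf_le_right : E ≤ U)))
  set V₀ := V ⊓ centralizer (L : Set G) with hV₀
  set W := ⁅V₀, E⁆ with hW
  have hAL : A ≤ normalizer (centralizer (L : Set G) : Set G) := h.le_normalizer_centralizer_plane hL
  have hAV₀ : A ≤ normalizer (V₀ : Set G) := CfsgLib.Coprime.inf_le_normalizer hAV hAL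
  have hAE : A ≤ normalizer (E : Set G) := (show A ≤ centralizer (E : Set G) from
    le_centralizer_iff.1 hEA).trans (CfsgLib.Coprime.centralizer_le_normalizer_self E)
  have hCA : signalizerInf A θ ≤ centralizer (L : Set G) :=
    h.C_le_centralizer.trans (centralizer_le hL)
  have hEV₀ : E ≤ normalizer (V₀ : Set G) := CfsgLib.Coprime.inf_le_normalizer
    (inf_le_right.trans hUV) ((inf_le_left.trans hCA).trans le_normalizer)
  have hWV₀ : W ≤ V₀ := le_normalizer_iff_commutator_le_left.1 hEV₀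
  have hWm : W ∈ signalizerFamily p A θ := h.mem_of_le hVm (hWV₀.trans inf_le_left)
    (CfsgLib.CFun.le_normalizer_commutator hAV₀ hAE)
  have hVv : IsPGroup v V := CfsgLib.EABasic.isPGroup_of_isElementaryAbelian hVe
  have hCJ : signalizerInf A θ ≤ J := (h.C_le_theta hc hc1).trans hcJ
  have hCW : signalizerInf A θ ≤ normalizer (W : Set G) := CfsgLib.CFun.le_normalizer_commutator
    (CfsgLib.Coprime.inf_le_normalizer hCV (hCA.trans le_normalizer))
    (CfsgLib.Coprime.inf_le_normalizer le_normalizer (hCJ.trans CfsgLib.CFun.le_normalizer_core))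
  have hW1 : W ≠ ⊥ := fun e => hne (commutator_eq_bot_iff_le_centralizer.1 e)
  have hcop : (Nat.card E).Coprime (Nat.card V₀) := by
    obtain ⟨i, hi'⟩ := IsPGroup.iff_card.1
      ((CfsgLib.CFun.isPGroup_core (H := J) (s := 2)).to_le (inf_le_right : E ≤ U))
    obtain ⟨j, hj⟩ := IsPGroup.iff_card.1 (hVv.to_le (inf_le_left : V₀ ≤ V))
    rw [hi', hj]
    exact Nat.coprime_pow_primes i j Nat.prime_two hv.out (Ne.symm hv2)
  have hV₀s : Group.IsSolvable V₀ := (h.mem_of_le hVm inf_le_left hAV₀).1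
  refine ⟨L, W, ⟨hv.out, hL, hi, hWm, hVv.to_le (hWV₀.trans inf_le_left), hCW, hW1,
    hWV₀.trans inf_le_right, fun k hk hk1 => ?_⟩, hcL, hWV₀.trans inf_le_left,
    (CfsgLib.Coprime.commutator_commutator_eq hEV₀ hcop (Or.inr hV₀s)).ge⟩
  -- the piece lies in the cores at the points of `L`
  have hkA := hL hk
  have hθk := h.theta_mem hkA hk1
  haveI : Group.IsSolvable (θ k) := hθk.1
  set Vk := V ⊓ centralizer ({k} : Set G) with hVk
  have hV₀k : V₀ ≤ Vk := inf_le_inf_left V (centralizer_le (Set.singleton_subset_iff.2 hk))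
  have hVkθ : Vk ≤ θ k := h.fix_le hVm hkA hk1
  refine le_core_of_sections ((hWV₀.trans hV₀k).trans hVkθ) (hVv.to_le (hWV₀.trans inf_le_left))
    fun r M₁ M₀ hr hrv hsec t ht x hx => commSet_trivial (H := θ k) ?_ hx
  suffices hWc : W ≤ commSet (θ k) M₁ M₀ from hWc ht
  haveI := Fact.mk hr
  haveI := hsec.isSection.normal
  set Kc := commSet (θ k) M₁ M₀
  have hθn₀ : θ k ≤ normalizer (M₀ : Set G) := le_normalizer.trans hsec.norm₀
  have hθn₁ : θ k ≤ normalizer (M₁ : Set G) := le_normalizer.trans hsec.norm₁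
  have hcθ : zpowers c ≤ normalizer (θ k : Set G) := hcA.trans (h.le_normA hθk)
  have hcVk : zpowers c ≤ normalizer (Vk : Set G) :=
    hcA.trans (CfsgLib.Coprime.inf_le_normalizer hAV (le_normalizer.trans' fun a ha =>
      mem_centralizer_singleton_iff.2 (h.commA ha hkA)))
  set R := ⁅Vk, zpowers c⁆ with hR
  have hRVk : R ≤ Vk := le_normalizer_iff_commutator_le_left.1 hcVk
  have hVkc : IsMulCommutative Vk := ⟨⟨fun a b => Subtype.ext
    (CfsgLib.EABasic.comm_of_isElementaryAbelian hVe a.2.1 b.2.1)⟩⟩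
  have hRc : IsMulCommutative R := ⟨⟨fun a b => Subtype.ext
    (CfsgLib.EABasic.comm_of_isElementaryAbelian hVe (hRVk a.2).1 (hRVk b.2).1)⟩⟩
  have hcR : zpowers c ≤ normalizer (R : Set G) :=
    CfsgLib.CFun.le_normalizer_commutator hcVk le_normalizer
  have hcopc : ∀ {X : Subgroup G}, X ≤ V → (Nat.card (zpowers c)).Coprime (Nat.card X) := fun hX =>
    ((h.coprime hVm).coprime_dvd_left (card_dvd_of_le hcA)).coprime_dvd_right (card_dvd_of_le hX)
  have hRR : R ≤ ⁅R, zpowers c⁆ := (CfsgLib.Coprime.commutator_commutator_eq hcVk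
    (hcopc inf_le_left) (Or.inr (h.mem_of_le hθk hVkθ (CfsgLib.Coprime.inf_le_normalizer hAV
      (le_normalizer.trans' fun a ha => mem_centralizer_singleton_iff.2 (h.commA ha hkA)))).1)).ge
  have hfpf : R ⊓ centralizer ({c} : Set G) = ⊥ := by
    rw [← centralizer_closure, ← zpowers_eq_closure]
    exact CfsgLib.LocalStructure.JFive.inf_centralizer_eq_bot inferInstance hRc hcR
      (hcopc (hRVk.trans inf_le_left)) hRR
  rw [hW, commutator_le]
  intro x hx e he
  -- the part of `x` moved by `c`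
  have hcV₀ : zpowers c ≤ normalizer (V₀ : Set G) := hcA.trans hAV₀
  have hx' : x ∈ ⁅V₀, zpowers c⁆ ⊔ (V₀ ⊓ centralizer (zpowers c : Set G)) := by
    rw [CfsgLib.Coprime.commutator_sup_centralizer hcV₀ (hcopc inf_le_left) (Or.inr hV₀s)]
    exact hx
  obtain ⟨x₁, hx₁, x₀, hx₀, rfl⟩ := CfsgLib.Coprime.mem_sup_exists
    (inf_le_left.trans (le_normalizer_commutator_left V₀ (zpowers c))) hx'
  have he₀ : e * x₀ = x₀ * e := by
    refine mem_centralizer_iff.1 (hfix ⟨hx₀.1.1, ?_⟩) e he.2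
    exact centralizer_le (Set.singleton_subset_iff.2 (mem_zpowers c)) hx₀.2
  have hx₁R : x₁ ∈ R := commutator_mono hV₀k le_rfl hx₁
  have hd : ⁅x₁ * x₀, e⁆ = (e * x₁ * e⁻¹ * x₁⁻¹)⁻¹ := by
    rw [commutatorElement_def, show x₁ * x₀ * e * (x₁ * x₀)⁻¹ * e⁻¹ =
      x₁ * (x₀ * e * x₀⁻¹) * x₁⁻¹ * e⁻¹ by group, ← he₀]
    group
  rw [hd]
  refine inv_mem ?_
  have hek : e ∈ centralizer ({k} : Set G) :=
    centralizer_le (Set.singleton_subset_iff.2 hkA) (hEA he)
  have heθ : e ∈ θ k := h.C_le_theta hkA hk1 he.1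
  have hec : c * e = e * c := mem_centralizer_iff.1 (hEA he) c hc
  have hx₁θ : x₁ ∈ θ k := hVkθ (hRVk hx₁R)
  have hmem : e * x₁ * e⁻¹ * x₁⁻¹ ∈ θ k :=
    mul_mem (mul_mem (mul_mem heθ hx₁θ) (inv_mem heθ)) (inv_mem hx₁θ)
  refine ⟨hmem, hθn₀ hmem, fun y hy => ?_⟩
  rw [show y * (e * x₁ * e⁻¹ * x₁⁻¹) * y⁻¹ * (e * x₁ * e⁻¹ * x₁⁻¹)⁻¹ =
    ((e * x₁ * e⁻¹ * x₁⁻¹) * y * (e * x₁ * e⁻¹ * x₁⁻¹)⁻¹ * y⁻¹)⁻¹ by group]
  refine inv_mem ?_
  have hRθ : R ≤ θ k := hRVk.trans hVkθ
  have hstab : θ k ≤ stab M₁ M₀ := le_inf hθn₁ hθn₀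
  have hcard : ∀ {s : ℕ}, s.Prime → s ≠ v → ¬ s ∣ Nat.card R := fun hs hsv hd' => by
    haveI := Fact.mk hs
    exact CfsgLib.CFun.not_dvd_of_isPGroup (r := v) (Ne.symm hsv)
      (hVv.to_le (hRVk.trans inf_le_left)) hd'
  refine sec_commutator_mem (p := p) M₁ M₀ hsec.isSection (fun a ha b hb =>
    CfsgLib.EABasic.comm_of_isElementaryAbelian hVe (hRVk ha).1 (hRVk hb).1) (hcard hr hrv)
    (hRθ.trans hstab) ⟨hsec.norm₁ (hcθ (mem_zpowers c)), hsec.norm₀ (hcθ (mem_zpowers c))⟩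
    (hstab heθ) (h.elem.2 c hc) ?_ (hcR (mem_zpowers c)) ?_ ?_ hec hfpf ?_ x₁ hx₁R y hy
  · exact fun hd' => h.not_dvd hθk (hd'.trans (card_dvd_of_le hRθ))
  · refine CfsgLib.CFun.le_normalizer_commutator (H := zpowers e) ?_ ?_ (mem_zpowers e)
    · exact CfsgLib.Coprime.inf_le_normalizer (zpowers_le.2 (hUV he.2))
        ((zpowers_le.2 hek).trans le_normalizer)
    · exact (zpowers_le.2 ((mem_centralizer_iff.2 fun g hg => mem_centralizer_iff.1 (hEA he) g
        (hcA hg)) : e ∈ centralizer (zpowers c : Set G))).trans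
        (CfsgLib.Coprime.centralizer_le_normalizer_self _)
  · exact fun hd' => h.not_dvd hθk
      (hd'.trans ((orderOf_mk e heθ).symm ▸ orderOf_dvd_natCard (⟨e, heθ⟩ : θ k)))
  -- a fixed point of `c` lifts into `J`
  intro z hz hzc s hs
  obtain ⟨n, hn, hzn, hznc⟩ := exists_fixed_lift hsec hθk.2.1 (h.elem.2 c hc) (hcθ (mem_zpowers c)) hz hzc
  have hznJ : z * n ∈ J := hcJ (h.fix_le hθk hc hc1 ⟨hsec.le hzn, hznc⟩)
  set d := e * (z * n) * e⁻¹ * (z * n)⁻¹ with hd'
  have hdU : d ∈ U := by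
    rw [hd', show e * (z * n) * e⁻¹ * (z * n)⁻¹ = e * ((z * n) * e⁻¹ * (z * n)⁻¹) by group]
    exact mul_mem he.2 ((mem_normalizer_iff.1 (CfsgLib.CFun.le_normalizer_core hznJ) _).1 (inv_mem he.2))
  have hdM₁ : d ∈ M₁ :=
    mul_mem ((mem_normalizer_iff.1 (hθn₁ heθ) _).1 hzn) (inv_mem hzn)
  have hM : M₁ ≤ normalizer (M₀ : Set G) := hsec.le.trans hθn₀
  have hdR : d ∈ normalizer (R : Set G) := by
    have hdk : d ∈ centralizer ({k} : Set G) := h.theta_le_centralizer hkA hk1 (hsec.le hdM₁)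
    have hdc : d ∈ centralizer (zpowers c : Set G) := by
      rw [zpowers_eq_closure, centralizer_closure]
      exact mul_mem (mul_mem (mul_mem (mem_centralizer_singleton_iff.2 hec.symm) hznc)
        (inv_mem (mem_centralizer_singleton_iff.2 hec.symm))) (inv_mem hznc)
    exact CfsgLib.CFun.le_normalizer_commutator (H := zpowers d)
      (CfsgLib.Coprime.inf_le_normalizer (zpowers_le.2 (hUV hdU))
        ((zpowers_le.2 hdk).trans le_normalizer))
      ((zpowers_le.2 hdc).trans (CfsgLib.Coprime.centralizer_le_normalizer_self _)) (mem_zpowers d)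
  have hrd : s * d * s⁻¹ * d⁻¹ ∈ M₀ := by
    refine mem_of_isPGroup_section hr hrv hsec.isSection (hVv.to_le (hRVk.trans inf_le_left)) ?_ ?_
    · rw [show s * d * s⁻¹ * d⁻¹ = s * (d * s⁻¹ * d⁻¹) by group]
      exact mul_mem hs ((mem_normalizer_iff.1 hdR _).1 (inv_mem hs))
    · exact mul_mem ((mem_normalizer_iff.1 (hθn₁ (hRθ hs)) _).1 hdM₁) (inv_mem hdM₁)
  set m := z * (e * n * e⁻¹ * n⁻¹) * z⁻¹ with hm
  have hmM : m ∈ M₀ := by
    refine (mem_normalizer_iff.1 (hM hz) _).1 ?_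
    exact mul_mem ((mem_normalizer_iff.1 (hθn₀ heθ) n).1 hn) (inv_mem hn)
  have hez : e * z * e⁻¹ * z⁻¹ = d * m⁻¹ := by rw [hd', hm]; group
  rw [hez, show s * (d * m⁻¹) * s⁻¹ * (d * m⁻¹)⁻¹ =
    (s * d * s⁻¹ * d⁻¹) * (d * ((s * m⁻¹ * s⁻¹) * m) * d⁻¹) by group]
  exact mul_mem hrd ((mem_normalizer_iff.1 (hM hdM₁) _).1
    (mul_mem ((mem_normalizer_iff.1 (hθn₀ (hRθ hs)) _).1 (inv_mem hmM)) hmM))

end SFCtx

end CfsgLib.SolvSignalizer
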