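import Cfsg.Agent.Lib.SolvSignalizer.Act
import Mathlib.LinearAlgebra.Charpoly.Basic
import Mathlib.FieldTheory.IsAlgClosed.AlgebraicClosure
import Mathlib.FieldTheory.Finiteness
import Mathlib.Algebra.Module.ZMod

/-!
# Dimension bound from a fixed point free element with many conjugate powers
-/

set_option autoImplicit false
set_option linter.style.haveILetI false
set_option linter.unusedSectionVars false

open Polynomial

namespace CfsgLib.SolvSignalizer

universe u

theorem pow_le_card_of_conj_pow_end {q r : ℕ} [hq : Fact q.Prime] [hr : Fact r.Prime] {M : Type u}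
    [AddCommGroup M] [Module (ZMod q) M] [Finite M] [Nontrivial M] (t y y' : Module.End (ZMod q) M)
    (hyy' : y * y' = 1) (hy'y : y' * y = 1) (ht : t ^ r = 1) (hfpf : ∀ v, t v = v → v = 0) (m : ZMod r)
    (hconj : y * t * y' = t ^ m.val) : q ^ orderOf m ≤ Nat.card M := by
  haveI : Module.Finite (ZMod q) M := Module.Finite.of_finite
  let f := minpoly (ZMod q) t
  have hint : IsIntegral (ZMod q) t := Algebra.IsIntegral.isIntegral t
  have hpow : ∀ j : ℕ, y * t ^ j * y' = (y * t * y') ^ j := by
    intro j
    induction j with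
    | zero => simp [hyy']
    | succ j ih =>
      calc y * t ^ (j + 1) * y' = y * t ^ j * (y' * y) * (t * y') := by
            rw [hy'y, mul_one, pow_succ]; simp only [mul_assoc]
        _ = (y * t ^ j * y') * (y * t * y') := by simp only [mul_assoc]
        _ = _ := by rw [ih, pow_succ]
  have hfm : aeval (t ^ m.val) f = 0 := by
    rw [← hconj]
    have key : ∀ g : (ZMod q)[X], aeval (y * t * y') g = y * aeval t g * y' := by
      intro g
      induction g using Polynomial.induction_on' with
      | add a b ha hb => rw [map_add, map_add, ha, hb, mul_add, add_mul]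
      | monomial n a =>
        rw [aeval_monomial, aeval_monomial, ← hpow, Algebra.algebraMap_eq_smul_one]
        simp only [smul_mul_assoc, one_mul, mul_smul_comm]
    rw [key, minpoly.aeval, mul_zero, zero_mul]
  have hdiv : f ∣ f.comp (X ^ m.val) := minpoly.dvd _ _ (by rw [aeval_comp, aeval_X_pow, hfm])
  have hdr : f ∣ X ^ r - 1 := minpoly.dvd _ _ (by simp [ht])
  have hdeg : 0 < f.natDegree := minpoly.natDegree_pos hint
  have hf1 : f.eval 1 ≠ 0 := by
    intro h
    obtain ⟨g, hg⟩ := dvd_iff_isRoot.2 (show f.IsRoot 1 from h)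
    have hne : f ≠ 0 := minpoly.ne_zero hint
    have hg0 : g ≠ 0 := fun e => hne (by rw [hg, e, mul_zero])
    have hz : aeval t g = 0 := by
      refine LinearMap.ext fun v => hfpf _ ?_
      have e : aeval t f v = 0 := by rw [minpoly.aeval, LinearMap.zero_apply]
      rw [hg, map_mul] at e
      simp only [map_sub, aeval_X, map_one, Module.End.mul_apply, LinearMap.sub_apply,
        Module.End.one_apply, sub_eq_zero] at e
      exact e
    have hle := natDegree_le_of_dvd (minpoly.dvd _ _ hz) hg0
    change f.natDegree ≤ g.natDegree at hle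
    rw [hg, natDegree_mul (X_sub_C_ne_zero 1) hg0, natDegree_X_sub_C] at hle
    omega
  let K := AlgebraicClosure (ZMod q)
  have hdeg' : (f.map (algebraMap (ZMod q) K)).degree ≠ 0 := by
    rw [degree_map]
    exact fun e => hdeg.ne' (natDegree_eq_zero_iff_degree_le_zero.2 e.le)
  obtain ⟨c, hc⟩ := IsAlgClosed.exists_root _ hdeg'
  have hc0 : aeval c f = 0 := by
    rwa [IsRoot, eval_map, ← aeval_def] at hc
  have hcr : c ^ r = 1 := by
    obtain ⟨g, hg⟩ := hdr
    have e : aeval c (X ^ r - 1 : (ZMod q)[X]) = 0 := by rw [hg, map_mul, hc0, zero_mul]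
    simpa [sub_eq_zero] using e
  have hc1 : c ≠ 1 := by
    rintro rfl
    apply hf1
    rw [aeval_def, ← map_one (algebraMap (ZMod q) K), eval₂_at_apply] at hc0
    exact (map_eq_zero_iff _ (algebraMap (ZMod q) K).injective).1 hc0
  have hord : orderOf c = r := orderOf_eq_prime hcr hc1
  have hroot : ∀ i : ℕ, aeval (c ^ (m ^ i).val) f = 0 := by
    intro i
    induction i with
    | zero => simpa [ZMod.val_one] using hc0
    | succ i ih =>
      obtain ⟨g, hg⟩ := hdiv
      have e : aeval (c ^ (m ^ i).val) (f.comp (X ^ m.val)) = 0 := by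
        rw [hg, map_mul, ih, zero_mul]
      rw [aeval_comp, aeval_X_pow, ← pow_mul] at e
      have e2 := pow_mod_orderOf c ((m ^ i).val * m.val)
      rw [hord] at e2
      rwa [pow_succ, ZMod.val_mul, e2]
  have hinj : Set.InjOn (fun i : ℕ => c ^ (m ^ i).val) (Finset.range (orderOf m) : Set ℕ) := by
    intro i hi j hj e
    simp only [Finset.coe_range, Set.mem_Iio] at hi hj
    have e' : (m ^ i).val = (m ^ j).val :=
      pow_injOn_Iio_orderOf (by rw [Set.mem_Iio, hord]; exact ZMod.val_lt _)
        (by rw [Set.mem_Iio, hord]; exact ZMod.val_lt _) e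
    exact pow_injOn_Iio_orderOf (Set.mem_Iio.2 hi) (Set.mem_Iio.2 hj) (ZMod.val_injective _ e')
  have hk : orderOf m ≤ f.natDegree := by
    classical
    have hne : f.map (algebraMap (ZMod q) K) ≠ 0 := map_ne_zero (minpoly.ne_zero hint)
    calc orderOf m = ((Finset.range (orderOf m)).image fun i => c ^ (m ^ i).val).card := by
          rw [Finset.card_image_of_injOn hinj, Finset.card_range]
      _ ≤ (f.map (algebraMap (ZMod q) K)).roots.toFinset.card := by
          refine Finset.card_le_card fun z hz => ?_
          obtain ⟨i, -, rfl⟩ := Finset.mem_image.1 hz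
          rw [Multiset.mem_toFinset, mem_roots hne, IsRoot, eval_map, ← aeval_def]
          exact hroot i
      _ ≤ Multiset.card (f.map (algebraMap (ZMod q) K)).roots := Multiset.toFinset_card_le _
      _ ≤ (f.map (algebraMap (ZMod q) K)).natDegree := card_roots' _
      _ = f.natDegree := natDegree_map _
  have hfin : f.natDegree ≤ Module.finrank (ZMod q) M := by
    rw [← LinearMap.charpoly_natDegree t]
    exact natDegree_le_of_dvd (LinearMap.minpoly_dvd_charpoly t) t.charpoly_monic.ne_zero
  rw [Module.natCard_eq_pow_finrank (K := ZMod q) (V := M), Nat.card_zmod]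
  exact Nat.pow_le_pow_right hq.out.pos (hk.trans hfin)

/-- A fixed point free element of order `r` conjugate to many of its powers needs a large group. -/
theorem pow_le_card_of_conj_pow {G : Type u} [Group G] [Finite G] {q r : ℕ} [hq : Fact q.Prime]
    [hr : Fact r.Prime] {W : Subgroup G} (hW : Cfsg.IsElementaryAbelian q W) (hW1 : W ≠ ⊥) {t y : G}
    (ht : t ∈ Subgroup.normalizer (W : Set G)) (hy : y ∈ Subgroup.normalizer (W : Set G))
    (htr : t ^ r ∈ Subgroup.centralizer (W : Set G))
    (hfpf : W ⊓ Subgroup.centralizer ({t} : Set G) = ⊥) (m : ZMod r)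
    (hconj : (t ^ m.val)⁻¹ * (y * t * y⁻¹) ∈ Subgroup.centralizer (W : Set G)) :
    q ^ orderOf m ≤ Nat.card W := by
  letI : CommGroup W := { (inferInstance : Group W) with
    mul_comm := fun a b => Subtype.ext (comm_of_elem hW a.2 b.2) }
  have hp0 : ∀ v : Additive W, q • v = 0 := fun v =>
    Additive.toMul.injective (Subtype.ext (by simpa using hW.2 _ v.toMul.2))
  letI : Module (ZMod q) (Additive W) := AddCommGroup.zmodModule (n := q) hp0
  haveI : Nontrivial (Additive W) := (Subgroup.nontrivial_iff_ne_bot W).2 hW1
  let act : Subgroup.normalizer (W : Set G) →* Module.End (ZMod q) (Additive W) :=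
    { toFun := fun g => AddMonoidHom.toZModLinearMap q
        { toFun := fun v => Additive.ofMul
            (⟨(g : G) * v.toMul * (g : G)⁻¹, (Subgroup.mem_normalizer_iff.1 g.2 _).1 v.toMul.2⟩ : W)
          map_zero' := by
            show Additive.ofMul _ = Additive.ofMul (1 : W)
            congr 1
            exact Subtype.ext (by simp)
          map_add' := fun v w => by
            show Additive.ofMul _ = Additive.ofMul (_ * _ : W)
            congr 1
            exact Subtype.ext (by simp [mul_assoc]) }
      map_one' := LinearMap.ext fun v => Additive.toMul.injective (Subtype.ext (by simp))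
      map_mul' := fun g h => LinearMap.ext fun v => Additive.toMul.injective (Subtype.ext (by
        simp [mul_assoc])) }
  have hker : ∀ g : Subgroup.normalizer (W : Set G),
      (g : G) ∈ Subgroup.centralizer (W : Set G) → act g = 1 := fun g hg =>
    LinearMap.ext fun v => Additive.toMul.injective (Subtype.ext (by
      show (g : G) * v.toMul * (g : G)⁻¹ = v.toMul
      rw [← Subgroup.mem_centralizer_iff.1 hg _ v.toMul.2, mul_inv_cancel_right]))
  let t' : Subgroup.normalizer (W : Set G) := ⟨t, ht⟩
  let y' : Subgroup.normalizer (W : Set G) := ⟨y, hy⟩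
  refine le_of_le_of_eq (pow_le_card_of_conj_pow_end (act t') (act y') (act y'⁻¹)
    (by rw [← map_mul, mul_inv_cancel, map_one]) (by rw [← map_mul, inv_mul_cancel, map_one])
    (by rw [← map_pow]; exact hker _ (by simpa using htr)) ?_ m ?_) (Nat.card_congr Additive.toMul)
  · intro v hv
    have e : t * v.toMul * t⁻¹ = (v.toMul : G) := congrArg (fun z => ((Additive.toMul z : W) : G)) hv
    have hmem : (v.toMul : G) ∈ W ⊓ Subgroup.centralizer ({t} : Set G) :=
      ⟨v.toMul.2, Subgroup.mem_centralizer_singleton_iff.2 (mul_inv_eq_iff_eq_mul.1 e).symm⟩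
    rw [hfpf, Subgroup.mem_bot] at hmem
    exact Additive.toMul.injective (Subtype.ext hmem)
  · rw [← map_pow, ← map_mul, ← map_mul]
    have e := hker ((t' ^ m.val)⁻¹ * (y' * t' * y'⁻¹)) (by simpa [t', y'] using hconj)
    calc act (y' * t' * y'⁻¹) = act (t' ^ m.val * ((t' ^ m.val)⁻¹ * (y' * t' * y'⁻¹))) := by
          rw [mul_inv_cancel_left]
      _ = _ := by rw [map_mul act (t' ^ m.val) _, e, mul_one]

end CfsgLib.SolvSignalizer
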