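import Cfsg.Agent.Lib.SolvSignalizer.Elem
import Cfsg.Agent.Lib.SolvSignalizer.Bridge

/-!
# Maximal members whose generalized core is a `q`-group

For such a member `X` the preimage `fTilde q X` of the Fitting subgroup of `X / O_q(X)` is
governed by the `q`-group `K ⊓ X`.
-/

set_option autoImplicit false
set_option linter.style.haveILetI false
set_option linter.unusedSectionVars false

open Subgroup
open CfsgLib.Coprime (conj_mem_of_le_normalizer)
open CfsgLib.CFun (core coCore)
open Cfsg (signalizerFamily signalizerInf)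

namespace CfsgLib.SolvSignalizer

universe u

variable {G : Type u} [Group G]

/-- The preimage of the Fitting subgroup of `X / O_q(X)`. -/
def fTilde (q : ℕ) (X : Subgroup G) : Subgroup G :=
  haveI : (Cfsg.pCore q X).Normal := CfsgLib.Coprime.pCore_normal' q
  ((Cfsg.fittingSubgroup (X ⧸ Cfsg.pCore q X)).comap (QuotientGroup.mk' (Cfsg.pCore q X))).map X.subtype

/-- The closure of the conjugates of `Z` by `H`. -/
def conjClosure (H Z : Subgroup G) : Subgroup G :=
  closure {x | ∃ g ∈ H, ∃ z ∈ Z, g * z * g⁻¹ = x}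

/-- The largest `q`-member normalised by `θ(C_G(A))`. -/
structure QMember (p q : ℕ) (A : Subgroup G) (θ : G → Subgroup G) (K : Subgroup G) : Prop where
  mem : K ∈ signalizerFamily p A θ
  group : IsPGroup q K
  inv : signalizerInf A θ ≤ normalizer (K : Set G)
  le_of : ∀ X ∈ signalizerFamily p A θ, IsPGroup q X →
    signalizerInf A θ ≤ normalizer (X : Set G) → X ≤ K

/-- `X` is a maximal member containing `θ(C_G(A))` with trivial `O_{q'}`, and so is every such
maximal member containing `K ⊓ X`. -/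
structure InClass (p q : ℕ) (A : Subgroup G) (θ : G → Subgroup G) (K X : Subgroup G) : Prop where
  max : IsMaxMem p A θ X
  C_le : signalizerInf A θ ≤ X
  coCore_eq : coCore X q = ⊥
  hered : ∀ Y, IsMaxMem p A θ Y → signalizerInf A θ ≤ Y → K ⊓ X ≤ Y → coCore Y q = ⊥

theorem fTilde_le {q : ℕ} {X : Subgroup G} : fTilde q X ≤ X := map_subtype_le _

theorem conjClosure_le {H Z U : Subgroup G} (hZ : Z ≤ U) (hH : H ≤ normalizer (U : Set G)) :
    conjClosure H Z ≤ U := by
  rw [conjClosure, closure_le]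
  rintro _ ⟨g, hg, z, hz, rfl⟩
  exact (mem_normalizer_iff.1 (hH hg) z).1 (hZ hz)

theorem le_conjClosure {H Z : Subgroup G} : Z ≤ conjClosure H Z := fun z hz =>
  subset_closure ⟨1, one_mem _, z, hz, by simp⟩

variable [Finite G]

theorem le_normalizer_conjClosure {H Z : Subgroup G} :
    H ≤ normalizer (conjClosure H Z : Set G) := by
  refine CfsgLib.Invol.le_normalizer_of_forall_conj fun g hg x hx => ?_
  have hle : (conjClosure H Z).map (MulAut.conj g).toMonoidHom ≤ conjClosure H Z := by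
    rw [conjClosure, MonoidHom.map_closure, closure_le]
    rintro _ ⟨_, ⟨k, hk, z, hz, rfl⟩, rfl⟩
    exact subset_closure ⟨g * k, mul_mem hg hk, z, hz, by simp [mul_assoc]⟩
  exact hle ⟨x, hx, rfl⟩

theorem le_normalizer_conjClosure_of {M H Z : Subgroup G} (hH : M ≤ normalizer (H : Set G))
    (hZ : M ≤ normalizer (Z : Set G)) : M ≤ normalizer (conjClosure H Z : Set G) := by
  refine CfsgLib.Invol.le_normalizer_of_forall_conj fun g hg x hx => ?_
  have hle : (conjClosure H Z).map (MulAut.conj g).toMonoidHom ≤ conjClosure H Z := by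
    rw [conjClosure, MonoidHom.map_closure, closure_le]
    rintro _ ⟨_, ⟨k, hk, z, hz, rfl⟩, rfl⟩
    refine subset_closure ⟨g * k * g⁻¹, (mem_normalizer_iff.1 (hH hg) k).1 hk, g * z * g⁻¹,
      (mem_normalizer_iff.1 (hZ hg) z).1 hz, ?_⟩
    simp [mul_assoc]
  exact hle ⟨x, hx, rfl⟩

variable {q : ℕ} [hq : Fact q.Prime] {X : Subgroup G}

theorem core_le_fTilde : core X q ≤ fTilde q X := map_mono fun x hx => by
  haveI : (Cfsg.pCore q X).Normal := CfsgLib.Coprime.pCore_normal' q
  rw [mem_comap, show QuotientGroup.mk' (Cfsg.pCore q X) x = 1 from (QuotientGroup.eq_one_iff x).2 hx]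
  exact one_mem _

theorem normalizer_le_fTilde : normalizer (X : Set G) ≤ normalizer (fTilde q X : Set G) := by
  haveI : (Cfsg.pCore q X).Normal := CfsgLib.Coprime.pCore_normal' q
  haveI := CfsgLib.Coprime.pCore_characteristic (G := X) q
  haveI := Characteristic.comap_quotient_mk
    (CfsgLib.Coprime.fitting_characteristic (G := X ⧸ Cfsg.pCore q X))
  exact CfsgLib.LS.normalizer_le_normalizer_map_char _

/-- An element of `q`-power order of `fTilde q X` lies in `O_q(X)`. -/
theorem mem_core_of_fTilde {x : G} {k : ℕ} (hx : x ∈ fTilde q X) (hk : x ^ q ^ k = 1) :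
    x ∈ core X q := by
  haveI : (Cfsg.pCore q X).Normal := CfsgLib.Coprime.pCore_normal' q
  obtain ⟨y, hy, rfl⟩ := hx
  have hy1 : y ^ q ^ k = 1 := Subtype.ext (by simpa using hk)
  have h1 := CfsgLib.PGroup.QBaer.mem_pCore_of_mem_fitting (q := q) (k := k)
    (x := QuotientGroup.mk' (Cfsg.pCore q X) y) (by rw [← map_pow, hy1, map_one]) hy
  rw [CfsgLib.Coprime.pCore_quotient_eq_bot q, mem_bot] at h1
  exact ⟨y, (QuotientGroup.eq_one_iff y).1 h1, rfl⟩

theorem isPGroup_le_core {P : Subgroup G} (hP : IsPGroup q P) (hle : P ≤ fTilde q X) : P ≤ core X q := by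
  intro x hx
  obtain ⟨k, hk⟩ := hP ⟨x, hx⟩
  exact mem_core_of_fTilde (hle hx) (congrArg Subtype.val hk)

theorem not_dvd_core_relIndex : ¬ q ∣ (core X q).relIndex (fTilde q X) := by
  haveI : (Cfsg.pCore q X).Normal := CfsgLib.Coprime.pCore_normal' q
  set f := QuotientGroup.mk' (Cfsg.pCore q X) with hf
  have hle : Cfsg.pCore q X ≤ (Cfsg.fittingSubgroup (X ⧸ Cfsg.pCore q X)).comap f := fun x hx => by
    rw [mem_comap, show f x = 1 from (QuotientGroup.eq_one_iff x).2 hx]
    exact one_mem _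
  intro hd
  rw [fTilde, core, relIndex_map_map_of_injective _ _ X.subtype_injective] at hd
  have h1 := relIndex_comap (⊥ : Subgroup (X ⧸ Cfsg.pCore q X)) f
    ((Cfsg.fittingSubgroup (X ⧸ Cfsg.pCore q X)).comap f)
  rw [MonoidHom.comap_bot, QuotientGroup.ker_mk', map_comap_eq_self_of_surjective
    (QuotientGroup.mk'_surjective _), relIndex_bot_left] at h1
  rw [h1] at hd
  obtain ⟨z, hz⟩ := exists_prime_orderOf_dvd_card' q hd
  have h2 := CfsgLib.PGroup.QBaer.mem_pCore_of_mem_fitting (q := q) (k := 1) (x := (z : X ⧸ Cfsg.pCore q X))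
    (by
      have h3 := pow_orderOf_eq_one z
      rw [hz] at h3
      rw [pow_one, ← SubmonoidClass.coe_pow, h3]
      rfl) z.2
  rw [CfsgLib.Coprime.pCore_quotient_eq_bot q, mem_bot] at h2
  rw [show z = 1 from Subtype.ext h2, orderOf_one] at hz
  exact hq.out.one_lt.ne hz

theorem not_dvd_relIndex_of_between {Q H : Subgroup G} (hQ : Q = core X q) (hQH : Q ≤ H)
    (hH : H ≤ fTilde q X) : ¬ q ∣ Q.relIndex H := fun hd => by
  have h := relIndex_mul_relIndex Q H (fTilde q X) hQH hH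
  exact not_dvd_core_relIndex (X := X) (q := q) (hQ ▸ (h ▸ dvd_mul_of_dvd_left hd _))

theorem nilpotent_quotient {H : Subgroup G} [((core X q).subgroupOf H).Normal] (hH : H ≤ fTilde q X) :
    Group.IsNilpotent (H ⧸ (core X q).subgroupOf H) := by
  haveI : (Cfsg.pCore q X).Normal := CfsgLib.Coprime.pCore_normal' q
  have hHX : H ≤ X := hH.trans fTilde_le
  let F := Cfsg.fittingSubgroup (X ⧸ Cfsg.pCore q X)
  let g : H →* F :=
    ((QuotientGroup.mk' (Cfsg.pCore q X)).comp (inclusion hHX)).codRestrict F fun x => by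
      obtain ⟨y, hy, e⟩ := hH x.2
      rw [MonoidHom.comp_apply, show inclusion hHX x = y from Subtype.ext e.symm]
      exact hy
  have hker : g.ker = (core X q).subgroupOf H := by
    ext x
    rw [MonoidHom.mem_ker, mem_subgroupOf]
    constructor
    · intro hx
      exact ⟨inclusion hHX x, (QuotientGroup.eq_one_iff _).1 (congrArg Subtype.val hx), rfl⟩
    · rintro ⟨y, hy, e⟩
      refine Subtype.ext ((QuotientGroup.eq_one_iff _).2 ?_)
      rwa [show inclusion hHX x = y from Subtype.ext e.symm]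
  haveI : Group.IsNilpotent F := CfsgLib.Coprime.fitting_isNilpotent
  haveI hrange : Group.IsNilpotent g.range := inferInstance
  exact Group.nilpotent_of_mulEquiv
    (((QuotientGroup.quotientMulEquivOfEq hker.symm).trans (QuotientGroup.quotientKerEquivRange g)).symm)

/-- A subgroup of `X` centralising `fTilde q X` modulo `O_q(X)` lies in it. -/
theorem le_fTilde_of_centralizes [Group.IsSolvable X] {D : Subgroup G} (hD : D ≤ X)
    (hc : ∀ d ∈ D, ∀ f ∈ fTilde q X, d * f * d⁻¹ * f⁻¹ ∈ core X q) : D ≤ fTilde q X := by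
  haveI : (Cfsg.pCore q X).Normal := CfsgLib.Coprime.pCore_normal' q
  haveI : Group.IsSolvable (X ⧸ Cfsg.pCore q X) :=
    Group.isSolvable_of_surjective (QuotientGroup.mk'_surjective _)
  intro d hd
  refine ⟨⟨d, hD hd⟩, CfsgLib.Coprime.centralizer_fitting_le (mem_centralizer_iff.2 fun o ho => ?_), rfl⟩
  obtain ⟨y, rfl⟩ := QuotientGroup.mk'_surjective _ o
  have h1 := hc d hd y ⟨y, ho, rfl⟩
  obtain ⟨z, hz, e⟩ := h1
  have h2 : QuotientGroup.mk' (Cfsg.pCore q X) (⟨d, hD hd⟩ * y * ⟨d, hD hd⟩⁻¹ * y⁻¹) = 1 := by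
    refine (QuotientGroup.eq_one_iff _).2 ?_
    rwa [show (⟨d, hD hd⟩ * y * ⟨d, hD hd⟩⁻¹ * y⁻¹ : X) = z from Subtype.ext e.symm]
  rw [map_mul, map_mul, map_mul, map_inv, map_inv, mul_inv_eq_one, mul_inv_eq_iff_eq_mul] at h2
  exact h2.symm

theorem centralizer_core_le [Group.IsSolvable X] (h : coCore X q = ⊥) :
    X ⊓ centralizer (core X q : Set G) ≤ core X q := by
  rintro x ⟨hxX, hxC⟩
  refine ⟨⟨x, hxX⟩, CfsgLib.Coprime.centralizer_pCore_le ?_ (mem_centralizer_iff.2 fun o ho =>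
    Subtype.ext (mem_centralizer_iff.1 hxC _ ⟨o, ho, rfl⟩)), rfl⟩
  exact (map_eq_bot_iff_of_injective _ X.subtype_injective).1 h

/-- Modulo a normal subgroup, a `q`-group normalises a complement part: the Frattini argument. -/
theorem exists_normalizing {N P Q : Subgroup G} (hP : IsPGroup q P) (hQP : Q ≤ P) (hQN : Q ≤ N)
    (hPN : P ≤ normalizer (N : Set G)) (hi : ¬ q ∣ Q.relIndex N) {g : G}
    (hg : g ∈ normalizer ((N ⊔ P : Subgroup G) : Set G)) :
    ∃ c ∈ N, ∃ x ∈ P, c * x * g ∈ normalizer (P : Set G) := by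
  have hS : CfsgLib.Coprime.IsSylowIn q P (N ⊔ P) := by
    refine ⟨le_sup_right, ?_⟩
    obtain ⟨n, hn⟩ := IsPGroup.iff_card.1 hP
    have h1 := CfsgLib.EABasic.card_sup_mul_card_inf_of_le_normalizer hPN
    rw [sup_comm] at h1
    obtain ⟨k, hk⟩ := IsPGroup.iff_card.1 (hP.to_le (inf_le_left : P ⊓ N ≤ P))
    obtain ⟨j, hj⟩ := IsPGroup.iff_card.1 (hP.to_le hQP)
    have hN := CfsgLib.Coprime.card_mul_relIndex hQN
    rw [hj] at hN
    have hkj : j ≤ k := by
      have hd := card_dvd_of_le (le_inf hQP hQN)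
      rw [hj, hk] at hd
      exact (Nat.pow_dvd_pow_iff_le_right hq.out.one_lt).1 hd
    have hfN : (Nat.card N).factorization q = j := by
      have hri : Q.relIndex N ≠ 0 := index_ne_zero_of_finite
      rw [← hN, Nat.factorization_mul (pow_ne_zero j hq.out.ne_zero) hri,
        Finsupp.add_apply, Nat.Prime.factorization_pow hq.out, Finsupp.single_eq_same,
        Nat.factorization_eq_zero_of_not_dvd hi, add_zero]
    have hkj' : k ≤ j := by
      have hd := card_dvd_of_le (inf_le_right : P ⊓ N ≤ N)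
      rw [hk] at hd
      exact hfN ▸ (hq.out.pow_dvd_iff_le_factorization Nat.card_pos.ne').1 hd
    rw [hk, hn] at h1
    have h2 := congrArg (fun m => Nat.factorization m q) h1
    simp only [Nat.factorization_mul Nat.card_pos.ne' (pow_ne_zero k hq.out.ne_zero),
      Nat.factorization_mul (pow_ne_zero n hq.out.ne_zero) Nat.card_pos.ne', Finsupp.add_apply,
      Nat.Prime.factorization_pow hq.out, Finsupp.single_eq_same, hfN] at h2
    rw [hn]
    exact congrArg _ (by omega)
  obtain ⟨l, hl, hlg⟩ := (hS.conjBy hg).exists_conj hS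
  obtain ⟨c, hc, x, hx, rfl⟩ := CfsgLib.Coprime.mem_sup_exists hPN hl
  refine ⟨c, hc, x, hx, CfsgLib.Coprime.conjBy_eq_self_iff.1 ?_⟩
  conv_rhs => rw [← hlg]
  simp only [CfsgLib.Coprime.conjBy, map_map]
  congr 1
  ext y
  simp [mul_assoc]

variable {p : ℕ} [hp : Fact p.Prime] {A K : Subgroup G} {θ : G → Subgroup G}

namespace SFCtx

variable (h : SFCtx p A θ)

include h

theorem max_ne_bot {Z : Subgroup G} (hZ : IsMaxMem p A θ Z) : Z ≠ ⊥ := by
  rintro rfl
  obtain ⟨b, hb, hb1, hne⟩ := h.theta_ne_bot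
  exact hne (hZ.2 _ (h.theta_mem hb hb1) bot_le)

theorem class_core_ne_bot {X : Subgroup G} (hX : InClass p q A θ K X) : core X q ≠ ⊥ := by
  intro e
  haveI : Group.IsSolvable X := hX.max.1.1
  refine h.max_ne_bot hX.max (le_bot_iff.1 (le_trans (fun x hx => centralizer_core_le hX.coCore_eq
    ⟨hx, ?_⟩) e.le))
  exact mem_centralizer_iff.2 fun y hy => by
    rw [e, SetLike.mem_coe, mem_bot] at hy
    simp [hy]

theorem class_qp {X : Subgroup G} (hX : InClass p q A θ K X) : q ≠ p := by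
  obtain ⟨n, hn⟩ := IsPGroup.iff_card.1 (CfsgLib.CFun.isPGroup_core (H := X) (s := q))
  rcases n with - | n
  · exact absurd (card_eq_one.1 (hn.trans (pow_zero q))) (h.class_core_ne_bot hX)
  · exact h.prime_ne_p (h.core_mem hX.max.1 q) (hn ▸ dvd_pow_self q (Nat.succ_ne_zero n))

theorem core_le_K (hK : QMember p q A θ K) {X : Subgroup G} (hX : InClass p q A θ K X) :
    core X q ≤ K :=
  hK.le_of _ (h.core_mem hX.max.1 q) CfsgLib.CFun.isPGroup_core
    (hX.C_le.trans CfsgLib.CFun.le_normalizer_core)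

theorem R_inter_fTilde_le (hK : QMember p q A θ K) {X : Subgroup G} :
    K ⊓ fTilde q X ≤ core X q :=
  isPGroup_le_core (hK.group.to_le inf_le_left) inf_le_right

/-- The configuration on an elementary subgroup. -/
theorem class_secData (hK : QMember p q A θ K) {X H R U : Subgroup G} (hX : InClass p q A θ K X)
    [((core X q).subgroupOf H).Normal] (hQH : core X q ≤ H) (hH : H ≤ fTilde q X) (hR : R ≤ K ⊓ X)
    (hHA : A ≤ normalizer (H : Set G)) (hRH : R ≤ normalizer (H : Set G)) (hAR : A ≤ normalizer (R : Set G))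
    (hCR : signalizerInf A θ ≤ normalizer (R : Set G))
    (hU : Cfsg.IsElementaryAbelian q U) {D : Subgroup G}
    (hAU : A ≤ stab U D) (hHU : H ≤ stab U D) (hRU : R ≤ stab U D)
    (hQU : ∀ x ∈ core X q, ∀ v ∈ U, x * v * x⁻¹ * v⁻¹ ∈ D) :
    SecData p q U D A H R (core X q) := by
  have hHm : H ∈ signalizerFamily p A θ := h.mem_of_le hX.max.1 (hH.trans fTilde_le) hHA
  refine
    { velem := hU
      hA := hAU
      hH := hHU
      hR := hRU
      hAH := hHA
      hRH := hRH
      hAR := hAR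
      pA := h.pA
      commA := fun a ha b hb => h.commA ha hb
      qR := hK.group.to_le (hR.trans inf_le_left)
      pH := hHm.2.1
      hpq := (h.class_qp hX).symm
      QH := hQH
      Qn := inferInstance
      nil := nilpotent_quotient hH
      qi := not_dvd_relIndex_of_between rfl hQH hH
      Qtriv := hQU
      fix := ?_ }
  intro x hx r hr v hv
  refine hQU _ (h.R_inter_fTilde_le hK ⟨?_, ?_⟩) v hv
  · exact (hR.trans inf_le_left) (mul_mem ((mem_normalizer_iff.1
      (hCR (h.fixA_le hHm hx)) r).1 hr) (inv_mem hr))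
  · rw [show x * r * x⁻¹ * r⁻¹ = x * (r * x⁻¹ * r⁻¹) by group]
    exact hH (mul_mem hx.1 ((mem_normalizer_iff.1 (hRH hr) _).1 (inv_mem hx.1)))

/-- An elementary subgroup of `R` moving the closure of the conjugates of its central part
little centralises `fTilde` modulo the kernel. -/
theorem class_offender (hK : QMember p q A θ K) {X R Z : Subgroup G} (hX : InClass p q A θ K X)
    (hR : R ≤ K ⊓ X) (hAR : A ≤ normalizer (R : Set G))
    (hCR : signalizerInf A θ ≤ normalizer (R : Set G))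
    (hZQ : Z ≤ omegaZ q (core X q)) (hRZ : R ≤ centralizer (Z : Set G))
    (hAZ : A ≤ normalizer (Z : Set G)) {k : ℕ} (hk : k ≤ 1) {P E : Subgroup G}
    (hQP : core X q ≤ P) (hPR : P ≤ R) (hE : IsBig q k P E) :
    ∀ g ∈ fTilde q X, ∀ e ∈ E,
      g * e * g⁻¹ * e⁻¹ ∈ centralizer (conjClosure (fTilde q X) Z : Set G) := by
  haveI : Group.IsSolvable X := hX.max.1.1
  set H := fTilde q X with hH
  set U := conjClosure H Z with hU
  have hFX : H ≤ normalizer (core X q : Set G) := fTilde_le.trans CfsgLib.CFun.le_normalizer_core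
  haveI : ((core X q).subgroupOf H).Normal :=
    (normal_subgroupOf_iff_le_normalizer core_le_fTilde).2 hFX
  have hUQ : U ≤ omegaZ q (core X q) :=
    conjClosure_le hZQ (hFX.trans normalizer_le_omegaZ)
  have hUe : Cfsg.IsElementaryAbelian q U :=
    ⟨⟨⟨fun a b => Subtype.ext (omegaZ_comm (a : G) (hUQ a.2) (b : G) (hUQ b.2))⟩⟩,
      fun a ha => (hUQ ha).2.2⟩
  haveI : ((⊥ : Subgroup G).subgroupOf U).Normal := by
    rw [bot_subgroupOf]; infer_instance
  have hstab : ∀ {M : Subgroup G}, M ≤ normalizer (U : Set G) → M ≤ stab U ⊥ := fun hM =>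
    le_inf hM (by rw [normalizer_eq_top]; exact le_top)
  have hXH : X ≤ normalizer (H : Set G) := le_normalizer.trans normalizer_le_fTilde
  have hHA : A ≤ normalizer (H : Set G) := (h.le_normA hX.max.1).trans normalizer_le_fTilde
  have hRH : R ≤ normalizer (H : Set G) := (hR.trans inf_le_right).trans hXH
  have hZR : R ≤ normalizer (Z : Set G) := hRZ.trans (CfsgLib.Coprime.centralizer_le_normalizer_self Z)
  have hQU : ∀ x ∈ core X q, ∀ v ∈ U, x * v * x⁻¹ * v⁻¹ ∈ (⊥ : Subgroup G) := fun x hx v hv => by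
    rw [mem_bot, mul_inv_eq_one, mul_inv_eq_iff_eq_mul]
    exact mem_centralizer_iff.1 (hUQ hv).2.1 x hx
  have hdata := h.class_secData hK hX core_le_fTilde le_rfl hR hHA hRH hAR hCR hUe
    (hstab (le_normalizer_conjClosure_of hHA hAZ)) (hstab le_normalizer_conjClosure)
    (hstab (le_normalizer_conjClosure_of hRH hZR)) hQU
  exact offender_of_sec hdata le_conjClosure hRZ (fun W hZW hWU hHW =>
    le_antisymm hWU (conjClosure_le hZW hHW)) hk (hE.1.trans hPR) hE.2.1
    (loss_le ((hUQ.trans omegaZ_le).trans hQP) hUe hE)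

/-- If a class member `Y` contains `fTilde q X` and `K ⊓ X`, it is `X`. -/
theorem class_final (hK : QMember p q A θ K) {X Y : Subgroup G} (hX : InClass p q A θ K X)
    (hY : InClass p q A θ K Y) (hFY : fTilde q X ≤ Y) (hRY : K ⊓ X ≤ Y) : X = Y := by
  haveI : Group.IsSolvable X := hX.max.1.1
  haveI : Group.IsSolvable Y := hY.max.1.1
  set Q := core X q with hQ
  set Q' := core Y q with hQ'
  have hQR : Q ≤ K ⊓ X := le_inf (h.core_le_K hK hX) CfsgLib.CFun.core_le
  have hQY : Q ≤ Y := hQR.trans hRY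
  have hQm := h.core_mem hX.max.1 q
  have hQ1 := h.class_core_ne_bot hX
  have hQq : IsPGroup q Q := CfsgLib.CFun.isPGroup_core
  have hXF : X ≤ normalizer (fTilde q X : Set G) := le_normalizer.trans normalizer_le_fTilde
  -- `O_q(Y) ≤ O_q(X)`
  have hD : Q' ⊓ X ≤ Q := by
    refine isPGroup_le_core (CfsgLib.CFun.isPGroup_core.to_le inf_le_left)
      (le_fTilde_of_centralizes inf_le_right fun d hd f hf => ?_)
    have h1 : d * f * d⁻¹ * f⁻¹ ∈ Q' := by
      rw [show d * f * d⁻¹ * f⁻¹ = d * (f * d⁻¹ * f⁻¹) by group]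
      exact mul_mem hd.1 ((mem_normalizer_iff.1 (CfsgLib.CFun.le_normalizer_core (hFY hf)) _).1
        (inv_mem hd.1))
    have h2 : d * f * d⁻¹ * f⁻¹ ∈ fTilde q X :=
      mul_mem ((mem_normalizer_iff.1 (hXF hd.2) f).1 hf) (inv_mem hf)
    obtain ⟨k, hk⟩ := (CfsgLib.CFun.isPGroup_core (H := Y) (s := q)) ⟨_, h1⟩
    exact mem_core_of_fTilde h2 (congrArg Subtype.val hk)
  have hQ'Q : Q' ≤ Q := by
    by_contra hne
    have hQn : Q ≤ normalizer (Q' : Set G) := hQY.trans CfsgLib.CFun.le_normalizer_core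
    refine CfsgLib.Invol.normalizer_grows (Q := Q' ⊔ Q)
      (CfsgLib.Invol.isPGroup_sup CfsgLib.CFun.isPGroup_core hQq hQn) le_sup_right
      (fun e => hne (le_sup_left.trans e.ge)) ?_
    rintro z ⟨hzN, hz⟩
    obtain ⟨x, hx, y, hy, rfl⟩ := CfsgLib.Coprime.mem_sup_exists hQn hz
    have hxN : x ∈ normalizer (Q : Set G) := by
      have hzN' : x * y ∈ normalizer (Q : Set G) := hzN
      have := mul_mem hzN' (inv_mem (le_normalizer hy : y ∈ normalizer (Q : Set G)))
      rwa [mul_inv_cancel_right] at this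
    have hxX : x ∈ X := h.le_max hX.max CfsgLib.CFun.core_le (h.le_normA hQm) hQ1
      CfsgLib.CFun.le_normalizer_core (h.inf_mem (h.core_mem hY.max.1 q)
        ((h.le_normA hQm).trans le_normalizer)) inf_le_right ⟨hx, hxN⟩
    exact mul_mem (hD ⟨hx, hxX⟩) hy
  -- the largest elementary subgroups
  set Z := omegaZ q Q with hZ
  have hZQ' : Z ≤ Q' := fun z hz => centralizer_core_le hY.coCore_eq
    ⟨hQY hz.1, centralizer_le hQ'Q hz.2.1⟩
  have hZO : Z ≤ omegaZ q Q' := fun z hz => ⟨hZQ' hz, centralizer_le hQ'Q hz.2.1, hz.2.2⟩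
  have hQZ : Q ≤ centralizer (Z : Set G) := by
    rw [le_centralizer_iff]
    exact omegaZ_le_centralizer
  have hAZ : A ≤ normalizer (Z : Set G) := (h.le_normA hQm).trans normalizer_le_omegaZ
  have hCQ : signalizerInf A θ ≤ normalizer (Q : Set G) := hX.C_le.trans CfsgLib.CFun.le_normalizer_core
  set F := fTilde q Y with hF
  have hFm : F ∈ signalizerFamily p A θ :=
    h.mem_of_le hY.max.1 fTilde_le ((h.le_normA hY.max.1).trans normalizer_le_fTilde)
  have hCZ : F ⊓ centralizer (conjClosure F Z : Set G) ≤ X := by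
    refine h.le_max hX.max (omegaZ_le.trans CfsgLib.CFun.core_le) hAZ (omegaZ_ne_bot hQq hQ1)
      (CfsgLib.CFun.le_normalizer_core.trans normalizer_le_omegaZ) ?_ ?_
    · exact h.inf_mem hFm ((le_normalizer_conjClosure_of (h.le_normA hFm) hAZ).trans
        (CfsgLib.Coprime.normalizer_le_normalizer_centralizer _))
    · exact (inf_le_right.trans (centralizer_le le_conjClosure)).trans
        (CfsgLib.Coprime.centralizer_le_normalizer_self _)
  haveI : (Cfsg.pCore q Y).Normal := CfsgLib.Coprime.pCore_normal' q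
  have hJ : eJ q 0 Q ≤ Q' := by
    refine iSup_le fun ⟨E, hE⟩ e he => ?_
    refine mem_core_of_fTilde (k := 1) ?_ (by rw [pow_one]; exact hE.2.1.2 e he)
    refine le_fTilde_of_centralizes (zpowers_le.2 (hQY (hE.1 he))) ?_ (mem_zpowers e)
    have hoff : ∀ g ∈ F, g * e * g⁻¹ * e⁻¹ ∈ centralizer (conjClosure F Z : Set G) := fun g hg =>
      h.class_offender hK hY (le_inf (h.core_le_K hK hX) hQY) (h.le_normA hQm) hCQ hZO hQZ hAZ
        (Nat.zero_le 1) hQ'Q le_rfl hE g hg e he
    -- conjugation by `e` on `fTilde q Y` modulo `O_q(Y)`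
    have hYQ' : Y ≤ normalizer (Q' : Set G) := CfsgLib.CFun.le_normalizer_core
    have heY : e ∈ Y := hQY (hE.1 he)
    have hmain : ∀ g ∈ F, e * g * e⁻¹ * g⁻¹ ∈ Q' := by
      intro g hg
      set w := g * e * g⁻¹ * e⁻¹ with hw
      have hwF : w ∈ F := by
        rw [hw, show g * e * g⁻¹ * e⁻¹ = g * (e * g⁻¹ * e⁻¹) by group]
        exact mul_mem hg ((mem_normalizer_iff.1 (normalizer_le_fTilde (le_normalizer heY)) _).1
          (inv_mem hg))
      have hwX : w ∈ X := hCZ ⟨hwF, hoff g hg⟩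
      have hfix : e * w * e⁻¹ * w⁻¹ ∈ Q' := by
        refine h.R_inter_fTilde_le hK (mem_inf.2 ⟨h.core_le_K hK hX ?_,
          mul_mem ((mem_normalizer_iff.1 (normalizer_le_fTilde (le_normalizer heY)) _).1 hwF) (inv_mem hwF)⟩)
        rw [show e * w * e⁻¹ * w⁻¹ = e * (w * e⁻¹ * w⁻¹) by group]
        exact mul_mem (hE.1 he) ((mem_normalizer_iff.1 (CfsgLib.CFun.le_normalizer_core hwX) _).1
          (inv_mem (hE.1 he)))
      -- `w⁻¹` is fixed and `e ^ q = 1`
      let f := QuotientGroup.mk' (Cfsg.pCore q Y)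
      have hone : ∀ {y : Y}, (y : G) ∈ Q' → f y = 1 := by
        rintro y ⟨z, hz, ez⟩
        rw [show y = z from Subtype.ext ez.symm]
        exact (QuotientGroup.eq_one_iff z).2 hz
      set g' : Y := ⟨g, fTilde_le hg⟩
      set e' : Y := ⟨e, heY⟩
      set c := f (e' * g' * e'⁻¹ * g'⁻¹) with hc
      have hec : f e' * c * (f e')⁻¹ = c := by
        have h1 := hone (y := e' * (g' * e' * g'⁻¹ * e'⁻¹) * e'⁻¹ * (g' * e' * g'⁻¹ * e'⁻¹)⁻¹) hfix
        rw [map_mul, map_mul, map_mul, map_inv, map_inv] at h1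
        have h2 : c = (f (g' * e' * g'⁻¹ * e'⁻¹))⁻¹ := by
          rw [hc, ← map_inv]; congr 1; group
        rw [mul_inv_eq_one] at h1
        rw [h2]
        calc _ = (f e' * f (g' * e' * g'⁻¹ * e'⁻¹) * (f e')⁻¹)⁻¹ := by group
          _ = _ := by rw [h1]
      have hiter : ∀ n : ℕ, f e' ^ n * f g' * (f e' ^ n)⁻¹ = c ^ n * f g' := by
        intro n
        induction n with
        | zero => simp
        | succ n ih =>
          rw [pow_succ' (f e')]
          calc _ = f e' * (f e' ^ n * f g' * (f e' ^ n)⁻¹) * (f e')⁻¹ := by group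
            _ = (f e' * c * (f e')⁻¹) ^ n * (f e' * f g' * (f e')⁻¹) := by rw [ih, conj_pow]; group
            _ = _ := by
              rw [hec, pow_succ, hc, map_mul, map_mul, map_mul, map_inv, map_inv]
              group
      have hq1 := hiter q
      rw [← map_pow, show e' ^ q = 1 from Subtype.ext (hE.2.1.2 e he), map_one] at hq1
      simp only [one_mul, inv_one, mul_one] at hq1
      have hcq : c ^ q = 1 := mul_eq_right.1 hq1.symm
      have hmem : ((e' * g' * e'⁻¹ * g'⁻¹ : Y) : G) ∈ F :=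
        mul_mem ((mem_normalizer_iff.1 (normalizer_le_fTilde (le_normalizer heY)) g).1 hg) (inv_mem hg)
      have hqp : (e * g * e⁻¹ * g⁻¹) ^ q ∈ Q' := by
        refine ⟨(e' * g' * e'⁻¹ * g'⁻¹) ^ q, (QuotientGroup.eq_one_iff _).1 ?_, rfl⟩
        show f _ = 1
        rw [map_pow]; exact hcq
      obtain ⟨j, hj⟩ := (CfsgLib.CFun.isPGroup_core (H := Y) (s := q)) ⟨_, hqp⟩
      refine mem_core_of_fTilde (k := j + 1) hmem ?_
      rw [pow_succ', pow_mul]
      exact congrArg Subtype.val hj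
    intro d hd g hg
    obtain ⟨n, rfl⟩ := hd
    let M : Subgroup G :=
      { carrier := {d | d ∈ Y ∧ ∀ g ∈ F, d * g * d⁻¹ * g⁻¹ ∈ Q'}
        one_mem' := ⟨one_mem _, fun g _ => by simp⟩
        mul_mem' := fun {x y} hx hy => ⟨mul_mem hx.1 hy.1, fun g hg => by
          rw [show x * y * g * (x * y)⁻¹ * g⁻¹ =
            (x * (y * g * y⁻¹ * g⁻¹) * x⁻¹) * (x * g * x⁻¹ * g⁻¹) by group]
          exact mul_mem ((mem_normalizer_iff.1 (hYQ' hx.1) _).1 (hy.2 g hg)) (hx.2 g hg)⟩
        inv_mem' := fun {x} hx => ⟨inv_mem hx.1, fun g hg => by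
          rw [show x⁻¹ * g * x⁻¹⁻¹ * g⁻¹ = x⁻¹ * (x * g * x⁻¹ * g⁻¹)⁻¹ * x by group]
          exact (mem_normalizer_iff''.1 (hYQ' hx.1) _).1 (inv_mem (hx.2 g hg))⟩ }
    exact ((zpowers_le (H := M)).2 ⟨heY, hmain⟩ ⟨n, rfl⟩).2 g hg
  have hJeq := eJ_eq_of_le (q := q) (le_refl 0) hJ hQ'Q
  have hJne : eJ q 0 Q ≠ ⊥ := fun e => by
    obtain ⟨E, hE, -⟩ := exists_isBig (q := q) Q
    exact omegaZ_ne_bot hQq hQ1 (le_bot_iff.1 (((omegaZ_le_big hE).trans hE.le_eJ).trans e.le))
  have hYX : Y ≤ X := h.le_max hX.max (eJ_le.trans CfsgLib.CFun.core_le)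
    ((h.le_normA hQm).trans normalizer_le_eJ) hJne
    (CfsgLib.CFun.le_normalizer_core.trans normalizer_le_eJ) hY.max.1 (by
      rw [← hJeq]
      exact CfsgLib.CFun.le_normalizer_core.trans normalizer_le_eJ)
  exact hY.max.2 X hX.max.1 hYX

end SFCtx

end CfsgLib.SolvSignalizer
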