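import Cfsg.Agent.Lib.SolvSignalizer.HeisEnd
import Cfsg.Agent.Lib.LocalStructure.FStar

/-!
# Automorphisms of coprime prime orders of a symplectic group of order sixteen
-/

set_option autoImplicit false
set_option linter.style.haveILetI false
set_option linter.unusedSectionVars false

open Subgroup

namespace CfsgLib.SolvSignalizer

universe u

/-- A symplectic relation: `o e f` says that `e` and `f` are orthogonal. -/
structure IsSymp {Q : Type u} [Group Q] (o : Q → Q → Prop) : Prop where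
  self : ∀ e, o e e
  symm : ∀ e f, o e f → o f e
  add : ∀ e f g, o e (f * g) ↔ (o e f ↔ o e g)
  nondeg : ∀ e, (∀ f, o e f) → e = 1
  exp : ∀ e : Q, e * e = 1

variable {Q : Type u} [Group Q]

/-- The fixed subgroup of an automorphism. -/
def fixSub (σ : MulAut Q) : Subgroup Q := MonoidHom.eqLocus σ.toMonoidHom (MonoidHom.id Q)

theorem mem_fixSub {σ : MulAut Q} {e : Q} : e ∈ fixSub σ ↔ σ e = e := Iff.rfl

variable [Finite Q]

theorem fixSub_card {s : ℕ} [hs : Fact s.Prime] (σ : MulAut Q) (h : σ ^ s = 1) :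
    Nat.card Q ≡ Nat.card (fixSub σ) [MOD s] :=
  card_fixed_modEq σ h

theorem eq_one_of_fixSub_top {σ : MulAut Q} (h : Nat.card (fixSub σ) = Nat.card Q) : σ = 1 := by
  have e : fixSub σ = ⊤ := Subgroup.eq_top_of_card_eq _ h
  exact MulEquiv.ext fun y => mem_fixSub.1 (e ▸ mem_top y)

theorem fixSub_card_cases (hQ : Nat.card Q = 16) {σ : MulAut Q} (h1 : σ ≠ 1) :
    Nat.card (fixSub σ) = 1 ∨ Nat.card (fixSub σ) = 2 ∨ Nat.card (fixSub σ) = 4 ∨
      Nat.card (fixSub σ) = 8 := by
  have hne : Nat.card (fixSub σ) ≠ 16 := fun e => h1 (eq_one_of_fixSub_top (e.trans hQ.symm))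
  have hd : Nat.card (fixSub σ) ∣ 2 ^ 4 :=
    (card_subgroup_dvd_card _).trans (dvd_of_eq (hQ.trans (by norm_num)))
  obtain ⟨i, hi, e⟩ := (Nat.dvd_prime_pow Nat.prime_two).1 hd
  rw [e] at hne ⊢
  interval_cases i <;> simp_all

theorem fixSub_card_ne_two {o : Q → Q → Prop} (ho : IsSymp o) (hQ : Nat.card Q = 16) {s : ℕ}
    [hs : Fact s.Prime] (hs2 : s ≠ 2) {σ : MulAut Q} (hσ : σ ^ s = 1)
    (hpres : ∀ e f, o (σ e) (σ f) ↔ o e f) : Nat.card (fixSub σ) ≠ 2 := by
  classical
  intro h2
  have hcomm : ∀ a b : Q, a * b = b * a := fun a b => by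
    calc a * b = (b * b) * (a * b) * (a * a) := by rw [ho.exp, ho.exp, one_mul, mul_one]
      _ = b * ((b * a) * (b * a)) * a := by group
      _ = b * a := by rw [ho.exp, mul_one]
  obtain ⟨c, hc, hc1⟩ : ∃ c ∈ fixSub σ, c ≠ 1 :=
    (Subgroup.ne_bot_iff_exists_ne_one.1 fun e => by rw [e, Subgroup.card_bot] at h2; omega).imp'
      Subtype.val (fun a ha => ⟨a.2, fun e => ha (Subtype.ext e)⟩)
  -- the subgroup orthogonal to `c`
  let O : Subgroup Q :=
    { carrier := {f | o c f}
      one_mem' := by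
        have h := ho.add c c c
        rw [ho.exp c] at h
        exact h.2 Iff.rfl
      mul_mem' := fun {a b} ha hb => (ho.add c a b).2 ⟨fun _ => hb, fun _ => ha⟩
      inv_mem' := fun {a} ha => by rwa [inv_eq_of_mul_eq_one_left (ho.exp a)] }
  let D : Q →* Q :=
    { toFun := fun g => σ g * g⁻¹
      map_one' := by simp
      map_mul' := fun a b => by
        rw [map_mul, mul_inv_rev]
        calc σ a * σ b * (b⁻¹ * a⁻¹) = σ a * (σ b * b⁻¹ * a⁻¹) := by group
          _ = σ a * (a⁻¹ * (σ b * b⁻¹)) := by rw [hcomm a⁻¹]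
          _ = _ := by group }
  have hker : D.ker = fixSub σ := by
    ext g
    rw [MonoidHom.mem_ker, mem_fixSub]
    exact mul_inv_eq_one
  have hrange : Nat.card D.range = 8 := by
    have h := card_eq_card_quotient_mul_card_subgroup D.ker
    rw [Nat.card_congr (QuotientGroup.quotientKerEquivRange D).toEquiv, hker, hQ, h2] at h
    omega
  have hO : ∀ f : Q, o c f := by
    have hle : D.range ≤ O := by
      rintro _ ⟨g, rfl⟩
      show o c (σ g * g⁻¹)
      rw [ho.add, inv_eq_of_mul_eq_one_left (ho.exp g)]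
      have e := hpres c g
      rw [mem_fixSub.1 hc] at e
      exact e
    have hcR : c ∉ D.range := by
      rintro ⟨g, hg⟩
      have hg' : σ g = c * g := mul_inv_eq_iff_eq_mul.1 hg
      have hiter : ∀ n : ℕ, (σ ^ n) g = c ^ n * g := by
        intro n
        induction n with
        | zero => simp
        | succ n ih =>
          rw [pow_succ', MulAut.mul_apply, ih, map_mul, map_pow, mem_fixSub.1 hc, hg', ← mul_assoc,
            ← pow_succ]
      have e := hiter s
      rw [hσ, MulAut.one_apply, right_eq_mul] at e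
      obtain ⟨j, hj⟩ := hs.out.odd_of_ne_two hs2
      rw [hj, pow_succ, pow_mul, pow_two, ho.exp, one_pow, one_mul] at e
      exact hc1 e
    have hlt : D.range < O := lt_of_le_of_ne hle fun e => hcR (e.ge (ho.self c))
    obtain ⟨i, hi, e⟩ := (Nat.dvd_prime_pow Nat.prime_two).1
      ((card_subgroup_dvd_card O).trans (dvd_of_eq (hQ.trans (by norm_num : 16 = 2 ^ 4))))
    have h8 : 8 < Nat.card O := hrange ▸ (Set.ncard_lt_ncard hlt (Set.toFinite _) : _)
    have htop : O = ⊤ := Subgroup.eq_top_of_card_eq O (by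
      rw [e] at h8 ⊢
      rw [hQ]
      interval_cases i <;> simp_all)
    exact fun f => (htop ▸ mem_top f : f ∈ O)
  exact hc1 (ho.nondeg c hO)

theorem prime_three_or_five {o : Q → Q → Prop} (ho : IsSymp o) (hQ : Nat.card Q = 16) {s : ℕ}
    [hs : Fact s.Prime] (hs2 : s ≠ 2) {σ : MulAut Q} (hσ : σ ^ s = 1) (hσ1 : σ ≠ 1)
    (hpres : ∀ e f, o (σ e) (σ f) ↔ o e f) : s = 3 ∨ s = 5 := by
  have h := fixSub_card (s := s) σ hσ
  rw [hQ] at h
  have hd := (Nat.modEq_iff_dvd' (b := 16) (a := Nat.card (fixSub σ))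
    ((card_subgroup_dvd_card (fixSub σ)).trans (dvd_of_eq hQ) |> Nat.le_of_dvd (by norm_num))).1 h.symm
  rcases fixSub_card_cases hQ hσ1 with e | e | e | e
  · rw [e] at hd
    have : s ∣ 3 * 5 := hd
    rcases hs.out.dvd_mul.1 this with h' | h'
    · exact Or.inl ((Nat.prime_dvd_prime_iff_eq hs.out Nat.prime_three).1 h')
    · exact Or.inr ((Nat.prime_dvd_prime_iff_eq hs.out (by norm_num)).1 h')
  · exact absurd e (fixSub_card_ne_two ho hQ hs2 hσ hpres)
  · rw [e] at hd
    have : s ∣ 4 * 3 := hd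
    rcases hs.out.dvd_mul.1 this with h' | h'
    · exact absurd ((Nat.prime_dvd_prime_iff_eq hs.out Nat.prime_two).1
        (hs.out.dvd_of_dvd_pow (show s ∣ 2 ^ 2 from h'))) hs2
    · exact Or.inl ((Nat.prime_dvd_prime_iff_eq hs.out Nat.prime_three).1 h')
  · rw [e] at hd
    exact absurd ((Nat.prime_dvd_prime_iff_eq hs.out Nat.prime_two).1
      (hs.out.dvd_of_dvd_pow (show s ∣ 2 ^ 3 from hd))) hs2

theorem three_five_fixed (hQ : Nat.card Q = 16) {o : Q → Q → Prop} (ho : IsSymp o) {s : ℕ}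
    [hs : Fact s.Prime] (hs35 : s = 3 ∨ s = 5) {σ : MulAut Q} (hσ : σ ^ s = 1) (hσ1 : σ ≠ 1)
    (hpres : ∀ e f, o (σ e) (σ f) ↔ o e f) :
    (s = 5 → Nat.card (fixSub σ) = 1) ∧ Nat.card (fixSub σ) ≤ 4 := by
  have h := fixSub_card (s := s) σ hσ
  rw [hQ] at h
  rcases fixSub_card_cases hQ hσ1 with e | e | e | e <;> rw [e] at h ⊢
  · exact ⟨fun _ => rfl, by norm_num⟩
  · exact absurd e (fixSub_card_ne_two ho hQ (by omega) hσ hpres)
  · exact ⟨fun h5 => by subst h5; exact absurd h (by decide), le_rfl⟩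
  · exfalso
    rcases hs35 with rfl | rfl <;> exact absurd h (by decide)

/-- Commuting automorphisms of orders three and five cannot preserve the relation. -/
theorem no_commuting_three_five {o : Q → Q → Prop} (ho : IsSymp o) (hQ : Nat.card Q = 16)
    {u v : MulAut Q} (hu : u ^ 3 = 1) (hu1 : u ≠ 1) (hv : v ^ 5 = 1) (hv1 : v ≠ 1)
    (huv : Commute u v) (hou : ∀ e f, o (u e) (u f) ↔ o e f)
    (hov : ∀ e f, o (v e) (v f) ↔ o e f) : False := by
  classical
  haveI : Fact (Nat.Prime 3) := ⟨Nat.prime_three⟩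
  haveI : Fact (Nat.Prime 5) := ⟨by norm_num⟩
  have huv' : ∀ y, u (v y) = v (u y) := fun y => MulEquiv.congr_fun huv.eq y
  have hvf : fixSub v = ⊥ :=
    Subgroup.card_eq_one.1 ((three_five_fixed hQ ho (s := 5) (Or.inr rfl) hv hv1 hov).1 rfl)
  have hvfix : ∀ e, v e = e → e = 1 := fun e he => mem_bot.1 (hvf ▸ mem_fixSub.2 he)
  have huf : fixSub u = ⊥ := by
    by_contra hne
    obtain ⟨e, he, he1⟩ : ∃ e ∈ fixSub u, e ≠ 1 :=
      (Subgroup.ne_bot_iff_exists_ne_one.1 hne).imp' Subtype.val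
        (fun a ha => ⟨a.2, fun e => ha (Subtype.ext e)⟩)
    -- `v` permutes the fixed points of `u` without fixed points other than one
    let v' : MulAut (fixSub u) :=
      { toFun := fun y => ⟨v y, mem_fixSub.2 (by rw [huv', mem_fixSub.1 y.2])⟩
        invFun := fun y => ⟨v.symm y, mem_fixSub.2 (v.injective (by
          rw [← huv', MulEquiv.apply_symm_apply, mem_fixSub.1 y.2]))⟩
        left_inv := fun y => Subtype.ext (v.symm_apply_apply y)
        right_inv := fun y => Subtype.ext (v.apply_symm_apply y)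
        map_mul' := fun a b => Subtype.ext (map_mul v (a : Q) b) }
    have hpow : ∀ (n : ℕ) (y : fixSub u), ((v' ^ n) y : Q) = (v ^ n) y := by
      intro n
      induction n with
      | zero => intro y; rfl
      | succ n ih =>
        intro y
        rw [pow_succ', pow_succ', MulAut.mul_apply, MulAut.mul_apply, ← ih]
        rfl
    have h := fixSub_card (s := 5) v' (MulEquiv.ext fun y => Subtype.ext (by rw [hpow, hv]; rfl))
    have hv'1 : Nat.card (fixSub v') = 1 := by
      rw [Subgroup.card_eq_one, eq_bot_iff]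
      exact fun y hy => mem_bot.2 (Subtype.ext (hvfix _ (congrArg Subtype.val (mem_fixSub.1 hy))))
    rw [hv'1] at h
    have hle := (three_five_fixed hQ ho (s := 3) (Or.inl rfl) hu hu1 hou).2
    have h2 : 2 ≤ Nat.card (fixSub u) := by
      haveI : Nontrivial (fixSub u) := (Subgroup.nontrivial_iff_ne_bot _).2 hne
      exact Finite.one_lt_card
    interval_cases hc : Nat.card (fixSub u) <;> exact absurd h (by decide)
  have hufix : ∀ e, u e = e → e = 1 := fun e he => mem_bot.1 (huf ▸ mem_fixSub.2 he)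
  have hcomm : ∀ a b : Q, a * b = b * a := fun a b => by
    calc a * b = (b * b) * (a * b) * (a * a) := by rw [ho.exp, ho.exp, one_mul, mul_one]
      _ = b * ((b * a) * (b * a)) * a := by group
      _ = b * a := by rw [ho.exp, mul_one]
  -- the product of the two generates a regular group on the fifteen nontrivial elements
  obtain ⟨e₀, he₀⟩ : ∃ e : Q, e ≠ 1 := by
    haveI : Nontrivial Q := Finite.one_lt_card_iff_nontrivial.1 (by omega)
    exact exists_ne 1
  let F : Fin 3 × Fin 5 → {e : Q // e ≠ 1} := fun ij =>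
    ⟨(u ^ (ij.1 : ℕ) * v ^ (ij.2 : ℕ)) e₀, fun h => he₀ ((MulEquiv.map_eq_one_iff _).1 h)⟩
  have hFinj : Function.Injective F := by
    rintro ⟨i, j⟩ ⟨i', j'⟩ h
    have h' : (u ^ (i : ℕ) * v ^ (j : ℕ)) e₀ = (u ^ (i' : ℕ) * v ^ (j' : ℕ)) e₀ := congrArg Subtype.val h
    -- compare by the group element
    set g := (u ^ (i : ℕ) * v ^ (j : ℕ))⁻¹ * (u ^ (i' : ℕ) * v ^ (j' : ℕ)) with hg
    have hge : g e₀ = e₀ := by
      rw [hg, MulAut.mul_apply, ← h', MulAut.inv_def]
      exact MulEquiv.symm_apply_apply _ _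
    have hgz : g = u ^ ((i' : ℤ) - (i : ℤ)) * v ^ ((j' : ℤ) - (j : ℤ)) := by
      rw [hg, mul_inv_rev, ← zpow_natCast u, ← zpow_natCast u, ← zpow_natCast v, ← zpow_natCast v,
        ← zpow_neg, ← zpow_neg, mul_assoc, ← mul_assoc (u ^ (-(i : ℤ))), ← zpow_add, ← mul_assoc,
        ((huv.symm.zpow_zpow _ _)).eq, mul_assoc, ← zpow_add]
      congr 2 <;> ring
    have hkey : ∀ n : ℕ, (g ^ n) e₀ = e₀ := by
      intro n
      induction n with
      | zero => rfl
      | succ n ih => rw [pow_succ', MulAut.mul_apply, ih, hge]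
    have hj : ((j' : ℤ) - j) % 5 = 0 := by
      by_contra hne
      have h3 := hkey 3
      rw [hgz, ((huv.zpow_zpow _ _)).mul_pow, ← zpow_natCast, ← zpow_natCast, ← zpow_mul, ← zpow_mul,
        mul_comm ((i' : ℤ) - i), zpow_mul u, zpow_natCast u, hu, one_zpow, one_mul] at h3
      apply he₀
      apply hvfix
      set k := ((j' : ℤ) - j) * ((3 : ℕ) : ℤ) with hk
      obtain ⟨a, b, hab⟩ : ∃ a b : ℤ, k * a + 5 * b = 1 := by
        have hcp : IsCoprime k (5 : ℤ) := by
          rw [Int.isCoprime_iff_gcd_eq_one]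
          have : ¬ (5 : ℤ) ∣ k := by omega
          rw [Int.gcd_comm]
          exact (Nat.Prime.coprime_iff_not_dvd (by norm_num)).2 fun hd =>
            this (Int.natCast_dvd.2 hd)
        obtain ⟨a, b, hab⟩ := hcp
        exact ⟨a, b, by linarith⟩
      have hv' : v = (v ^ k) ^ a := by
        rw [← zpow_mul, show k * a = 1 + 5 * (-b) by linarith, zpow_add, zpow_mul,
          show ((5 : ℤ)) = ((5 : ℕ) : ℤ) from rfl, zpow_natCast, hv, one_zpow, mul_one, zpow_one]
      rw [hv']
      exact (zpow_mem (show v ^ k ∈ MulAction.stabilizer (MulAut Q) e₀ from h3) a)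
    have hvj : v ^ ((j' : ℤ) - j) = 1 := by
      obtain ⟨c, hc⟩ := Int.dvd_of_emod_eq_zero hj
      rw [hc, zpow_mul, show ((5 : ℤ)) = ((5 : ℕ) : ℤ) from rfl, zpow_natCast, hv, one_zpow]
    rw [hgz, hvj, mul_one] at hge
    have hi : ((i' : ℤ) - i) % 3 = 0 := by
      by_contra hne
      apply he₀
      apply hufix
      obtain ⟨a, b, hab⟩ : ∃ a b : ℤ, ((i' : ℤ) - i) * a + 3 * b = 1 := by
        have hcp : IsCoprime ((i' : ℤ) - i) (3 : ℤ) := by
          rw [Int.isCoprime_iff_gcd_eq_one, Int.gcd_comm]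
          exact (Nat.Prime.coprime_iff_not_dvd (by norm_num)).2 fun hd => by
            have h3 : ((3 : ℕ) : ℤ) ∣ ((i' : ℤ) - i) := Int.natCast_dvd.2 hd
            rw [Nat.cast_ofNat] at h3
            omega
        obtain ⟨a, b, hab⟩ := hcp
        exact ⟨a, b, by linarith⟩
      have hu' : u = (u ^ ((i' : ℤ) - i)) ^ a := by
        rw [← zpow_mul, show ((i' : ℤ) - i) * a = 1 + 3 * (-b) by linarith, zpow_add, zpow_mul,
          show ((3 : ℤ)) = ((3 : ℕ) : ℤ) from rfl, zpow_natCast, hu, one_zpow, mul_one, zpow_one]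
      rw [hu']
      exact (zpow_mem (show u ^ ((i' : ℤ) - i) ∈ MulAction.stabilizer (MulAut Q) e₀ from hge) a)
    have := i.2; have := i'.2; have := j.2; have := j'.2
    refine Prod.ext (Fin.ext ?_) (Fin.ext ?_) <;> simp only [] <;> omega
  have hFs : Function.Surjective F := by
    haveI := Fintype.ofFinite {e : Q // e ≠ 1}
    haveI := Fintype.ofFinite Q
    refine ((Fintype.bijective_iff_injective_and_card F).2 ⟨hFinj, ?_⟩).2
    rw [Fintype.card_prod, Fintype.card_fin, Fintype.card_fin,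
      Fintype.card_subtype_compl, Fintype.card_subtype_eq, ← Nat.card_eq_fintype_card (α := Q), hQ]
  -- `o e (u e)` does not depend on `e`
  have hpow : ∀ (i j : ℕ) (e f : Q), o ((u ^ i * v ^ j) e) ((u ^ i * v ^ j) f) ↔ o e f := by
    intro i j e f
    have hv' : ∀ (j : ℕ) (e f : Q), o ((v ^ j) e) ((v ^ j) f) ↔ o e f := by
      intro j
      induction j with
      | zero => intro e f; rfl
      | succ j ih => intro e f; rw [pow_succ', MulAut.mul_apply, MulAut.mul_apply, hov, ih]
    have hu' : ∀ (i : ℕ) (e f : Q), o ((u ^ i) e) ((u ^ i) f) ↔ o e f := by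
      intro i
      induction i with
      | zero => intro e f; rfl
      | succ i ih => intro e f; rw [pow_succ', MulAut.mul_apply, MulAut.mul_apply, hou, ih]
    rw [MulAut.mul_apply, MulAut.mul_apply, hu', hv']
  have hconst : ∀ e, e ≠ 1 → (o e (u e) ↔ o e₀ (u e₀)) := by
    intro e he
    obtain ⟨⟨i, j⟩, hij⟩ := hFs ⟨e, he⟩
    have e1 : (u ^ (i : ℕ) * v ^ (j : ℕ)) e₀ = e := congrArg Subtype.val hij
    have hc : Commute u (u ^ (i : ℕ) * v ^ (j : ℕ)) :=
      (Commute.self_pow u i).mul_right (huv.pow_right j)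
    rw [← e1, show u ((u ^ (i : ℕ) * v ^ (j : ℕ)) e₀) = (u ^ (i : ℕ) * v ^ (j : ℕ)) (u e₀) from
      MulEquiv.congr_fun hc.eq e₀, hpow]
  have hu3 : ∀ y, u (u (u y)) = y := fun y => by
    have := MulEquiv.congr_fun hu y
    rwa [pow_succ', pow_two, MulAut.mul_apply, MulAut.mul_apply, MulAut.one_apply] at this
  have hsum : ∀ e, u (u e) * u e = e := by
    intro e
    have hfix : u (e * u e * u (u e)) = e * u e * u (u e) := by
      rw [map_mul, map_mul, hu3, hcomm (u e * u (u e)), mul_assoc]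
    have h1 := hufix _ hfix
    calc u (u e) * u e = u e * u (u e) := hcomm _ _
      _ = e * (e * u e * u (u e)) := by rw [← mul_assoc, ← mul_assoc, ho.exp, one_mul]
      _ = e := by rw [h1, mul_one]
  have hshift : ∀ e f, o e (u f) ↔ o f (u (u e)) := by
    intro e f
    have h1 : o (u (u e)) (u (u (u f))) ↔ o e (u f) := by rw [hou, hou]
    rw [hu3] at h1
    exact h1.symm.trans ⟨ho.symm _ _, ho.symm _ _⟩
  have hall : ∀ e f : Q, e ≠ 1 → f ≠ 1 → e ≠ f → (o f e ↔ o e₀ (u e₀)) := by
    intro e f he hf hef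
    have hne : e * f ≠ 1 := fun h => hef ((inv_eq_of_mul_eq_one_left (ho.exp e)).symm.trans
      (inv_eq_of_mul_eq_one_right h))
    have h1 := hconst _ hne
    have h2 := hconst e he
    have h3 := hconst f hf
    have hl : ∀ a b c, o (a * b) c ↔ (o a c ↔ o b c) := fun a b c =>
      ⟨fun h => by
        have := (ho.add c a b).1 (ho.symm _ _ h)
        exact ⟨fun x => ho.symm _ _ (this.1 (ho.symm _ _ x)), fun x => ho.symm _ _ (this.2 (ho.symm _ _ x))⟩,
       fun h => ho.symm _ _ ((ho.add c a b).2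
        ⟨fun x => ho.symm _ _ (h.1 (ho.symm _ _ x)), fun x => ho.symm _ _ (h.2 (ho.symm _ _ x))⟩)⟩
    rw [map_mul, hl, ho.add, ho.add, hshift e f] at h1
    have h4 : o f e ↔ (o f (u (u e)) ↔ o f (u e)) := by rw [← ho.add, hsum]
    tauto
  -- two further elements
  obtain ⟨f, hf1, hfe⟩ : ∃ f : Q, f ≠ 1 ∧ e₀ ≠ f :=
    ⟨u e₀, fun h => he₀ ((MulEquiv.map_eq_one_iff _).1 h), fun h => he₀ (hufix _ h.symm)⟩
  by_cases hP : o e₀ (u e₀)
  · refine he₀ (ho.nondeg e₀ fun g => ?_)
    by_cases hg : g = 1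
    · subst hg
      have h := ho.add e₀ e₀ e₀
      rw [ho.exp e₀] at h
      exact h.2 Iff.rfl
    by_cases hge : g = e₀
    · subst hge; exact ho.self _
    exact (hall g e₀ hg he₀ hge).2 hP
  · obtain ⟨g, hg⟩ : ∃ g : Q, g ∉ ({1, e₀, f, e₀ * f} : Set Q) := by
      by_contra hc
      push Not at hc
      have h4 : Nat.card Q ≤ ({1, e₀, f, e₀ * f} : Set Q).ncard := by
        rw [← Set.ncard_univ]
        exact Set.ncard_le_ncard (fun x _ => hc x) (Set.toFinite _)
      have h5 : ({1, e₀, f, e₀ * f} : Set Q).ncard ≤ 4 := by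
        refine le_trans (Set.ncard_insert_le _ _) (Nat.succ_le_succ (le_trans (Set.ncard_insert_le _ _)
          (Nat.succ_le_succ (le_trans (Set.ncard_insert_le _ _) ?_))))
        rw [Set.ncard_singleton]
      omega
    simp only [Set.mem_insert_iff, Set.mem_singleton_iff, not_or] at hg
    obtain ⟨hg1, hg2, hg3, hg4⟩ := hg
    have hfg1 : f * g ≠ 1 := fun h => hg3
      ((inv_eq_of_mul_eq_one_right h).symm.trans (inv_eq_of_mul_eq_one_left (ho.exp f)))
    have hfge : f * g ≠ e₀ := fun h => hg4 (by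
      rw [← h, hcomm f g, mul_assoc, ho.exp, mul_one])
    have A := hall f e₀ hf1 he₀ (Ne.symm hfe)
    have B := hall g e₀ hg1 he₀ hg2
    have C := hall (f * g) e₀ hfg1 he₀ hfge
    rw [ho.add] at C
    exact hP (C.1 ⟨fun h => absurd (A.1 h) hP, fun h => absurd (B.1 h) hP⟩)

/-- No `q`-group of automorphisms is normalised by an element of another odd prime order. -/
theorem no_normalised_group {o : Q → Q → Prop} (ho : IsSymp o) (hQ : Nat.card Q = 16) {p q : ℕ}
    [hp : Fact p.Prime] [hq : Fact q.Prime] (hp2 : p ≠ 2) (hq2 : q ≠ 2) (hpq : p ≠ q)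
    {U : Subgroup (MulAut Q)} (hU : IsPGroup q U) (hU1 : U ≠ ⊥)
    (hUo : ∀ σ ∈ U, ∀ e f, o (σ e) (σ f) ↔ o e f) {b : MulAut Q} (hb : b ^ p = 1) (hb1 : b ≠ 1)
    (hbU : b ∈ normalizer (U : Set (MulAut Q))) (hbo : ∀ e f, o (b e) (b f) ↔ o e f) : False := by
  classical
  haveI : Finite (MulAut Q) := Finite.of_injective _ MulEquiv.toEquiv_injective
  haveI : Nontrivial U := (Subgroup.nontrivial_iff_ne_bot U).2 hU1
  set Z : Subgroup (MulAut Q) := (center U).map U.subtype with hZdef
  have hZU : Z ≤ U := map_subtype_le _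
  have hZ1 : Z ≠ ⊥ := by
    rw [hZdef, Ne, map_eq_bot_iff_of_injective _ U.subtype_injective]
    exact ((Subgroup.nontrivial_iff_ne_bot _).1 hU.center_nontrivial)
  have hZc : ∀ a ∈ Z, ∀ c ∈ Z, a * c = c * a := by
    rintro _ ⟨a, ha, rfl⟩ _ ⟨c, hc, rfl⟩
    exact congrArg Subtype.val (mem_center_iff.1 ha c).symm
  have hbZ : b ∈ normalizer (Z : Set (MulAut Q)) :=
    CfsgLib.LS.normalizer_le_normalizer_map_char (center U) hbU
  -- prime order elements
  have hprim : ∀ σ ∈ U, σ ≠ 1 → ∃ k : ℕ, (σ ^ k) ^ q = 1 ∧ σ ^ k ≠ 1 := by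
    intro σ hσ hσ1
    obtain ⟨k, hk⟩ := IsPGroup.iff_orderOf.1 hU ⟨σ, hσ⟩
    rw [Subgroup.orderOf_mk] at hk
    rcases k with - | k
    · exact absurd (orderOf_eq_one_iff.1 (by simpa using hk)) hσ1
    refine ⟨q ^ k, by rw [← pow_mul, ← pow_succ, ← hk, pow_orderOf_eq_one], fun e => ?_⟩
    have := orderOf_dvd_of_pow_eq_one e
    rw [hk] at this
    exact absurd (Nat.le_of_dvd (pow_pos hq.out.pos k) this)
      (not_le.2 (Nat.pow_lt_pow_right hq.out.one_lt (Nat.lt_succ_self k)))
  obtain ⟨σ₀, hσ₀, hσ₀1⟩ : ∃ σ ∈ U, σ ≠ 1 :=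
    (Subgroup.ne_bot_iff_exists_ne_one.1 hU1).imp' Subtype.val
      (fun a ha => ⟨a.2, fun e => ha (Subtype.ext e)⟩)
  obtain ⟨k₀, hk₀, hk₀1⟩ := hprim σ₀ hσ₀ hσ₀1
  have hq35 := prime_three_or_five ho hQ hq2 hk₀ hk₀1 (hUo _ (pow_mem hσ₀ _))
  have hp35 := prime_three_or_five ho hQ hp2 hb hb1 hbo
  -- `b` commutes with some nontrivial element of `Z`
  obtain ⟨w, hwZ, hw1, hwb⟩ : ∃ w ∈ Z, w ≠ 1 ∧ Commute w b := by
    by_contra hcon
    push Not at hcon
    have hfix : fixSub (conjAut hbZ) = ⊥ := by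
      rw [eq_bot_iff]
      intro w hw
      refine mem_bot.2 (Subtype.ext ?_)
      by_contra hw1
      exact hcon w w.2 hw1 (mul_inv_eq_iff_eq_mul.1 (congrArg Subtype.val (mem_fixSub.1 hw))).symm
    have hpow : ∀ (n : ℕ) (w : Z), ((conjAut hbZ ^ n) w : MulAut Q) = b ^ n * w * (b ^ n)⁻¹ := by
      intro n
      induction n with
      | zero => intro w; simp
      | succ n ih =>
        intro w
        rw [pow_succ', MulAut.mul_apply]
        show b * ((conjAut hbZ ^ n) w : MulAut Q) * b⁻¹ = _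
        rw [ih, pow_succ']
        simp [mul_assoc]
    have hm := fixSub_card (s := p) (conjAut hbZ) (MulEquiv.ext fun w => Subtype.ext (by
      rw [hpow, hb, MulAut.one_apply]; simp))
    rw [hfix, Subgroup.card_bot] at hm
    obtain ⟨i, hi⟩ := IsPGroup.iff_card.1 (hU.to_le hZU)
    rw [hi] at hm
    have hi0 : i ≠ 0 := fun e => hZ1 (card_eq_one.1 (by rw [hi, e, pow_zero]))
    -- stabilisers and orbits
    have stab_fix : ∀ σ ∈ Z, σ ≠ 1 → ∀ F : Subgroup Q, (∀ y ∈ F, σ y = y) → Nat.card F ≤ 4 ∧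
        (q = 5 → Nat.card F = 1) := by
      intro σ hσ hσ1 F hF
      obtain ⟨k, hk, hk1⟩ := hprim σ (hZU hσ) hσ1
      have hle : F ≤ fixSub (σ ^ k) := fun y hy => mem_fixSub.2 (by
        have hm : σ ^ k ∈ MulAction.stabilizer (MulAut Q) y := pow_mem (hF y hy) k
        exact hm)
      obtain ⟨h5, h4⟩ := three_five_fixed hQ ho hq35 hk hk1 (hUo _ (pow_mem (hZU hσ) _))
      exact ⟨(card_le_of_le hle).trans h4, fun h => le_antisymm
        ((card_le_of_le hle).trans (h5 h).le) Nat.card_pos⟩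
    have horb : ∀ e : Q, ∀ Y : Subgroup (MulAut Q), Y ≤ U →
        ∃ j, Nat.card (MulAction.orbit Y e) = q ^ j ∧
          Nat.card Y = q ^ j * Nat.card (MulAction.stabilizer Y e) := by
      intro e Y hY
      obtain ⟨j, hj⟩ := (hU.to_le hY).card_orbit e
      refine ⟨j, hj, ?_⟩
      rw [← hj, ← Nat.card_prod]
      exact Nat.card_congr (MulAction.orbitProdStabilizerEquivGroup Y e).symm
    have hsmall : ∀ (Y : Subgroup (MulAut Q)) (e : Q), e ≠ 1 → ∀ S : Set Q, MulAction.orbit Y e ⊆ S →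
        Nat.card (MulAction.orbit Y e) ≤ S.ncard := fun Y e _ S hS => by
      rw [Nat.card_coe_set_eq]; exact Set.ncard_le_ncard hS (Set.toFinite _)
    have h15 : ({1}ᶜ : Set Q).ncard = 15 := by
      rw [Set.ncard_compl, Set.ncard_singleton, hQ]
    have horb1 : ∀ (Y : Subgroup (MulAut Q)) (e : Q), e ≠ 1 → MulAction.orbit Y e ⊆ ({1}ᶜ : Set Q) := by
      rintro Y e he _ ⟨σ, rfl⟩
      exact fun h => he ((MulEquiv.map_eq_one_iff (σ : MulAut Q)).1 h)
    rcases hq35 with rfl | rfl
    · -- three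
      have hp5 : p = 5 := hp35.resolve_left hpq
      subst hp5
      have hstab : ∀ e : Q, e ≠ 1 → Nat.card (MulAction.stabilizer Z e) ≤ 9 := by
        intro e he
        set S : Subgroup (MulAut Q) := (MulAction.stabilizer Z e).map Z.subtype with hS
        have hSZ : S ≤ Z := map_subtype_le _
        have hSe : ∀ σ ∈ S, σ e = e := by rintro _ ⟨σ, hσ, rfl⟩; exact hσ
        rw [Nat.card_congr ((MulAction.stabilizer Z e).equivMapOfInjective _ Z.subtype_injective).toEquiv,
          ← hS]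
        by_cases hS1 : S = ⊥
        · rw [hS1, Subgroup.card_bot]; norm_num
        obtain ⟨s₀, hs₀, hs₀1⟩ : ∃ σ ∈ S, σ ≠ 1 :=
          (Subgroup.ne_bot_iff_exists_ne_one.1 hS1).imp' Subtype.val
            (fun a ha => ⟨a.2, fun e => ha (Subtype.ext e)⟩)
        -- a second element off the fixed points of `s₀`
        obtain ⟨g, hg⟩ : ∃ g, g ∉ fixSub s₀ := by
          by_contra hc
          push Not at hc
          exact hs₀1 (MulEquiv.ext fun y => mem_fixSub.1 (hc y))
        obtain ⟨j, hj, hcard⟩ := horb g S (hSZ.trans hZU)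
        have hg1 : g ≠ 1 := fun h => hg (h ▸ one_mem _)
        have hj2 : 3 ^ j ≤ 9 := by
          have := hsmall S g hg1 _ (horb1 S g hg1)
          rw [h15, hj] at this
          have hj' : j ≤ 2 := by
            by_contra hcon
            have : 3 ^ 3 ≤ 3 ^ j := Nat.pow_le_pow_right (by norm_num) (by omega)
            omega
          exact le_of_le_of_eq (Nat.pow_le_pow_right (by norm_num) hj') (by norm_num)
        have hst : MulAction.stabilizer S g = ⊥ := by
          rw [eq_bot_iff]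
          intro σ hσ
          by_contra hσ1
          rw [mem_bot] at hσ1
          have hσ' : (σ : MulAut Q) ≠ 1 := fun h => hσ1 (Subtype.ext h)
          set F := fixSub (σ : MulAut Q) with hF
          have hF4 := (stab_fix σ (hSZ σ.2) hσ' F fun y hy => mem_fixSub.1 hy).1
          have heF : e ∈ F := mem_fixSub.2 (hSe _ σ.2)
          have hgF : g ∈ F := mem_fixSub.2 hσ
          have hge : e ≠ g := fun h => hg (h ▸ mem_fixSub.2 (hSe s₀ hs₀))
          have heg1 : e * g ≠ 1 := fun h => hge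
            ((inv_eq_of_mul_eq_one_left (ho.exp e)).symm.trans (inv_eq_of_mul_eq_one_right h))
          have hsub : ({1, e, g, e * g} : Set Q) ⊆ (F : Set Q) := by
            rintro z (rfl | rfl | rfl | rfl)
            · exact one_mem _
            · exact heF
            · exact hgF
            · exact mul_mem heF hgF
          have hcard4 : ({1, e, g, e * g} : Set Q).ncard = 4 := by
            have hne2 : e ≠ e * g := fun h => hg1 (left_eq_mul.1 h)
            have hne3 : g ≠ e * g := fun h => he (right_eq_mul.1 h)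
            rw [Set.ncard_insert_of_notMem (by simp [Ne.symm he, Ne.symm hg1, Ne.symm heg1]),
              Set.ncard_insert_of_notMem (by simp [hge, hne2]),
              Set.ncard_insert_of_notMem (by simp [hne3]), Set.ncard_singleton]
          have hFeq : ({1, e, g, e * g} : Set Q) = (F : Set Q) :=
            Set.eq_of_subset_of_ncard_le hsub (by rw [hcard4, ← Nat.card_coe_set_eq]; exact hF4)
              (Set.toFinite _)
          have hs0g : s₀ g ∈ ({1, e, g, e * g} : Set Q) := by
            rw [hFeq]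
            refine mem_fixSub.2 ?_
            have hc := MulEquiv.congr_fun (hZc _ (hSZ hs₀) _ (hSZ σ.2)) g
            rw [MulAut.mul_apply, MulAut.mul_apply] at hc
            rw [← hc, mem_fixSub.1 hgF]
          apply hg
          rw [mem_fixSub]
          rcases hs0g with h | h | h | h
          · exact absurd ((MulEquiv.map_eq_one_iff s₀).1 h) hg1
          · exact absurd (s₀.injective (h.trans (hSe s₀ hs₀).symm)) (Ne.symm hge)
          · exact h
          · have h2 : s₀ ^ 2 ∈ MulAction.stabilizer (MulAut Q) g := by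
              show (s₀ ^ 2) g = g
              rw [pow_two, MulAut.mul_apply, h, map_mul, hSe s₀ hs₀, h, ← mul_assoc, ho.exp, one_mul]
            obtain ⟨k, hk⟩ := IsPGroup.iff_orderOf.1 hU ⟨s₀, hZU (hSZ hs₀)⟩
            rw [Subgroup.orderOf_mk] at hk
            obtain ⟨m, hm'⟩ := (show Odd (3 ^ k) from Odd.pow (by decide))
            have e1 : s₀ = (s₀ ^ 2) ^ (m + 1) := by
              rw [← pow_mul, show 2 * (m + 1) = 3 ^ k + 1 by omega, pow_succ, ← hk, pow_orderOf_eq_one,
                one_mul]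
            exact e1 ▸ pow_mem h2 _
        rw [hcard, hst, Subgroup.card_bot, mul_one]
        exact hj2
      obtain ⟨e, he⟩ : ∃ e : Q, e ≠ 1 := by
        haveI : Nontrivial Q := Finite.one_lt_card_iff_nontrivial.1 (by omega)
        exact exists_ne 1
      obtain ⟨j, hj, hcard⟩ := horb e Z hZU
      have hjle := hsmall Z e he _ (horb1 Z e he)
      rw [h15, hj] at hjle
      have hj2 : j ≤ 2 := by
        by_contra hcon
        have : 3 ^ 3 ≤ 3 ^ j := Nat.pow_le_pow_right (by norm_num) (by omega)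
        omega
      have hst9 := hstab e he
      rw [hi] at hcard
      obtain ⟨t, ht, htc⟩ := (Nat.dvd_prime_pow Nat.prime_three).1 (Dvd.intro_left _ hcard.symm)
      rw [htc] at hst9 hcard
      have ht2 : t ≤ 2 := (Nat.pow_le_pow_iff_right (by norm_num : 1 < 3)).1 (hst9.trans (by norm_num))
      rw [← pow_add] at hcard
      have hit : i = j + t := Nat.pow_right_injective (by norm_num : 2 ≤ 3) hcard
      have hi4 : i = 4 := by
        have : i ≤ 4 := by omega
        interval_cases i <;> first | rfl | exact absurd hm (by decide) | omega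
      obtain ⟨f, hf⟩ : ∃ f : Q, f ∉ MulAction.orbit Z e ∧ f ≠ 1 := by
        by_contra hc
        push Not at hc
        have : ({1}ᶜ : Set Q).ncard ≤ (MulAction.orbit Z e).ncard :=
          Set.ncard_le_ncard (fun y hy => by
            by_contra h
            exact hy (hc y h)) (Set.toFinite _)
        rw [h15, ← Nat.card_coe_set_eq, hj] at this
        have : 3 ^ j ≤ 9 := le_of_le_of_eq (Nat.pow_le_pow_right (by norm_num) hj2) (by norm_num)
        omega
      obtain ⟨j', hj', hcard'⟩ := horb f Z hZU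
      have hj'le := hsmall Z f hf.2 _ (horb1 Z f hf.2)
      rw [h15, hj'] at hj'le
      have hst9' := hstab f hf.2
      have hdisj : Disjoint (MulAction.orbit Z e) (MulAction.orbit Z f) := by
        rw [Set.disjoint_left]
        intro y hy hy'
        apply hf.1
        rw [← MulAction.orbit_eq_iff.2 hy, MulAction.orbit_eq_iff.2 hy']
        exact MulAction.mem_orbit_self f
      have hsum : (MulAction.orbit Z e ∪ MulAction.orbit Z f).ncard ≤ ({1}ᶜ : Set Q).ncard :=
        Set.ncard_le_ncard (Set.union_subset (horb1 Z e he) (horb1 Z f hf.2)) (Set.toFinite _)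
      rw [Set.ncard_union_eq hdisj (Set.toFinite _) (Set.toFinite _), ← Nat.card_coe_set_eq,
        ← Nat.card_coe_set_eq, hj, hj', h15] at hsum
      have e1 : 9 ≤ 3 ^ j := by
        have : 2 ≤ j := by omega
        exact le_of_eq_of_le (by norm_num) (Nat.pow_le_pow_right (by norm_num) this)
      rw [hi, hi4] at hcard'
      have e2 : 9 ≤ 3 ^ j' := by nlinarith
      omega
    · -- five
      have hp3 : p = 3 := hp35.resolve_right hpq
      subst hp3
      obtain ⟨e, he⟩ : ∃ e : Q, e ≠ 1 := by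
        haveI : Nontrivial Q := Finite.one_lt_card_iff_nontrivial.1 (by omega)
        exact exists_ne 1
      obtain ⟨j, hj, hcard⟩ := horb e Z hZU
      have hst : MulAction.stabilizer Z e = ⊥ := by
        rw [eq_bot_iff]
        intro σ hσ
        by_contra hσ1
        rw [mem_bot] at hσ1
        have hσ' : (σ : MulAut Q) ≠ 1 := fun h => hσ1 (Subtype.ext h)
        have := (stab_fix σ σ.2 hσ' (fixSub (σ : MulAut Q)) fun y hy => mem_fixSub.1 hy).2 rfl
        rw [Subgroup.card_eq_one] at this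
        exact he (mem_bot.1 (this ▸ mem_fixSub.2 hσ))
      rw [hst, Subgroup.card_bot, mul_one, hi] at hcard
      have hjle := hsmall Z e he _ (horb1 Z e he)
      rw [h15, hj, ← hcard] at hjle
      have : i = 1 := by
        by_contra hne
        have : 5 ^ 2 ≤ 5 ^ i := Nat.pow_le_pow_right (by norm_num) (by omega)
        omega
      subst this
      exact absurd hm (by decide)
  obtain ⟨k, hk, hk1⟩ := hprim w (hZU hwZ) hw1
  have hcom : Commute (w ^ k) b := hwb.pow_left k
  rcases hq35 with rfl | rfl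
  · exact no_commuting_three_five ho hQ hk hk1 (hp35.resolve_left hpq ▸ hb) hb1 hcom
      (hUo _ (pow_mem (hZU hwZ) _)) hbo
  · exact no_commuting_three_five ho hQ (hp35.resolve_right hpq ▸ hb) hb1 hk hk1 hcom.symm hbo
      (hUo _ (pow_mem (hZU hwZ) _))

end CfsgLib.SolvSignalizer
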