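import Cfsg.Agent.Lib.SolvSignalizer.Orbit
import Cfsg.Agent.Lib.SolvSignalizer.HeisEven
import Cfsg.Agent.Lib.SolvSignalizer.SmallForms
import Cfsg.Agent.Lib.Coprime.SchurZassenhaus

/-!
# Elements with a small commutator space: the nonabelian case
-/

set_option autoImplicit false
set_option linter.style.haveILetI false
set_option linter.unusedSectionVars false

open Subgroup
open scoped commutatorElement
open CfsgLib.Coprime (conjBy conjBy_conjBy conjBy_one conjBy_eq_self_iff mem_conjBy conj_mem_conjBy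
  conj_mem_of_le_normalizer)

namespace CfsgLib.SolvSignalizer

universe u

variable {G : Type u} [Group G]

/-- The element `x` moves `N` modulo the kernel of `H`. -/
def MovedAt (N : Subgroup G) (x : G) (H : Subgroup G) : Prop :=
  ∃ u ∈ N, x * u * x⁻¹ * u⁻¹ ∉ rad N H

theorem conjBy_rad {g : G} {N : Subgroup G} (hg : g ∈ normalizer (N : Set G)) (H : Subgroup G) :
    conjBy g (rad N H) = rad N (conjBy g H) := by
  rw [conjBy, rad, rad, MonoidHom.map_closure]
  congr 1
  ext v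
  constructor
  · rintro ⟨u, ⟨hu, hall⟩, rfl⟩
    refine ⟨(mem_normalizer_iff.1 hg u).1 hu, fun w hw => ?_⟩
    refine ⟨u * (g⁻¹ * w * g) * u⁻¹ * (g⁻¹ * w * g)⁻¹,
      hall _ ((mem_normalizer_iff''.1 hg w).1 hw), ?_⟩
    simp [mul_assoc]
  · rintro ⟨hv, hall⟩
    refine ⟨g⁻¹ * v * g, ⟨(mem_normalizer_iff''.1 hg v).1 hv, fun w hw => ?_⟩, by simp [mul_assoc]⟩
    have h := mem_conjBy.1 (hall _ ((mem_normalizer_iff.1 hg w).1 hw))
    simpa [mul_assoc] using h

section SmallNonabelian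

variable [Finite G] {p q r : ℕ} [hp : Fact p.Prime] [hq : Fact q.Prime] [hr : Fact r.Prime]
  {V A N R : Subgroup G} (h : SMin p q r V A N R)

include h

theorem derived_le : ⁅N, N⁆ ≤ N := h.commutator_le_phi.trans inf_le_left

theorem derived_central : ⁅N, N⁆ ≤ centralizer (N : Set G) :=
  h.commutator_le_phi.trans h.phi_central

theorem comm_pow {a b : G} (ha : a ∈ N) (hb : b ∈ N) :
    ∀ n : ℕ, a ^ n * b * (a ^ n)⁻¹ * b⁻¹ = (a * b * a⁻¹ * b⁻¹) ^ n := by
  intro n
  induction n with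
  | zero => simp
  | succ n ih =>
    have hc : Commute (a * b * a⁻¹ * b⁻¹) a :=
      (mem_centralizer_iff.1 (derived_central h (commutator_mem_commutator ha hb)) a ha).symm
    rw [pow_succ' a, pow_succ (a * b * a⁻¹ * b⁻¹), ← ih]
    calc a * a ^ n * b * (a * a ^ n)⁻¹ * b⁻¹
        = a * (a ^ n * b * (a ^ n)⁻¹ * b⁻¹) * (b * a⁻¹ * b⁻¹) := by group
      _ = (a ^ n * b * (a ^ n)⁻¹ * b⁻¹) * a * (b * a⁻¹ * b⁻¹) := by
          rw [ih, (hc.pow_left n).eq]
      _ = _ := by group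

theorem rpow_comm {u v : G} (hu : u ∈ N) (hv : v ∈ N) :
    u ^ r * v * (u ^ r)⁻¹ * v⁻¹ = 1 := by
  rw [← mem_centralizer_iff.1 (h.phi_central (h.pow_mem_phi hu)) v hv]
  group

theorem derived_elem : Cfsg.IsElementaryAbelian r (⁅N, N⁆ : Subgroup G) := by
  refine ⟨⟨⟨fun a b => Subtype.ext
    (mem_centralizer_iff.1 (derived_central h b.2) a (derived_le h a.2))⟩⟩, fun t ht => ?_⟩
  rw [Subgroup.commutator_def] at ht
  induction ht using closure_induction with
  | mem t ht =>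
    obtain ⟨a, ha, b, hb, rfl⟩ := ht
    rw [commutatorElement_def, ← comm_pow h ha hb, rpow_comm h ha hb]
  | one => exact one_pow r
  | mul a b ha hb iha ihb =>
    rw [← Subgroup.commutator_def] at ha hb
    have hc : Commute a b := mem_centralizer_iff.1 (derived_central h hb) a (derived_le h ha)
    rw [hc.mul_pow, iha, ihb, one_mul]
  | inv a _ iha => rw [inv_pow, iha, inv_one]

theorem R_le_cent : R ≤ centralizer ((⁅N, N⁆ : Subgroup G) : Set G) :=
  le_centralizer_iff.1 (h.commutator_le_phi.trans inf_le_right)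

theorem norm_derived {g : G} (hg : g ∈ normalizer (N : Set G)) :
    g ∈ normalizer ((⁅N, N⁆ : Subgroup G) : Set G) :=
  (CfsgLib.PGroup.le_normalizer_commutator (A := normalizer (N : Set G)) le_rfl le_rfl) hg

theorem derived_le_normV : (⁅N, N⁆ : Subgroup G) ≤ normalizer (V : Set G) :=
  (derived_le h).trans h.hNV

theorem conjBy_fix_of_cent {g : G} (hg : g ∈ centralizer ((⁅N, N⁆ : Subgroup G) : Set G))
    {H : Subgroup G} (hH : IsHyp r ⁅N, N⁆ H) : conjBy g H = H :=
  conjBy_eq_self_iff.2 (CfsgLib.Coprime.centralizer_le_normalizer_self _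
    (centralizer_le hH.1 hg))

theorem hdata {H : Subgroup G} (hH : IsHyp r ⁅N, N⁆ H) (ha : atom V ⁅N, N⁆ H ≠ ⊥) :
    HData q r (atom V ⁅N, N⁆ H) N ⁅N, N⁆ H where
  welem := CfsgLib.EABasic.isElementaryAbelian_le h.velem
    (atom_le h.velem (derived_elem h) (derived_le_normV h) h.r_ne_q H)
  w_ne := ha
  hNW := fun u hu => mem_normalizer_atom h.velem (derived_elem h) (derived_le_normV h) h.r_ne_q
    (h.hNV hu) (norm_derived h (le_normalizer hu))
    (conjBy_fix_of_cent h (le_centralizer_iff.1 (derived_central h) hu) hH)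
  hrq := h.r_ne_q
  telem := derived_elem h
  hTN := derived_le h
  central := derived_central h
  hyp := hH
  comm := fun _ hu _ hv => commutator_mem_commutator hu hv
  hHW := fun _ ht => mem_centralizer_iff.2 fun _ hv => (mem_centralizer_iff.1 hv.2 _ ht).symm
  fpf := fun _ ht htH => atom_fixed_bot h.velem (derived_elem h) (derived_le_normV h) h.r_ne_q hH ht htH
  rpow := fun _ hu _ hv => rpow_comm h hu hv

theorem hyp_conj {g : G} (hg : g ∈ normalizer (N : Set G)) {H : Subgroup G}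
    (hH : IsHyp r ⁅N, N⁆ H) : IsHyp r ⁅N, N⁆ (conjBy g H) := by
  have e : conjBy g ⁅N, N⁆ = ⁅N, N⁆ := conjBy_eq_self_iff.2 (norm_derived h hg)
  refine ⟨le_of_le_of_eq (map_mono hH.1) e, ?_⟩
  calc _ = (conjBy g H).relIndex (conjBy g ⁅N, N⁆) := congrArg _ e.symm
    _ = H.relIndex ⁅N, N⁆ := relIndex_map_map_of_injective _ _ (MulAut.conj g).injective
    _ = r := hH.2

theorem atom_conj_ne {g : G} (hgV : g ∈ normalizer (V : Set G)) (hg : g ∈ normalizer (N : Set G))
    {H : Subgroup G} (ha : atom V ⁅N, N⁆ H ≠ ⊥) : atom V ⁅N, N⁆ (conjBy g H) ≠ ⊥ := by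
  rw [← conj_atom h.velem (derived_elem h) (derived_le_normV h) h.r_ne_q hgV (norm_derived h hg),
    Ne, map_eq_bot_iff_of_injective _ (MulAut.conj g).injective]
  exact ha

theorem norm_rad {g : G} (hg : g ∈ R) {H : Subgroup G} (hH : IsHyp r ⁅N, N⁆ H) :
    g ∈ normalizer (rad N H : Set G) := by
  rw [← conjBy_eq_self_iff, conjBy_rad (h.hRN hg), conjBy_fix_of_cent h (R_le_cent h hg) hH]

theorem norm_atom {g : G} (hg : g ∈ R) {H : Subgroup G} (hH : IsHyp r ⁅N, N⁆ H) :
    g ∈ normalizer (atom V ⁅N, N⁆ H : Set G) :=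
  mem_normalizer_atom h.velem (derived_elem h) (derived_le_normV h) h.r_ne_q (h.hRV hg)
    (norm_derived h (h.hRN hg)) (conjBy_fix_of_cent h (R_le_cent h hg) hH)

variable {x : G} (hxR : x ∈ R) (hxq : x ^ q = 1)

include hxR hxq

theorem exists_moved (hxN : x ∉ centralizer (N : Set G))
    (hnab : ∃ a ∈ N, ∃ b ∈ N, a * b ≠ b * a) :
    ∃ H, IsHyp r ⁅N, N⁆ H ∧ atom V ⁅N, N⁆ H ≠ ⊥ ∧ MovedAt N x H := by
  by_contra hc
  push Not at hc
  have hZ : ∀ u ∈ N, x * u * x⁻¹ * u⁻¹ ∈ N ⊓ centralizer (N : Set G) := by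
    intro u hu
    have hmem : x * u * x⁻¹ * u⁻¹ ∈ N := mul_mem (conj_mem_of_le_normalizer h.hRN hxR hu) (inv_mem hu)
    refine mem_inf.2 ⟨hmem, mem_centralizer_iff.2 fun v hv => ?_⟩
    have hT : x * u * x⁻¹ * u⁻¹ * v * (x * u * x⁻¹ * u⁻¹)⁻¹ * v⁻¹ ∈ ⁅N, N⁆ :=
      commutator_mem_commutator hmem hv
    have h1 := mem_centralizer_of_atoms h.velem (derived_elem h) (derived_le_normV h) h.r_ne_q hT
      fun H hH ha => by
        by_contra hn
        exact hc H hH ha ⟨u, hu, fun hr' => hn (((hdata h hH ha).mem_rad.1 hr').2 v hv)⟩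
    have h2 := mem_inf.2 ⟨derived_le h hT, h1⟩
    rw [h.faith, mem_bot, mul_inv_eq_one, mul_inv_eq_iff_eq_mul] at h2
    exact h2.symm
  obtain ⟨a, ha, b, hb, hab⟩ := hnab
  have hle : N ⊓ centralizer (N : Set G) ≤ h.phi := by
    refine h.le_phi inf_le_left
      (CfsgLib.Coprime.inf_le_normalizer h.hAN
        (h.hAN.trans (CfsgLib.Coprime.normalizer_le_normalizer_centralizer N)))
      (CfsgLib.Coprime.inf_le_normalizer h.hRN
        (h.hRN.trans (CfsgLib.Coprime.normalizer_le_normalizer_centralizer N))) fun e => hab ?_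
    exact mem_centralizer_iff.1 (e.ge hb).2 a ha
  refine hxN (mem_centralizer_iff.2 fun u hu => ?_)
  set c := x * u * x⁻¹ * u⁻¹ with hc'
  have hcΦ : c ∈ h.phi := hle (hZ u hu)
  have hxc : x * c * x⁻¹ = c := by
    rw [mem_centralizer_iff.1 hcΦ.2 x hxR, mul_inv_cancel_right]
  have hiter : ∀ n : ℕ, x ^ n * u * (x ^ n)⁻¹ = c ^ n * u := by
    intro n
    induction n with
    | zero => simp
    | succ n ih =>
      calc x ^ (n + 1) * u * (x ^ (n + 1))⁻¹ = x * (x ^ n * u * (x ^ n)⁻¹) * x⁻¹ := by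
            rw [pow_succ']; group
        _ = (x * c * x⁻¹) ^ n * (x * u * x⁻¹ * u⁻¹) * u := by rw [ih, conj_pow]; group
        _ = _ := by rw [hxc, ← hc', ← pow_succ]
  have h1 := hiter q
  rw [hxq] at h1
  simp only [one_mul, inv_one, mul_one, right_eq_mul] at h1
  have h3 : c = 1 := by
    have hd := orderOf_dvd_of_pow_eq_one h1
    obtain ⟨j, hj⟩ := IsPGroup.iff_card.1 h.rN
    have hdN : orderOf c ∣ r ^ j := hj ▸ Subgroup.orderOf_dvd_natCard N hcΦ.1
    exact orderOf_eq_one_iff.1 (Nat.eq_one_of_dvd_coprimes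
      (((Nat.coprime_primes hq.out hr.out).2 h.r_ne_q.symm).pow_right j) hd hdN)
  rw [hc', mul_inv_eq_one, mul_inv_eq_iff_eq_mul] at h3
  exact h3.symm

theorem q_le_mv {H : Subgroup G} (hH : IsHyp r ⁅N, N⁆ H) (ha : atom V ⁅N, N⁆ H ≠ ⊥)
    (hm : MovedAt N x H) : q ≤ Nat.card (mv (atom V ⁅N, N⁆ H) x) := by
  set W := atom V ⁅N, N⁆ H
  have d := hdata h hH ha
  obtain ⟨k, hk⟩ := IsPGroup.iff_card.1 ((CfsgLib.EABasic.isPGroup_of_isElementaryAbelian d.welem).to_le
    (mv_le (norm_atom h hxR hH)))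
  rw [hk]
  refine Nat.le_self_pow (fun hk0 => ?_) q
  have hxW := mv_eq_bot_iff.1 (card_eq_one.1 (by rw [hk, hk0, pow_zero]) : mv W x = ⊥)
  obtain ⟨u, hu, hn⟩ := hm
  set c := x * u * x⁻¹ * u⁻¹ with hc
  have hcN : c ∈ N := mul_mem (conj_mem_of_le_normalizer h.hRN hxR hu) (inv_mem hu)
  have hcW : c ∈ centralizer (W : Set G) := by
    refine mem_centralizer_iff.2 fun w hw => ?_
    have hx : ∀ y ∈ W, x * y * x⁻¹ = y := fun y hy => by
      rw [← mem_centralizer_iff.1 hxW y hy, mul_inv_cancel_right]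
    have hw' := (mem_normalizer_iff''.1 (d.hNW hu) w).1 hw
    have e : c * w * c⁻¹ = w := by
      calc c * w * c⁻¹ = x * (u * (x⁻¹ * (u⁻¹ * w * u) * x) * u⁻¹) * x⁻¹ := by rw [hc]; group
        _ = x * (u * (u⁻¹ * w * u) * u⁻¹) * x⁻¹ := by
            conv_lhs => rw [← hx _ hw']
            group
        _ = x * w * x⁻¹ := by group
        _ = w := hx w hw
    exact (mul_inv_eq_iff_eq_mul.1 e).symm
  apply hn
  refine d.mem_rad.2 ⟨hcN, fun v hv => ?_⟩
  by_contra hvH
  refine ha (le_bot_iff.1 (le_trans ?_ (d.fpf _ (d.comm c hcN v hv) hvH).le))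
  intro w hw
  refine mem_inf.2 ⟨hw, mem_centralizer_singleton_iff.2 ?_⟩
  have hmem : c * v * c⁻¹ * v⁻¹ ∈ centralizer (W : Set G) := by
    have e : c * v * c⁻¹ * v⁻¹ = c * (v * c⁻¹ * v⁻¹) := by group
    rw [e]
    exact mul_mem hcW ((mem_normalizer_iff.1
      (CfsgLib.Coprime.normalizer_le_normalizer_centralizer W (d.hNW hv)) _).1 (inv_mem hcW))
  exact mem_centralizer_iff.1 hmem w hw

variable (hloss : Nat.card (mv V x) ≤ q ^ 2)

include hloss

theorem three_moved {M₁ M₂ M₃ : Subgroup G} (h1 : IsHyp r ⁅N, N⁆ M₁) (h2 : IsHyp r ⁅N, N⁆ M₂)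
    (h3 : IsHyp r ⁅N, N⁆ M₃) (a1 : atom V ⁅N, N⁆ M₁ ≠ ⊥) (a2 : atom V ⁅N, N⁆ M₂ ≠ ⊥)
    (a3 : atom V ⁅N, N⁆ M₃ ≠ ⊥) (b1 : MovedAt N x M₁) (b2 : MovedAt N x M₂) (b3 : MovedAt N x M₃)
    (n21 : M₂ ≠ M₁) (n31 : M₃ ≠ M₁) (n32 : M₃ ≠ M₂) : False := by
  have hT := derived_elem h
  have hTV := derived_le_normV h
  have hle : atom V ⁅N, N⁆ M₂ ⊔ atom V ⁅N, N⁆ M₃ ≤ others r V ⁅N, N⁆ M₁ :=
    sup_le (atom_le_others h2 n21) (atom_le_others h3 n31)
  have hV' := fun M => atom_le h.velem hT hTV h.r_ne_q (H := M)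
  have e1 := card_mv_mul_card_mv_le h.velem (hV' M₁) (sup_le (hV' M₂) (hV' M₃)) (norm_atom h hxR h1)
    (CfsgLib.Coprime.sup_le_normalizer (A := R) (fun t ht => norm_atom h ht h2)
      (fun t ht => norm_atom h ht h3) hxR)
    (le_bot_iff.1 ((inf_le_inf_left _ hle).trans (atom_inf_others h.velem hT hTV h.r_ne_q h1).le))
  have e2 := card_mv_mul_card_mv_le (V := atom V ⁅N, N⁆ M₂ ⊔ atom V ⁅N, N⁆ M₃)
    (CfsgLib.EABasic.isElementaryAbelian_le h.velem (sup_le (hV' M₂) (hV' M₃)))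
    le_sup_left le_sup_right (norm_atom h hxR h2) (norm_atom h hxR h3)
    (atom_disjoint h.velem hT hTV h.r_ne_q h2 h3 n32)
  have q23 := Nat.mul_le_mul (q_le_mv h hxR hxq h2 a2 b2) (q_le_mv h hxR hxq h3 a3 b3)
  have := (Nat.mul_le_mul (q_le_mv h hxR hxq h1 a1 b1) (q23.trans e2)).trans (e1.trans hloss)
  have hq2 := hq.out.two_le
  nlinarith

theorem two_moved {M₁ M₂ : Subgroup G} (h1 : IsHyp r ⁅N, N⁆ M₁) (h2 : IsHyp r ⁅N, N⁆ M₂)
    (a2 : atom V ⁅N, N⁆ M₂ ≠ ⊥) (b2 : MovedAt N x M₂) (n21 : M₂ ≠ M₁) :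
    Nat.card (mv (atom V ⁅N, N⁆ M₁) x) ≤ q ^ 1 := by
  have hT := derived_elem h
  have hTV := derived_le_normV h
  have hV' := fun M => atom_le h.velem hT hTV h.r_ne_q (H := M)
  have e1 := card_mv_mul_card_mv_le h.velem (hV' M₁) (hV' M₂) (norm_atom h hxR h1)
    (norm_atom h hxR h2) (atom_disjoint h.velem hT hTV h.r_ne_q h1 h2 n21)
  have := (Nat.mul_le_mul_left _ (q_le_mv h hxR hxq h2 a2 b2)).trans (e1.trans hloss)
  rw [pow_two] at this
  rw [pow_one]
  exact Nat.le_of_mul_le_mul_right this hq.out.pos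

omit hloss in
theorem quot_cases {H : Subgroup G} (hH : IsHyp r ⁅N, N⁆ H) (ha : atom V ⁅N, N⁆ H ≠ ⊥)
    (hm : MovedAt N x H) [((rad N H).subgroupOf N).Normal] {L : ℕ} (hL2 : L ≤ 2)
    (hL : Nat.card (mv (atom V ⁅N, N⁆ H) x) ≤ q ^ L) :
    (r = 2 ∧ Nat.card (N ⧸ (rad N H).subgroupOf N) = 4) ∨
      (L = 2 ∧ ((r = 2 ∧ Nat.card (N ⧸ (rad N H).subgroupOf N) = 16) ∨
        (r = 3 ∧ Nat.card (N ⧸ (rad N H).subgroupOf N) = 9))) := by
  classical
  have d := hdata h hH ha
  have hxW := norm_atom h hxR hH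
  have hxK := norm_rad h hxR hH
  obtain ⟨n, hn⟩ := d.exists_dim
  obtain ⟨hn4, hn3⟩ := d.dim_le hxW (h.hRN hxR) hm hL hn
  obtain ⟨hsq, hend⟩ := d.quot_bounds hn
  set σ : MulAut (N ⧸ (rad N H).subgroupOf N) := quotAut (h.hRN hxR) hxK with hσdef
  have hσq : σ ^ q = 1 := MulEquiv.ext fun y => by
    induction y using QuotientGroup.induction_on with
    | H u =>
      rw [hσdef, quotAut_pow, MulAut.one_apply]
      exact congrArg QuotientGroup.mk (Subtype.ext (by simp [hxq]))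
  have hσ1 : σ ≠ 1 := fun e => by
    obtain ⟨u, hu, hnot⟩ := hm
    exact hnot ((quotAut_eq_one_iff _ _).1 e u hu)
  have hineq := hend hxW (h.hRN hxR) hxK hL hσq hσ1
  have hQp : IsPGroup r (N ⧸ (rad N H).subgroupOf N) := h.rN.to_quotient _
  obtain ⟨k, hk⟩ := IsPGroup.iff_card.1 hQp
  have hev := d.even_quotient hk
  have hfc := fixSub_card (s := q) σ hσq
  set C := Nat.card (fixSub σ) with hCdef
  have hCeq : Nat.card {y : N ⧸ (rad N H).subgroupOf N // σ y = y} = C := rfl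
  rw [← hσdef, hCeq] at hineq
  obtain ⟨i, hik, hi⟩ := (Nat.dvd_prime_pow hr.out).1
    (hk ▸ card_subgroup_dvd_card (fixSub σ) : C ∣ r ^ k)
  have hlt : i < k := lt_of_le_of_ne hik fun e => hσ1
    (eq_one_of_fixSub_top (by rw [← hCdef, hi, e, hk]))
  have hk2 : 2 ≤ k := by
    obtain ⟨j, hj⟩ := hev
    omega
  have hq2 := hq.out.two_le
  have hrq := h.r_ne_q
  rw [hk] at hsq hfc hineq ⊢
  rw [hi] at hfc hineq
  have hmod := d.card_W_modEq
  rw [hn] at hmod
  by_cases hr2 : r = 2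
  · subst hr2
    have hq3 : 3 ≤ q := by omega
    have hk6 : k ≤ 6 := by
      by_contra hc
      have : 2 ^ 7 ≤ 2 ^ k := Nat.pow_le_pow_right two_pos (by omega)
      have : n * n ≤ 8 * 8 := Nat.mul_le_mul (by omega) (by omega)
      omega
    obtain ⟨j, hj⟩ := hev
    have hidx : i + 1 ≠ k := by
      intro e
      -- a fixed subgroup of index two contains everything
      obtain ⟨g, hg⟩ : ∃ g, g ∉ fixSub σ := by
        by_contra hc
        push Not at hc
        exact hσ1 (MulEquiv.ext fun y => mem_fixSub.1 (hc y))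
      have hidx2 : (fixSub σ).index = 2 := by
        have := card_mul_index (fixSub σ)
        rw [← hCdef, hi, hk, ← e, pow_succ] at this
        exact Nat.eq_of_mul_eq_mul_left (pow_pos two_pos i) this
      have hσg : σ g ∉ fixSub σ := fun hh => hg (by
        have e' := mem_fixSub.1 hh
        exact mem_fixSub.2 (σ.injective e'))
      have hc : σ g * g⁻¹ ∈ fixSub σ :=
        (mul_mem_iff_of_index_two hidx2).2
          ⟨fun h' => absurd h' hσg, fun h' => absurd (inv_mem_iff.1 h') hg⟩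
      set c := σ g * g⁻¹ with hcdef
      have hiter : ∀ m : ℕ, (σ ^ m) g = c ^ m * g := by
        intro m
        induction m with
        | zero => simp
        | succ m ihm =>
          rw [pow_succ', MulAut.mul_apply, ihm, map_mul, map_pow, mem_fixSub.1 hc,
            show σ g = c * g by rw [hcdef, inv_mul_cancel_right], ← mul_assoc, ← pow_succ]
      have h1 := hiter q
      rw [hσq, MulAut.one_apply, right_eq_mul] at h1
      obtain ⟨w, hw⟩ := QuotientGroup.mk_surjective c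
      have h2 : c ^ 2 = 1 := by
        rw [← hw, ← QuotientGroup.mk_pow, QuotientGroup.eq_one_iff, mem_subgroupOf]
        exact d.pow_mem_rad w.2
      have h3 : c = 1 := by
        have := orderOf_dvd_of_pow_eq_one h1
        exact orderOf_eq_one_iff.1 (Nat.eq_one_of_dvd_coprimes
          ((Nat.coprime_primes hq.out Nat.prime_two).2 (by omega)) this (orderOf_dvd_of_pow_eq_one h2))
      exact hg (mem_fixSub.2 (mul_inv_eq_one.1 h3))
    interval_cases k
    · exact Or.inl ⟨rfl, rfl⟩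
    · omega
    · -- sixteen
      by_cases hLe : L = 2
      · exact Or.inr ⟨hLe, Or.inl ⟨rfl, rfl⟩⟩
      · exfalso
        have hn4' : n = 4 := by
          rcases Nat.lt_or_ge n 4 with hlt' | hge
          · have := Nat.mul_le_mul (Nat.le_of_lt_succ hlt') (Nat.le_of_lt_succ hlt'); omega
          · omega
        have hL1 : L = 1 := by omega
        subst hn4' hL1
        have : i ≤ 2 := by omega
        have hC4 : (2 : ℕ) ^ i ≤ 4 := le_of_le_of_eq (Nat.pow_le_pow_right two_pos this) (by norm_num)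
        have := Nat.mul_le_mul_left (q - 1) hC4
        norm_num at hineq
        omega
    · omega
    · -- sixty-four
      exfalso
      have hn8 : n = 8 := by
        rcases Nat.lt_or_ge n 8 with hlt' | hge
        · have := Nat.mul_le_mul (Nat.le_of_lt_succ hlt') (Nat.le_of_lt_succ hlt'); omega
        · omega
      have hL2' : L = 2 := by omega
      subst hn8 hL2'
      have : i ≤ 4 := by omega
      have hC : (2 : ℕ) ^ i ≤ 16 := le_of_le_of_eq (Nat.pow_le_pow_right two_pos this) (by norm_num)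
      have := Nat.mul_le_mul_left (q - 1) hC
      norm_num at hineq
      omega
  · have hn3' := hn3 hr2
    have hr3 : 3 ≤ r := by have := hr.out.two_le; omega
    have hk3 : k = 2 := by
      obtain ⟨j, hj⟩ := hev
      by_contra hne
      have h81 : 3 ^ 4 ≤ r ^ k :=
        le_trans (Nat.pow_le_pow_left hr3 4) (Nat.pow_le_pow_right hr.out.pos (by omega))
      have : n * n ≤ 6 * 6 := Nat.mul_le_mul (by omega) (by omega)
      omega
    subst hk3
    have hnn : n * n ≤ 6 * 6 := Nat.mul_le_mul (by omega) (by omega)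
    have hr6 : r ≤ 6 := by
      rw [pow_two] at hsq
      exact Nat.mul_self_le_mul_self_iff.1 (hsq.trans hnn)
    have hrn : r ≤ n := by
      rw [pow_two] at hsq
      exact Nat.mul_self_le_mul_self_iff.1 hsq
    have hi1 : i ≤ 1 := by omega
    -- `q` divides the number of moved elements
    have hd : q ∣ r ^ 2 - r ^ i := (Nat.modEq_iff_dvd' (Nat.pow_le_pow_right hr.out.pos (by omega))).1 hfc.symm
    rcases (show r = 3 ∨ r = 4 ∨ r = 5 ∨ r = 6 by omega) with rfl | rfl | rfl | rfl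
    · by_cases hLe : L = 2
      · exact Or.inr ⟨hLe, Or.inr ⟨rfl, rfl⟩⟩
      exfalso
      have hn' : n = 3 := by omega
      subst hn'
      have hq23 : q ∣ 2 ^ 3 * 3 := by
        interval_cases i <;> norm_num at hd ⊢
        · exact hd.trans (by norm_num)
        · exact hd.trans (by norm_num)
      rcases hq.out.dvd_mul.1 hq23 with h' | h'
      · have := (Nat.prime_dvd_prime_iff_eq hq.out Nat.prime_two).1 (hq.out.dvd_of_dvd_pow h')
        subst this
        exact absurd hmod (by decide)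
      · exact hrq ((Nat.prime_dvd_prime_iff_eq hq.out Nat.prime_three).1 h').symm
    · exact absurd hr.out (by norm_num)
    · exfalso
      have hn' : n = 5 ∨ n = 6 := by omega
      have hq235 : q ∣ 2 ^ 3 * (3 * 5) := by
        interval_cases i <;> norm_num at hd ⊢
        · exact hd.trans (by norm_num)
        · exact hd.trans (by norm_num)
      rcases hq.out.dvd_mul.1 hq235 with h' | h'
      · have := (Nat.prime_dvd_prime_iff_eq hq.out Nat.prime_two).1 (hq.out.dvd_of_dvd_pow h')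
        subst this
        rcases hn' with rfl | rfl <;> exact absurd hmod (by decide)
      rcases hq.out.dvd_mul.1 h' with h'' | h''
      · have := (Nat.prime_dvd_prime_iff_eq hq.out Nat.prime_three).1 h''
        subst this
        rcases hn' with rfl | rfl <;> exact absurd hmod (by decide)
      · exact hrq ((Nat.prime_dvd_prime_iff_eq hq.out (by norm_num)).1 h'').symm
    · exact absurd hr.out (by norm_num)

omit hloss hxq in
theorem moved_of_rad_eq {H H' : Subgroup G} (e : rad N H' = rad N H) (hm : MovedAt N x H) :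
    MovedAt N x H' := by
  obtain ⟨u, hu, hn⟩ := hm
  exact ⟨u, hu, e ▸ hn⟩

theorem stab_triv {H : Subgroup G} (hH : IsHyp r ⁅N, N⁆ H) (ha : atom V ⁅N, N⁆ H ≠ ⊥)
    (hm : MovedAt N x H) {b : G} (hbA : b ∈ A) (hbK : b ∈ normalizer (rad N H : Set G)) :
    ∀ u ∈ N, b * u * b⁻¹ * u⁻¹ ∈ rad N H := by
  classical
  have d := hdata h hH ha
  haveI : ((rad N H).subgroupOf N).Normal := d.rad_normal
  by_contra hcon
  have hbN := h.hAN hbA
  set τ : MulAut (N ⧸ (rad N H).subgroupOf N) := quotAut hbN hbK with hτ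
  have hτ1 : τ ≠ 1 := fun e => hcon ((quotAut_eq_one_iff _ _).1 e)
  obtain ⟨i, hi⟩ := h.pA ⟨b, hbA⟩
  have hbi : b ^ p ^ i = 1 := congrArg Subtype.val hi
  have hpowmk : ∀ m : ℕ, b ^ m = 1 → τ ^ m = 1 := fun m hb1 => MulEquiv.ext fun y => by
    induction y using QuotientGroup.induction_on with
    | H u =>
      rw [hτ, quotAut_pow, MulAut.one_apply]
      exact congrArg QuotientGroup.mk (Subtype.ext (by simp [hb1]))
  obtain ⟨j, hj1, hj⟩ : ∃ j : ℕ, τ ^ p ^ j ≠ 1 ∧ (τ ^ p ^ j) ^ p = 1 := by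
    obtain ⟨k, -, hk⟩ := (Nat.dvd_prime_pow hp.out).1 (orderOf_dvd_of_pow_eq_one (hpowmk _ hbi))
    rcases k with - | k
    · exact absurd (orderOf_eq_one_iff.1 (hk.trans (pow_zero p))) hτ1
    refine ⟨k, fun e => ?_, by rw [← pow_mul, ← pow_succ, ← hk, pow_orderOf_eq_one]⟩
    have := Nat.le_of_dvd (pow_pos hp.out.pos k) (hk ▸ orderOf_dvd_of_pow_eq_one e)
    exact absurd this (not_le.2 (Nat.pow_lt_pow_right hp.out.one_lt (Nat.lt_succ_self k)))
  set b' := b ^ p ^ j with hb'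
  set τ' := τ ^ p ^ j with hτ'
  have hb'A : b' ∈ A := pow_mem hbA _
  have hb'K : b' ∈ normalizer (rad N H : Set G) := pow_mem hbK _
  have hτ'eq : τ' = quotAut (h.hAN hb'A) hb'K := MulEquiv.ext fun y => by
    induction y using QuotientGroup.induction_on with
    | H u => rw [hτ', hτ, quotAut_pow]; rfl
  set σ : MulAut (N ⧸ (rad N H).subgroupOf N) := quotAut (h.hRN hxR) (norm_rad h hxR hH) with hσdef
  have hσq : σ ^ q = 1 := MulEquiv.ext fun y => by
    induction y using QuotientGroup.induction_on with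
    | H u =>
      rw [hσdef, quotAut_pow, MulAut.one_apply]
      exact congrArg QuotientGroup.mk (Subtype.ext (by simp [hxq]))
  have hσ1 : σ ≠ 1 := fun e => by
    obtain ⟨u, hu, hnot⟩ := hm
    exact hnot ((quotAut_eq_one_iff _ _).1 e u hu)
  have hmove : ∀ {s : ℕ} [Fact s.Prime] (g : MulAut (N ⧸ (rad N H).subgroupOf N)), g ^ s = 1 →
      g ≠ 1 → ∀ c : ℕ, Nat.card (N ⧸ (rad N H).subgroupOf N) = r ^ c →
        ∃ e < c, s ∣ r ^ c - r ^ e := by
    intro s _ g hg hg1 c hc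
    obtain ⟨e, he, hce⟩ := (Nat.dvd_prime_pow hr.out).1
      (hc ▸ card_subgroup_dvd_card (fixSub g) : Nat.card (fixSub g) ∣ r ^ c)
    have hlt : e < c := lt_of_le_of_ne he fun h' => hg1 (eq_one_of_fixSub_top (by rw [hce, h', hc]))
    have hf := fixSub_card (s := s) g hg
    rw [hc, hce] at hf
    exact ⟨e, hlt, (Nat.modEq_iff_dvd' (Nat.pow_le_pow_right hr.out.pos hlt.le)).1 hf.symm⟩
  have hcases := quot_cases h hxR hxq hH ha hm le_rfl
    ((card_le_of_le (mv_mono (atom_le h.velem (derived_elem h) (derived_le_normV h) h.r_ne_q H) x)).trans hloss)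
  have hr_p := h.r_ne_p
  have hr_q := h.r_ne_q
  rcases hcases with ⟨hr2, hQ⟩ | ⟨-, ⟨hr2, hQ⟩ | ⟨hr3, hQ⟩⟩
  · subst hr2
    obtain ⟨e₁, he₁, d₁⟩ := hmove τ' hj hj1 2 (by rw [hQ]; norm_num)
    obtain ⟨e₂, he₂, d₂⟩ := hmove σ hσq hσ1 2 (by rw [hQ]; norm_num)
    have key : ∀ (s e : ℕ), s.Prime → s ≠ 2 → e < 2 → s ∣ 2 ^ 2 - 2 ^ e → s = 3 := by
      intro s e hs hs2 he hd
      interval_cases e <;> norm_num at hd
      · exact (Nat.prime_dvd_prime_iff_eq hs Nat.prime_three).1 hd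
      · exact absurd ((Nat.prime_dvd_prime_iff_eq hs Nat.prime_two).1 hd) hs2
    exact h.hpq ((key p e₁ hp.out (Ne.symm hr_p) he₁ d₁).trans (key q e₂ hq.out (Ne.symm hr_q) he₂ d₂).symm)
  · -- sixteen
    subst hr2
    have hp2 : p ≠ 2 := Ne.symm hr_p
    have hq2 : q ≠ 2 := Ne.symm hr_q
    have hfixH : conjBy b' H = H := by
      by_contra hne
      have hHb : ∀ g ∈ A, g ∈ normalizer (rad N H : Set G) →
          IsHyp 2 ⁅N, N⁆ (conjBy g H) ∧ atom V ⁅N, N⁆ (conjBy g H) ≠ ⊥ ∧ MovedAt N x (conjBy g H) :=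
        fun g hg hgK => ⟨hyp_conj h (h.hAN hg) hH, atom_conj_ne h (h.hAV hg) (h.hAN hg) ha,
          moved_of_rad_eq h hxR (by rw [← conjBy_rad (h.hAN hg), conjBy_eq_self_iff.2 hgK]) hm⟩
      obtain ⟨i1, a1, m1⟩ := hHb _ hb'A hb'K
      obtain ⟨i2, a2, m2⟩ := hHb _ (mul_mem hb'A hb'A) (mul_mem hb'K hb'K)
      refine three_moved h hxR hxq hloss hH i1 i2 ha a1 a2 hm m1 m2 hne (fun e => hne ?_) fun e => hne ?_
      · rw [conjBy_eq_self_iff] at e ⊢
        obtain ⟨m, hm'⟩ := (hp.out.odd_of_ne_two hp2).pow (n := i)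
        have hbm : b' ^ p ^ i = 1 := by rw [hb', ← pow_mul, mul_comm, pow_mul, hbi, one_pow]
        have e1 : b' = (b' * b') ^ (m + 1) := by
          rw [← pow_two, ← pow_mul, show 2 * (m + 1) = p ^ i + 1 by omega, pow_succ, hbm, one_mul]
        exact e1 ▸ pow_mem e _
      · rw [← conjBy_conjBy] at e
        exact (map_injective (MulAut.conj b').injective e)
    let o : (N ⧸ (rad N H).subgroupOf N) → (N ⧸ (rad N H).subgroupOf N) → Prop := fun y z =>
      (y.out : G) * z.out * (y.out : G)⁻¹ * (z.out : G)⁻¹ ∈ H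
    -- independence of representatives
    have hrep : ∀ u v : N, o (QuotientGroup.mk u) (QuotientGroup.mk v) ↔
        (u : G) * v * (u : G)⁻¹ * (v : G)⁻¹ ∈ H := by
      have hstep : ∀ (a : G), a ∈ N → ∀ s ∈ rad N H, ∀ v ∈ N,
          (a * s * v * (a * s)⁻¹ * v⁻¹ ∈ H ↔ a * v * a⁻¹ * v⁻¹ ∈ H) := fun a ha' s hs v hv => by
        rw [d.comm_mul ha' (d.rad_le hs) hv]
        exact mul_mem_cancel_right ((d.mem_rad.1 hs).2 v hv)
      intro u v
      obtain ⟨su, hsu⟩ := QuotientGroup.mk_out_eq_mul ((rad N H).subgroupOf N) u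
      obtain ⟨sv, hsv⟩ := QuotientGroup.mk_out_eq_mul ((rad N H).subgroupOf N) v
      show _ * _ * _ * _ ∈ H ↔ _
      rw [hsu, hsv, Subgroup.coe_mul, Subgroup.coe_mul]
      rw [hstep _ u.2 _ (mem_subgroupOf.1 su.2) _ (mul_mem v.2 (sv : N).2),
        d.comm_swap u.2 (mul_mem v.2 (sv : N).2), hstep _ v.2 _ (mem_subgroupOf.1 sv.2) _ u.2]
      exact d.comm_swap v.2 u.2
    have ho : IsSymp o := by
      refine ⟨fun y => ?_, fun y z hyz => ?_, fun y z w => ?_, fun y hy => ?_, fun y => ?_⟩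
      · show _ ∈ H
        rw [mul_inv_cancel_right, mul_inv_cancel]; exact one_mem _
      · exact (d.comm_swap y.out.2 z.out.2).1 hyz
      · obtain ⟨u, rfl⟩ := QuotientGroup.mk_surjective y
        obtain ⟨v, rfl⟩ := QuotientGroup.mk_surjective z
        obtain ⟨t, rfl⟩ := QuotientGroup.mk_surjective w
        rw [← QuotientGroup.mk_mul, hrep, hrep, hrep, d.comm_swap u.2 (v * t : N).2,
          d.comm_swap u.2 v.2, d.comm_swap u.2 t.2, Subgroup.coe_mul]
        exact d.comm_xor u.2 v.2 t.2 rfl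
      · obtain ⟨u, rfl⟩ := QuotientGroup.mk_surjective y
        exact (QuotientGroup.eq_one_iff _).2 (mem_subgroupOf.2 (d.mem_rad.2 ⟨u.2, fun v hv =>
          (hrep u ⟨v, hv⟩).1 (hy _)⟩))
      · obtain ⟨u, rfl⟩ := QuotientGroup.mk_surjective y
        rw [← QuotientGroup.mk_mul, QuotientGroup.eq_one_iff, mem_subgroupOf, Subgroup.coe_mul,
          ← pow_two]
        exact d.pow_mem_rad u.2
    have hpres : ∀ {g : G} (h1 : g ∈ normalizer (N : Set G)) (h2 : g ∈ normalizer (rad N H : Set G)),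
        g ∈ normalizer (H : Set G) → ∀ y z, o (quotAut h1 h2 y) (quotAut h1 h2 z) ↔ o y z := by
      intro g h1 h2 h3 y z
      obtain ⟨u, rfl⟩ := QuotientGroup.mk_surjective y
      obtain ⟨v, rfl⟩ := QuotientGroup.mk_surjective z
      rw [quotAut_mk, quotAut_mk, hrep, hrep]
      refine Iff.trans ?_ (mem_normalizer_iff.1 h3 _).symm
      simp [mul_assoc]
    let f : R →* MulAut (N ⧸ (rad N H).subgroupOf N) :=
      { toFun := fun t => quotAut (h.hRN t.2) (norm_rad h t.2 hH)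
        map_one' := (quotAut_eq_one_iff _ _).2 fun u _ => by simp
        map_mul' := fun s t => MulEquiv.ext fun y => by
          induction y using QuotientGroup.induction_on with
          | H u =>
            rw [MulAut.mul_apply, quotAut_mk, quotAut_mk, quotAut_mk]
            exact congrArg QuotientGroup.mk (Subtype.ext (by simp [mul_assoc])) }
    have hU1 : f.range ≠ ⊥ := fun e => hσ1 (mem_bot.1 (e ▸ ⟨⟨x, hxR⟩, rfl⟩ : σ ∈ (⊥ : Subgroup _)))
    have hUn : τ' ∈ normalizer (f.range : Set (MulAut (N ⧸ (rad N H).subgroupOf N))) := by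
      have key : ∀ t : R, τ' * f t = f ⟨b' * (t : G) * b'⁻¹, conj_mem_of_le_normalizer h.hAR hb'A t.2⟩ * τ' := by
        intro t
        rw [hτ'eq]
        refine MulEquiv.ext fun y => ?_
        induction y using QuotientGroup.induction_on with
        | H u =>
          show quotAut (h.hAN hb'A) hb'K (quotAut (h.hRN t.2) (norm_rad h t.2 hH) (QuotientGroup.mk u)) =
            quotAut (h.hRN (conj_mem_of_le_normalizer h.hAR hb'A t.2))
              (norm_rad h (conj_mem_of_le_normalizer h.hAR hb'A t.2) hH)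
              (quotAut (h.hAN hb'A) hb'K (QuotientGroup.mk u))
          rw [quotAut_mk, quotAut_mk, quotAut_mk, quotAut_mk]
          exact congrArg QuotientGroup.mk (Subtype.ext (by simp [mul_assoc]))
      rw [← conjBy_eq_self_iff]
      haveI : Finite (MulAut (N ⧸ (rad N H).subgroupOf N)) :=
        Finite.of_injective _ MulEquiv.toEquiv_injective
      refine Subgroup.eq_of_le_of_card_ge ?_
        (Nat.card_congr (f.range.equivMapOfInjective _ (MulAut.conj τ').injective).toEquiv).le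
      rintro _ ⟨_, ⟨t, rfl⟩, rfl⟩
      exact ⟨_, (eq_mul_inv_of_mul_eq (key t).symm)⟩
    refine no_normalised_group ho hQ hp2 hq2 h.hpq
      (h.qR.of_surjective f.rangeRestrict f.rangeRestrict_surjective) hU1 ?_ hj hj1 hUn
      (hτ'eq ▸ hpres _ _ (conjBy_eq_self_iff.1 hfixH))
    rintro _ ⟨t, rfl⟩ y z
    exact hpres (h.hRN t.2) (norm_rad h t.2 hH)
      (conjBy_eq_self_iff.1 (conjBy_fix_of_cent h (R_le_cent h t.2) hH)) y z
  · subst hr3
    obtain ⟨e₁, he₁, d₁⟩ := hmove τ' hj hj1 2 (by rw [hQ]; norm_num)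
    obtain ⟨e₂, he₂, d₂⟩ := hmove σ hσq hσ1 2 (by rw [hQ]; norm_num)
    have key : ∀ (s e : ℕ), s.Prime → s ≠ 3 → e < 2 → s ∣ 3 ^ 2 - 3 ^ e → s = 2 := by
      intro s e hs hs3 he hd
      interval_cases e <;> norm_num at hd
      · exact (Nat.prime_dvd_prime_iff_eq hs Nat.prime_two).1 (hs.dvd_of_dvd_pow (show s ∣ 2 ^ 3 from hd))
      · rcases hs.dvd_mul.1 (show s ∣ 2 * 3 from hd) with h' | h'
        · exact (Nat.prime_dvd_prime_iff_eq hs Nat.prime_two).1 h'
        · exact absurd ((Nat.prime_dvd_prime_iff_eq hs Nat.prime_three).1 h') hs3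
    exact h.hpq ((key p e₁ hp.out (Ne.symm hr_p) he₁ d₁).trans (key q e₂ hq.out (Ne.symm hr_q) he₂ d₂).symm)

/-- No element with a small commutator space moves a nonabelian minimal configuration. -/
theorem not_moved_nonabelian (hxN : x ∉ centralizer (N : Set G))
    (hnab : ∃ a ∈ N, ∃ b ∈ N, a * b ≠ b * a) : False := by
  classical
  obtain ⟨H, hH, ha, hm⟩ := exists_moved h hxR hxq hxN hnab
  have d := hdata h hH ha
  haveI : ((rad N H).subgroupOf N).Normal := d.rad_normal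
  have hΦ : h.phi ≤ rad N H := fun c hc => d.mem_rad.2 ⟨hc.1, fun v hv => by
    rw [← mem_centralizer_iff.1 (h.phi_central hc) v hv, mul_inv_cancel_right, mul_inv_cancel]
    exact one_mem _⟩
  have finish : ∀ g ∈ N, g ∉ rad N H →
      (∀ b ∈ A, conjBy b (rad N H) ≠ rad N H → g ∈ rad N (conjBy b H)) → False := by
    intro g hg hgK hoth
    refine h.orbit_contra hΦ hg hgK
      (fun b hbA hbK => stab_triv h hxR hxq hloss hH ha hm hbA hbK g hg) fun b hbA hbK => ?_
    have hne : conjBy b⁻¹ (rad N H) ≠ rad N H := fun e => hbK (by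
      simpa using inv_mem (conjBy_eq_self_iff.1 e))
    have h1 := hoth _ (inv_mem hbA) hne
    rw [← conjBy_rad (h.hAN (inv_mem hbA))] at h1
    simpa using mem_conjBy.1 h1
  by_cases hsec : ∃ H', IsHyp r ⁅N, N⁆ H' ∧ atom V ⁅N, N⁆ H' ≠ ⊥ ∧ MovedAt N x H' ∧
      rad N H' ≠ rad N H
  · obtain ⟨H', hH', ha', hm', hne⟩ := hsec
    have hHne : H' ≠ H := fun e => hne (e ▸ rfl)
    have d' := hdata h hH' ha'
    haveI : ((rad N H').subgroupOf N).Normal := d'.rad_normal
    have hfour : ∀ {M M' : Subgroup G} (hM : IsHyp r ⁅N, N⁆ M) (hM' : IsHyp r ⁅N, N⁆ M')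
        (haM : atom V ⁅N, N⁆ M ≠ ⊥) (haM' : atom V ⁅N, N⁆ M' ≠ ⊥) (hmM : MovedAt N x M)
        (hmM' : MovedAt N x M') [((rad N M).subgroupOf N).Normal], M' ≠ M →
        r = 2 ∧ Nat.card (N ⧸ (rad N M).subgroupOf N) = 4 := by
      intro M M' hM hM' haM haM' hmM hmM' _ hn
      rcases quot_cases h hxR hxq hM haM hmM (L := 1) (by norm_num)
        (two_moved h hxR hxq hloss hM hM' haM' hmM' hn) with h4 | ⟨h12, -⟩
      · exact h4
      · exact absurd h12 (by norm_num)
    obtain ⟨hr2, hQ⟩ := hfour hH hH' ha ha' hm hm' hHne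
    obtain ⟨-, hQ'⟩ := hfour hH' hH ha' ha hm' hm hHne.symm
    obtain ⟨u, hu, huK⟩ : ∃ u ∈ rad N H', u ∉ rad N H := Set.not_subset.1 fun hle => hne
      (Subgroup.eq_of_le_of_card_ge hle (by
        have c1 := card_eq_card_quotient_mul_card_subgroup ((rad N H).subgroupOf N)
        have c2 := card_eq_card_quotient_mul_card_subgroup ((rad N H').subgroupOf N)
        rw [hQ, Nat.card_congr (subgroupOfEquivOfLe d.rad_le).toEquiv] at c1
        rw [hQ', Nat.card_congr (subgroupOfEquivOfLe d'.rad_le).toEquiv] at c2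
        omega))
    have huN := d'.rad_le hu
    have hgK : x * u * x⁻¹ * u⁻¹ ∉ rad N H := by
      intro hgm
      set σ : MulAut (N ⧸ (rad N H).subgroupOf N) := quotAut (h.hRN hxR) (norm_rad h hxR hH) with hσdef
      have hσq : σ ^ q = 1 := MulEquiv.ext fun y => by
        induction y using QuotientGroup.induction_on with
        | H w =>
          rw [hσdef, quotAut_pow, MulAut.one_apply]
          exact congrArg QuotientGroup.mk (Subtype.ext (by simp [hxq]))
      have hmem : (QuotientGroup.mk ⟨u, huN⟩ : N ⧸ (rad N H).subgroupOf N) ∈ fixSub σ := by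
        rw [mem_fixSub, hσdef, quotAut_mk, mk_eq_mk_iff]
        exact hgm
      have hne1 : (QuotientGroup.mk ⟨u, huN⟩ : N ⧸ (rad N H).subgroupOf N) ≠ 1 := fun e =>
        huK (mem_subgroupOf.1 ((QuotientGroup.eq_one_iff _).1 e))
      have h2 : 2 ≤ Nat.card (fixSub σ) := by
        haveI : Nontrivial (fixSub σ) := ⟨⟨⟨_, hmem⟩, 1, fun e => hne1 (congrArg Subtype.val e)⟩⟩
        exact Finite.one_lt_card
      obtain ⟨v, hv, hnv⟩ := hm
      have hlt : Nat.card (fixSub σ) ≠ 4 := fun e => hnv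
        ((quotAut_eq_one_iff _ _).1 (eq_one_of_fixSub_top (σ := σ) (e.trans hQ.symm)) v hv)
      obtain ⟨i, hi, hie⟩ := (Nat.dvd_prime_pow Nat.prime_two).1
        ((hQ ▸ card_subgroup_dvd_card (fixSub σ)).trans (dvd_of_eq (by norm_num : 4 = 2 ^ 2)))
      have hf := fixSub_card (s := q) σ hσq
      rw [hQ, hie] at hf
      have hi1 : i = 1 := by
        rw [hie] at h2 hlt
        interval_cases i <;> simp_all
      subst hi1
      have hd := (Nat.modEq_iff_dvd' (by norm_num)).1 hf.symm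
      norm_num at hd
      exact h.r_ne_q (hr2.trans ((Nat.prime_dvd_prime_iff_eq hq.out Nat.prime_two).1 hd).symm)
    refine finish _ (mul_mem (conj_mem_of_le_normalizer h.hRN hxR huN) (inv_mem huN)) hgK
      fun b hbA hbne => ?_
    have hHb := hyp_conj h (h.hAN hbA) hH
    have hab' := atom_conj_ne h (h.hAV hbA) (h.hAN hbA) ha
    have hne1 : rad N (conjBy b H) ≠ rad N H := by rwa [← conjBy_rad (h.hAN hbA)]
    by_contra hn
    have hmb : MovedAt N x (conjBy b H) := ⟨u, huN, hn⟩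
    by_cases e : conjBy b H = H'
    · rw [e] at hn
      exact hn (mul_mem ((mem_normalizer_iff.1 (norm_rad h hxR hH') u).1 hu) (inv_mem hu))
    · exact three_moved h hxR hxq hloss hH hH' hHb ha ha' hab' hm hm' hmb hHne
        (fun e' => hne1 (by rw [e'])) e
  · push Not at hsec
    obtain ⟨u, hu, hg⟩ := id hm
    refine finish _ (mul_mem (conj_mem_of_le_normalizer h.hRN hxR hu) (inv_mem hu)) hg
      fun b hbA hbne => ?_
    by_contra hn
    apply hbne
    rw [conjBy_rad (h.hAN hbA)]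
    exact hsec _ (hyp_conj h (h.hAN hbA) hH) (atom_conj_ne h (h.hAV hbA) (h.hAN hbA) ha) ⟨u, hu, hn⟩

end SmallNonabelian

end CfsgLib.SolvSignalizer
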