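import Cfsg.Agent.Lib.SolvSignalizer.SmallAbelian
import Cfsg.Agent.Lib.SolvSignalizer.SmallNonabelian
import Cfsg.Agent.Lib.Coprime.Fitting
import Mathlib.GroupTheory.Nilpotent
import Mathlib.GroupTheory.Sylow

/-!
# Elements with a small commutator space and offenders
-/

set_option autoImplicit false
set_option linter.style.haveILetI false
set_option linter.unusedSectionVars false

open Subgroup
open CfsgLib.Coprime (conjBy conjBy_eq_self_iff conj_mem_of_le_normalizer)

namespace CfsgLib.SolvSignalizer

universe u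

variable {G : Type u} [Group G] [Finite G] {p q : ℕ} [hp : Fact p.Prime] [hq : Fact q.Prime]
  {V A N R : Subgroup G}

/-- An element of order `q` of `R` moving at most `q ^ 2` points of `V` centralises `N`. -/
theorem SData.mem_centralizer_of_small (h : SData p q V A N R) {x : G} (hxR : x ∈ R) (hxq : x ^ q = 1)
    (hloss : Nat.card (mv V x) ≤ q ^ 2) : x ∈ centralizer (N : Set G) := by
  classical
  by_contra hxN
  set R₀ : Subgroup G := closure {y | ∃ a ∈ A, a * x * a⁻¹ = y} with hR₀
  have hR₀R : R₀ ≤ R := (closure_le R).2 (by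
    rintro y ⟨a, ha, rfl⟩
    exact conj_mem_of_le_normalizer h.hAR ha hxR)
  have hxR₀ : x ∈ R₀ := subset_closure ⟨1, one_mem _, by simp⟩
  have hAR₀ : A ≤ normalizer (R₀ : Set G) := by
    intro b hb
    rw [← conjBy_eq_self_iff]
    refine Subgroup.eq_of_le_of_card_ge ?_
      (Nat.card_congr (R₀.equivMapOfInjective _ (MulAut.conj b).injective).toEquiv).le
    rw [conjBy, hR₀, MonoidHom.map_closure, closure_le]
    rintro _ ⟨_, ⟨a, ha, rfl⟩, rfl⟩
    exact subset_closure ⟨b * a, mul_mem hb ha, by simp [mul_assoc]⟩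
  let P : Subgroup G → Prop := fun M => M ≤ N ∧ A ≤ normalizer (M : Set G) ∧
    R₀ ≤ normalizer (M : Set G) ∧ ¬ R₀ ≤ centralizer (M : Set G)
  have hPN : P N := ⟨le_rfl, h.hAN, hR₀R.trans h.hRN, fun hle => hxN (hle hxR₀)⟩
  obtain ⟨M, -, hM⟩ := exists_minimal_le_of_wellFoundedLT P N hPN
  obtain ⟨hMN, hAM, hRM, hmov⟩ := hM.prop
  have hnil : Group.IsNilpotent M := CfsgLib.Coprime.isNilpotent_of_le hMN h.nilN
  -- some Sylow subgroup of `M` is moved
  obtain ⟨r, hr, S, hS⟩ : ∃ r : ℕ, ∃ _ : Fact r.Prime, ∃ S : Sylow r M,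
      ¬ R₀ ≤ centralizer (((S : Subgroup M).map M.subtype : Subgroup G) : Set G) := by
    by_contra hc
    push Not at hc
    apply hmov
    rw [le_centralizer_iff]
    have hle : M ≤ M ⊓ centralizer (R₀ : Set G) := by
      refine (Subgroup.eq_of_le_of_card_ge inf_le_left ?_).ge
      refine Nat.le_of_dvd Nat.card_pos ?_
      rw [← Nat.factorization_le_iff_dvd Nat.card_pos.ne' Nat.card_pos.ne']
      intro r
      by_cases hr : r.Prime
      · haveI := Fact.mk hr
        obtain ⟨S⟩ : Nonempty (Sylow r M) := inferInstance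
        have hS : (S : Subgroup M).map M.subtype ≤ M ⊓ centralizer (R₀ : Set G) :=
          le_inf (map_subtype_le _) (le_centralizer_iff.1 (hc r ⟨hr⟩ S))
        have hd := card_dvd_of_le hS
        rw [← Nat.card_congr ((S : Subgroup M).equivMapOfInjective M.subtype M.subtype_injective).toEquiv,
          S.card_eq_multiplicity] at hd
        exact (hr.pow_dvd_iff_le_factorization Nat.card_pos.ne').1 hd
      · rw [Nat.factorization_eq_zero_of_not_prime _ hr]
        exact Nat.zero_le _
    exact hle.trans inf_le_right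
  have hnorm : (S : Subgroup M).Normal := by
    haveI := hr
    have := (Group.isNilpotent_of_finite_tfae (G := M)).out 0 3
    exact this.1 hnil r hr S
  haveI := hr
  haveI := S.characteristic_of_normal hnorm
  set M' : Subgroup G := (S : Subgroup M).map M.subtype with hM'
  have hchar := CfsgLib.LS.normalizer_le_normalizer_map_char (S : Subgroup M)
  have hM'eq : M' = M := hM.eq_of_le ⟨(map_subtype_le _).trans hMN, hAM.trans hchar, hRM.trans hchar, hS⟩
    (map_subtype_le _)
  have hmin : SMin p q r V A M R₀ :=
    { velem := h.velem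
      hAV := h.hAV
      hNV := hMN.trans h.hNV
      hRV := hR₀R.trans h.hRV
      faith := le_bot_iff.1 ((inf_le_inf_right _ hMN).trans h.faith.le)
      hAN := hAM
      hRN := hRM
      hAR := hAR₀
      pA := h.pA
      commA := h.commA
      qR := h.qR.to_le hR₀R
      nilN := hnil
      pN := fun hd => h.pN (hd.trans (card_dvd_of_le hMN))
      qN := fun hd => h.qN (hd.trans (card_dvd_of_le hMN))
      hpq := h.hpq
      fix := ((inf_le_inf_right _ hMN).trans h.fix).trans (centralizer_le hR₀R)
      rN := hM'eq ▸ S.2.map M.subtype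
      moved := hmov
      minimal := fun L hL hAL hRL hne => by
        by_contra hnot
        exact hne (hM.eq_of_le ⟨hL.trans hMN, hAL, hRL, hnot⟩ hL) }
  have hxM : x ∉ centralizer (M : Set G) := by
    intro hx
    apply hmov
    refine (closure_le _).2 ?_
    rintro y ⟨a, ha, rfl⟩
    exact (mem_normalizer_iff.1 (CfsgLib.Coprime.normalizer_le_normalizer_centralizer M (hAM ha)) x).1 hx
  by_cases hab : ∀ a ∈ M, ∀ b ∈ M, a * b = b * a
  · exact not_moved_abelian hmin hab hxR₀ hxq hloss hxM
  · push Not at hab
    exact not_moved_nonabelian hmin hxR₀ hxq hloss hxM hab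

/-- The offender lemma: an elementary subgroup of `R` faithful on `V` and moving at most `q ^ d`
times its order, `d ≤ 1`, centralises `N`, provided `V` is generated by conjugates of points
fixed by `R`. -/
theorem SData.offender (h : SData p q V A N R) {Z₀ : Subgroup G} (hRZ : R ≤ centralizer (Z₀ : Set G))
    (hgen : ∀ W : Subgroup G, Z₀ ≤ W → W ≤ V → N ≤ normalizer (W : Set G) → W = V) (hZV : Z₀ ≤ V)
    {d : ℕ} (hd : d ≤ 1) : ∀ X : Subgroup G, X ≤ R → Cfsg.IsElementaryAbelian q X →
      X ⊓ centralizer (V : Set G) = ⊥ →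
      (centralizer (X : Set G)).relIndex V ≤ q ^ d * Nat.card X → X ≤ centralizer (N : Set G) := by
  intro X
  induction X using WellFoundedLT.induction with
  | _ X ih =>
  intro hXR hXe hXf hloss
  by_contra hXN
  obtain ⟨k, hk⟩ := IsPGroup.iff_card.1 (CfsgLib.EABasic.isPGroup_of_isElementaryAbelian hXe)
  rcases k with - | - | k
  · exact hXN (by rw [card_eq_one.1 (hk.trans (pow_zero q))]; exact bot_le)
  · -- cyclic
    obtain ⟨x, hx, hxN⟩ := Set.not_subset.1 hXN
    have hx1 : x ≠ 1 := fun e => hxN (e ▸ one_mem _)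
    have hzp : zpowers x = X := Subgroup.eq_of_le_of_card_ge (zpowers_le.2 hx) (by
      rw [Nat.card_zpowers, orderOf_eq_prime (hXe.2 x hx) hx1, hk, zero_add, pow_one])
    refine hxN (h.mem_centralizer_of_small (hXR hx) (hXe.2 x hx) ?_)
    have hC : centralizer (X : Set G) = centralizer ({x} : Set G) := by
      rw [← hzp, zpowers_eq_closure, centralizer_closure]
    have hmv := card_mv_mul h.velem (h.hRV (hXR hx))
    have hidx := relIndex_mul_relIndex ⊥ (V ⊓ centralizer ({x} : Set G)) V bot_le inf_le_left
    rw [relIndex_bot_left, relIndex_bot_left, inf_comm, inf_relIndex_right] at hidx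
    rw [hC, hk, zero_add, pow_one] at hloss
    have e : Nat.card (mv V x) = (centralizer ({x} : Set G)).relIndex V := by
      refine Nat.eq_of_mul_eq_mul_right (Nat.card_pos (α := (V ⊓ centralizer ({x} : Set G) : Subgroup G))) ?_
      rw [hmv, mul_comm ((centralizer ({x} : Set G)).relIndex V), inf_comm V, hidx]
    rw [e]
    refine hloss.trans ?_
    rw [← pow_succ]
    exact Nat.pow_le_pow_right hq.out.pos (by omega)
  · -- every hyperplane has the fixed points of `X`
    have hhyp : ∀ Y : Subgroup G, Y ≤ X → Y.relIndex X = q →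
        V ⊓ centralizer (Y : Set G) = V ⊓ centralizer (X : Set G) := by
      intro Y hY hidx
      have hYlt : Y < X := lt_of_le_of_ne hY fun e => by
        rw [e, relIndex_self] at hidx
        exact hq.out.one_lt.ne hidx
      have hYf : Y ⊓ centralizer (V : Set G) = ⊥ :=
        le_bot_iff.1 ((inf_le_inf_right _ hY).trans hXf.le)
      have hYe := CfsgLib.EABasic.isElementaryAbelian_le hXe hY
      have hcY : q * Nat.card Y = Nat.card X := by
        have := relIndex_mul_relIndex ⊥ Y X bot_le hY
        rw [relIndex_bot_left, relIndex_bot_left, hidx] at this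
        rw [mul_comm]; exact this
      have hsub : (centralizer (X : Set G) : Subgroup G) ≤ centralizer (Y : Set G) := centralizer_le hY
      have hle : (centralizer (Y : Set G)).relIndex V ≤ (centralizer (X : Set G)).relIndex V :=
        Nat.le_of_dvd (Nat.pos_of_ne_zero index_ne_zero_of_finite) (relIndex_dvd_of_le_left V hsub)
      by_contra hne
      have hlt : (centralizer (Y : Set G)).relIndex V < (centralizer (X : Set G)).relIndex V := by
        refine lt_of_le_of_ne hle fun e => hne ?_
        refine (Subgroup.eq_of_le_of_card_ge (inf_le_inf_left V hsub) (le_of_eq ?_)).symm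
        have a1 := relIndex_mul_relIndex ⊥ (V ⊓ centralizer (Y : Set G)) V bot_le inf_le_left
        have a2 := relIndex_mul_relIndex ⊥ (V ⊓ centralizer (X : Set G)) V bot_le inf_le_left
        rw [relIndex_bot_left, relIndex_bot_left, inf_comm, inf_relIndex_right] at a1 a2
        rw [e] at a1
        rw [inf_comm V, inf_comm V]
        exact Nat.eq_of_mul_eq_mul_right (Nat.pos_of_ne_zero index_ne_zero_of_finite) (a1.trans a2.symm)
      obtain ⟨a, ha⟩ := relIndex_isPow hq.out h.velem (centralizer (Y : Set G))
      obtain ⟨b, hb⟩ := relIndex_isPow hq.out h.velem (centralizer (X : Set G))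
      have hY' : q * (centralizer (Y : Set G)).relIndex V ≤ (centralizer (X : Set G)).relIndex V := by
        rw [ha, hb] at hlt ⊢
        rw [← pow_succ']
        exact Nat.pow_le_pow_right hq.out.pos ((Nat.pow_lt_pow_iff_right hq.out.one_lt).1 hlt)
      have hYN : Y ≤ centralizer (N : Set G) := by
        refine ih Y hYlt (hY.trans hXR) hYe hYf (Nat.le_of_mul_le_mul_left (hY'.trans (hloss.trans ?_)) hq.out.pos)
        rw [← hcY]
        exact (mul_left_comm (q ^ d) q (Nat.card Y)).le
      -- then `Y` centralises all of `V`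
      have hYV : Y ≤ centralizer (V : Set G) := by
        have hW : V ⊓ centralizer (Y : Set G) = V := by
          refine hgen _ (le_inf hZV (hZ_cent hRZ (hY.trans hXR))) inf_le_left ?_
          exact CfsgLib.Coprime.inf_le_normalizer h.hNV ((le_centralizer_iff.1 hYN).trans
            ((CfsgLib.Coprime.centralizer_le_normalizer_self _).trans
              (CfsgLib.Coprime.normalizer_le_normalizer_centralizer Y)))
        rw [le_centralizer_iff, ← hW]
        exact inf_le_right
      have : Nat.card Y = 1 := by
        rw [card_eq_one, ← le_bot_iff, ← hYf]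
        exact le_inf le_rfl hYV
      rw [this, mul_one, hk] at hcY
      exact absurd hcY (Nat.lt_of_lt_of_le
        (by rw [← pow_one q, ← pow_mul]; exact Nat.pow_lt_pow_right hq.out.one_lt (by omega))
        le_rfl).ne
    set D := V ⊓ centralizer (X : Set G) with hD
    have hND : N ≤ normalizer (D : Set G) := by
      refine CfsgLib.Coprime.le_of_hyperplanes hXe (by rw [hk]; exact Nat.pow_le_pow_right hq.out.pos (by omega))
        h.qN (hXR.trans h.hRN) fun Y hY hidx u hu => ?_
      rw [← hhyp Y hY hidx]
      exact CfsgLib.Coprime.inf_le_normalizer (A := centralizer (Y : Set G) ⊓ N) (inf_le_right.trans h.hNV)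
        (inf_le_left.trans ((CfsgLib.Coprime.centralizer_le_normalizer_self _).trans
          (CfsgLib.Coprime.normalizer_le_normalizer_centralizer Y))) ⟨hu.2, hu.1⟩
    have hDV : D = V := hgen D (le_inf hZV (hZ_cent hRZ hXR)) inf_le_left hND
    refine hXN fun x hx => ?_
    have hxV : x ∈ X ⊓ centralizer (V : Set G) := mem_inf.2 ⟨hx, (le_centralizer_iff.1
      (show V ≤ centralizer (X : Set G) by rw [← hDV]; exact inf_le_right)) hx⟩
    rw [hXf, mem_bot] at hxV
    rw [hxV]; exact one_mem _
where
  relIndex_isPow {q : ℕ} (hq : q.Prime) {V : Subgroup G} (hV : Cfsg.IsElementaryAbelian q V)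
      (K : Subgroup G) : ∃ a, K.relIndex V = q ^ a := by
    haveI := Fact.mk hq
    obtain ⟨n, hn⟩ := IsPGroup.iff_card.1 (CfsgLib.EABasic.isPGroup_of_isElementaryAbelian hV)
    obtain ⟨a, -, ha⟩ := (Nat.dvd_prime_pow hq).1 (hn ▸ relIndex_dvd_card K V)
    exact ⟨a, ha⟩
  hZ_cent {Z₀ R Y : Subgroup G} (hRZ : R ≤ centralizer (Z₀ : Set G)) (hY : Y ≤ R) :
      Z₀ ≤ centralizer (Y : Set G) := le_centralizer_iff.1 (hY.trans hRZ)

end CfsgLib.SolvSignalizer
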