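import Cfsg.Agent.Lib.SolvSignalizer.Atoms
import Cfsg.Agent.Lib.SolvSignalizer.Orbit
import Cfsg.Agent.Lib.Coprime.SchurZassenhaus

/-!
# Elements with a small commutator space: the abelian case
-/

set_option autoImplicit false
set_option linter.style.haveILetI false
set_option linter.unusedSectionVars false

open Subgroup
open CfsgLib.Coprime (conjBy conjBy_conjBy conjBy_one conjBy_eq_self_iff mem_conjBy conj_mem_conjBy
  conj_mem_of_le_normalizer)

namespace CfsgLib.SolvSignalizer

universe u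

variable {G : Type u} [Group G]

/-- The translates of `H` under the powers of `x`. -/
def orbSet (x : G) (H : Subgroup G) : Set (Subgroup G) := {K | ∃ i : ℕ, conjBy (x ^ i) H = K}

/-- Some commutator with `x` escapes `H`. -/
def Bad (N : Subgroup G) (x : G) (H : Subgroup G) : Prop := ∃ u ∈ N, x * u * x⁻¹ * u⁻¹ ∉ H

section Orb

variable [Finite G] {q : ℕ} [hq : Fact q.Prime] {x : G} (hxq : x ^ q = 1) {H : Subgroup G}
  (hH : conjBy x H ≠ H)

include hxq

theorem conjBy_pow_mod (i : ℕ) : conjBy (x ^ i) H = conjBy (x ^ (i % q)) H := by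
  conv_lhs => rw [← Nat.mod_add_div i q, pow_add, pow_mul, hxq, one_pow, mul_one]

include hH

theorem conjBy_pow_ne {i : ℕ} (hi : ¬ q ∣ i) : conjBy (x ^ i) H ≠ H := by
  intro e
  apply hH
  rw [conjBy_eq_self_iff] at e ⊢
  obtain ⟨j, hj⟩ := Nat.exists_mul_mod_eq_one_of_coprime
    ((hq.out.coprime_iff_not_dvd.2 hi).symm) hq.out.one_lt
  have := pow_mem e j
  rwa [← pow_mul, ← Nat.mod_add_div (i * j) q, hj.2, pow_add, pow_mul, hxq, one_pow, mul_one,
    pow_one] at this

theorem card_orbSet : Nat.card (orbSet x H) = q := by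
  have hb : Function.Bijective (fun i : Fin q => (⟨conjBy (x ^ (i : ℕ)) H, i, rfl⟩ : orbSet x H)) := by
    constructor
    · intro i j e
      have e' : conjBy (x ^ (i : ℕ)) H = conjBy (x ^ (j : ℕ)) H := congrArg Subtype.val e
      wlog hij : (i : ℕ) ≤ j generalizing i j
      · exact (this (i := j) (j := i) (Subtype.ext e'.symm) e'.symm (le_of_not_ge hij)).symm
      by_contra hne
      refine conjBy_pow_ne hxq hH (i := (j : ℕ) - i) ?_ ?_
      · intro hd
        have h0 := Nat.eq_zero_of_dvd_of_lt hd (by omega)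
        exact hne (Fin.ext (by omega))
      · have e2 := congrArg (conjBy (x ^ (i : ℕ))⁻¹) e'
        rw [conjBy_conjBy, conjBy_conjBy, inv_mul_cancel, conjBy_one] at e2
        rw [← pow_mul_pow_sub x hij, inv_mul_cancel_left] at e2
        exact e2.symm
    · rintro ⟨K, i, rfl⟩
      exact ⟨⟨i % q, Nat.mod_lt _ hq.out.pos⟩, Subtype.ext (conjBy_pow_mod hxq i).symm⟩
  rw [← Nat.card_eq_of_bijective _ hb, Nat.card_fin]

theorem orbSet_ne {K : Subgroup G} (hK : K ∈ orbSet x H) : conjBy x K ≠ K := by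
  obtain ⟨i, rfl⟩ := hK
  intro e
  apply hH
  have e2 := congrArg (conjBy (x ^ i)⁻¹) e
  rw [conjBy_conjBy, conjBy_conjBy, conjBy_conjBy, inv_mul_cancel, conjBy_one] at e2
  have e3 : (x ^ i)⁻¹ * x * x ^ i = x := by
    rw [mul_assoc, (Commute.self_pow x i).eq, inv_mul_cancel_left]
  rwa [e3] at e2

end Orb

section SmallAbelian

variable [Finite G] {p q r : ℕ} [hp : Fact p.Prime] [hq : Fact q.Prime] [hr : Fact r.Prime]
  {V A N R : Subgroup G} (h : SMin p q r V A N R) (hab : ∀ a ∈ N, ∀ b ∈ N, a * b = b * a)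
  {x : G} (hxR : x ∈ R) (hxq : x ^ q = 1) (hloss : Nat.card (mv V x) ≤ q ^ 2)

include h hab

theorem phi_eq_bot : h.phi = ⊥ := by
  have h1 := CfsgLib.Coprime.centralizer_inf_commutator_eq_bot
    (⟨⟨fun a b => Subtype.ext (hab a a.2 b b.2)⟩⟩ : IsMulCommutative N) h.hRN h.coprimeR
  rw [h.commutator_R] at h1
  exact le_bot_iff.1 (le_trans (le_inf le_rfl inf_le_left) h1.le)

theorem N_elem : Cfsg.IsElementaryAbelian r N := by
  refine ⟨⟨⟨fun a b => Subtype.ext (hab a a.2 b b.2)⟩⟩, fun a ha => ?_⟩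
  have := h.pow_mem_phi ha
  rwa [phi_eq_bot h hab, mem_bot] at this

theorem conj_le {g : G} (hgN : g ∈ normalizer (N : Set G)) {H : Subgroup G} (hH : IsHyp r N H) :
    IsHyp r N (conjBy g H) := by
  have e : conjBy g N = N := conjBy_eq_self_iff.2 hgN
  refine ⟨le_of_le_of_eq (map_mono hH.1) e, ?_⟩
  calc _ = (conjBy g H).relIndex (conjBy g N) := congrArg _ e.symm
    _ = H.relIndex N := relIndex_map_map_of_injective _ _ (MulAut.conj g).injective
    _ = r := hH.2

theorem conjBy_atom {g : G} (hgV : g ∈ normalizer (V : Set G)) (hgN : g ∈ normalizer (N : Set G))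
    (H : Subgroup G) : conjBy g (atom V N H) = atom V N (conjBy g H) :=
  conj_atom h.velem (N_elem h hab) h.hNV h.r_ne_q hgV hgN H

theorem atom_ne_bot {g : G} (hgV : g ∈ normalizer (V : Set G)) (hgN : g ∈ normalizer (N : Set G))
    {H : Subgroup G} (ha : atom V N H ≠ ⊥) : atom V N (conjBy g H) ≠ ⊥ := by
  rw [← conjBy_atom h hab hgV hgN, Ne, map_eq_bot_iff_of_injective _ (MulAut.conj g).injective]
  exact ha

theorem card_conj_atom {g : G} (hgV : g ∈ normalizer (V : Set G)) (hgN : g ∈ normalizer (N : Set G))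
    (H : Subgroup G) : Nat.card (atom V N (conjBy g H)) = Nat.card (atom V N H) := by
  rw [← conjBy_atom h hab hgV hgN]
  exact Nat.card_congr ((atom V N H).equivMapOfInjective _ (MulAut.conj g).injective).toEquiv.symm

include hxR

theorem bad_of_moved {H : Subgroup G} (hH : IsHyp r N H) (hm : conjBy x H ≠ H) : Bad N x H := by
  by_contra hb
  apply hm
  refine Subgroup.eq_of_le_of_card_ge ?_ (le_of_eq
    (Nat.card_congr (H.equivMapOfInjective _ (MulAut.conj x).injective).toEquiv))
  rintro _ ⟨u, hu, rfl⟩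
  have h1 : x * u * x⁻¹ * u⁻¹ ∈ H := by
    by_contra hn
    exact hb ⟨u, hH.1 hu, hn⟩
  simpa using mul_mem h1 hu

theorem bad_not_quiet {H : Subgroup G} (hH : IsHyp r N H) (ha : atom V N H ≠ ⊥) (hb : Bad N x H) :
    ∃ v ∈ atom V N H, v ∉ centralizer ({x} : Set G) := by
  by_contra hc
  push Not at hc
  obtain ⟨u, hu, hn⟩ := hb
  refine ha (le_bot_iff.1 (le_trans ?_ (atom_fixed_bot h.velem (N_elem h hab) h.hNV h.r_ne_q hH
    (mul_mem (conj_mem_of_le_normalizer h.hRN hxR hu) (inv_mem hu)) hn).le))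
  intro v hv
  refine mem_inf.2 ⟨hv, mem_centralizer_singleton_iff.2 ?_⟩
  have hx : ∀ w ∈ atom V N H, x * w * x⁻¹ = w := fun w hw =>
    mul_inv_eq_iff_eq_mul.2 (mem_centralizer_singleton_iff.1 (hc w hw)).symm
  have hxi : ∀ w ∈ atom V N H, x⁻¹ * w * x = w := fun w hw => by
    conv_lhs => rw [← hx w hw]
    group
  have hu' := T_norm_atom h.velem (N_elem h hab) h.hNV h.r_ne_q hH hu
  refine (mul_inv_eq_iff_eq_mul.1 (?_ : x * u * x⁻¹ * u⁻¹ * v * (x * u * x⁻¹ * u⁻¹)⁻¹ = v)).symm
  have hw := (mem_normalizer_iff''.1 hu' v).1 hv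
  calc x * u * x⁻¹ * u⁻¹ * v * (x * u * x⁻¹ * u⁻¹)⁻¹
      = x * (u * (x⁻¹ * (u⁻¹ * v * u) * x) * u⁻¹) * x⁻¹ := by group
    _ = x * v * x⁻¹ := by rw [hxi _ hw]; group
    _ = v := hx v hv

theorem exists_bad (hxN : x ∉ centralizer (N : Set G)) :
    ∃ H, IsHyp r N H ∧ atom V N H ≠ ⊥ ∧ Bad N x H := by
  by_contra hc
  push Not at hc
  refine hxN (mem_centralizer_iff.2 fun u hu => ?_)
  have hmem : x * u * x⁻¹ * u⁻¹ ∈ N := mul_mem (conj_mem_of_le_normalizer h.hRN hxR hu) (inv_mem hu)
  have h1 := mem_centralizer_of_atoms h.velem (N_elem h hab) h.hNV h.r_ne_q hmem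
    fun H hH ha => by
      by_contra hn
      exact hc H hH ha ⟨u, hu, hn⟩
  have h2 : x * u * x⁻¹ * u⁻¹ ∈ N ⊓ centralizer (V : Set G) := mem_inf.2 ⟨hmem, h1⟩
  rw [h.faith, mem_bot, mul_inv_eq_one, mul_inv_eq_iff_eq_mul] at h2
  exact h2.symm

include hxq

omit hxq in
theorem comm_normalizer {X Y : Subgroup G} (hX : X ≤ V) (hY : Y ≤ V) :
    Y ≤ normalizer (X : Set G) := fun y hy =>
  CfsgLib.Coprime.centralizer_le_normalizer_self _
    (mem_centralizer_iff.2 fun z hz => comm_of_elem h.velem (hX hz) (hY hy))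

/-- A moved hyperplane costs its atom (twice for odd `q`), and more with a part away from it. -/
theorem moved_bound {H : Subgroup G} (hH : IsHyp r N H) (hm : conjBy x H ≠ H) {D : Subgroup G}
    (hDV : D ≤ V) (hD : D ⊓ centralizer ({x} : Set G) = ⊥)
    (hDo : ∀ K ∈ orbSet x H, D ≤ others r V N K) :
    Nat.card (atom V N H) * Nat.card D ≤ Nat.card (mv V x) ∧
      (q ≠ 2 → Nat.card (atom V N H) * (Nat.card (atom V N H) * Nat.card D) ≤ Nat.card (mv V x)) := by
  have hxV := h.hRV hxR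
  have hxN := h.hRN hxR
  have hV' := fun K => atom_le h.velem (N_elem h hab) h.hNV h.r_ne_q K
  have hcj : ∀ K : Subgroup G, ∀ w ∈ others r V N K, x * w * x⁻¹ ∈ others r V N (conjBy x K) :=
    fun K w hw => conj_others h.velem (N_elem h hab) h.hNV h.r_ne_q hxV hxN K (mem_map_of_mem _ hw)
  have hat : ∀ K : Subgroup G, ∀ w ∈ atom V N K, x * w * x⁻¹ ∈ atom V N (conjBy x K) :=
    fun K w hw => conjBy_atom h hab hxV hxN K ▸ conj_mem_conjBy hw
  set P := conjBy (x ^ (q - 1)) H with hP
  have hxP : conjBy x P = H := by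
    rw [hP, conjBy_conjBy, ← pow_succ', Nat.sub_add_cancel hq.out.one_le, hxq, conjBy_one]
  have hPhyp : IsHyp r N P := conj_le h hab (pow_mem hxN _) hH
  have hx1 : IsHyp r N (conjBy x H) := conj_le h hab hxN hH
  have hDP : D ≤ others r V N P := hDo _ ⟨q - 1, rfl⟩
  have hDH : D ≤ others r V N H := hDo _ ⟨0, by rw [pow_zero, conjBy_one]⟩
  have hDx : D ≤ others r V N (conjBy x H) := hDo _ ⟨1, by rw [pow_one]⟩
  have hd : ∀ K, IsHyp r N K → D ≤ others r V N K → atom V N K ⊓ D = ⊥ := fun K hK hle =>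
    le_bot_iff.1 ((inf_le_inf_left _ hle).trans
      (atom_inf_others h.velem (N_elem h hab) h.hNV h.r_ne_q hK).le)
  -- elements `a * c` fixed by `x` with `c` away from `P` have `a = 1`
  have first : ∀ a ∈ atom V N H, ∀ c ∈ others r V N H, c ∈ others r V N P →
      x * (a * c) * x⁻¹ = a * c → a = 1 := by
    intro a ha c hc hcP he
    have hc' : x * c * x⁻¹ ∈ others r V N H := hxP ▸ hcj P c hcP
    have ha' : x * a * x⁻¹ ∈ others r V N H := atom_le_others hx1 hm (hat H a ha)
    have e : a = (x * a * x⁻¹) * (x * c * x⁻¹) * c⁻¹ := by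
      rw [eq_mul_inv_iff_mul_eq]
      conv_lhs => rw [← he]
      group
    have : a ∈ atom V N H ⊓ others r V N H :=
      mem_inf.2 ⟨ha, e ▸ mul_mem (mul_mem ha' hc') (inv_mem hc)⟩
    rwa [atom_inf_others h.velem (N_elem h hab) h.hNV h.r_ne_q hH, mem_bot] at this
  have hfixD : ∀ d ∈ D, x * d * x⁻¹ = d → d = 1 := fun d hd' he => by
    have : d ∈ D ⊓ centralizer ({x} : Set G) :=
      mem_inf.2 ⟨hd', mem_centralizer_singleton_iff.2 (mul_inv_eq_iff_eq_mul.1 he).symm⟩
    rwa [hD, mem_bot] at this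
  have hfix_of : ∀ v : G, v ∈ centralizer ({x} : Set G) → x * v * x⁻¹ = v := fun v hv =>
    mul_inv_eq_iff_eq_mul.2 (mem_centralizer_singleton_iff.1 hv).symm
  constructor
  · rw [← CfsgLib.CFun.ZLen.card_sup_eq (comm_normalizer h hab hxR (hV' H) hDV) (hd H hH hDH)]
    refine card_le_card_mv h.velem hxV (sup_le (hV' H) hDV) (le_bot_iff.1 fun v hv => ?_)
    obtain ⟨a, ha, c, hc, rfl⟩ := CfsgLib.Coprime.mem_sup_exists
      (comm_normalizer h hab hxR (hV' H) hDV) hv.1
    have he := hfix_of _ hv.2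
    have h1 := first a ha c (hDH hc) (hDP hc) he
    subst h1
    rw [one_mul] at he ⊢
    exact hfixD c hc he
  · intro hq2
    have hne : conjBy x H ≠ P := by
      intro e
      refine conjBy_pow_ne hxq hm (i := 2) (fun hd => hq2 ((Nat.prime_dvd_prime_iff_eq hq.out Nat.prime_two).1 hd)) ?_
      rw [pow_two, ← conjBy_conjBy, e, hxP]
    have hne2 : conjBy x (conjBy x H) ≠ conjBy x H :=
      orbSet_ne hxq hm ⟨1, by rw [pow_one]⟩
    have hW1 := hV' (conjBy x H)
    have hle1 : atom V N (conjBy x H) ⊔ D ≤ others r V N H := sup_le (atom_le_others hx1 hm) hDH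
    have hcard : Nat.card (atom V N H ⊔ (atom V N (conjBy x H) ⊔ D) : Subgroup G) =
        Nat.card (atom V N H) * (Nat.card (atom V N H) * Nat.card D) := by
      rw [CfsgLib.CFun.ZLen.card_sup_eq (comm_normalizer h hab hxR (hV' H) (sup_le hW1 hDV))
        (le_bot_iff.1 ((inf_le_inf_left _ hle1).trans
          (atom_inf_others h.velem (N_elem h hab) h.hNV h.r_ne_q hH).le)),
        CfsgLib.CFun.ZLen.card_sup_eq (comm_normalizer h hab hxR hW1 hDV) (hd _ hx1 hDx),
        card_conj_atom h hab hxV hxN]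
    rw [← hcard]
    refine card_le_card_mv h.velem hxV (sup_le (hV' H) (sup_le hW1 hDV)) (le_bot_iff.1 fun v hv => ?_)
    obtain ⟨a, ha, c, hc, rfl⟩ := CfsgLib.Coprime.mem_sup_exists
      (comm_normalizer h hab hxR (hV' H) (sup_le hW1 hDV)) hv.1
    have he := hfix_of _ hv.2
    have hcP : c ∈ others r V N P := sup_le (atom_le_others hx1 hne) hDP hc
    have h1 := first a ha c (hle1 hc) hcP he
    subst h1
    rw [one_mul] at he ⊢
    obtain ⟨b, hb, d, hd', rfl⟩ := CfsgLib.Coprime.mem_sup_exists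
      (comm_normalizer h hab hxR hW1 hDV) hc
    have hb1 : b = 1 := by
      have e : b = (x * b * x⁻¹) * (x * d * x⁻¹) * d⁻¹ := by
        rw [eq_mul_inv_iff_mul_eq]
        conv_lhs => rw [← he]
        group
      have : b ∈ atom V N (conjBy x H) ⊓ others r V N (conjBy x H) := by
        refine mem_inf.2 ⟨hb, e ▸ mul_mem (mul_mem ?_ (hcj H d (hDH hd'))) (inv_mem (hDx hd'))⟩
        exact atom_le_others (conj_le h hab hxN hx1) hne2 (hat _ b hb)
      rwa [atom_inf_others h.velem (N_elem h hab) h.hNV h.r_ne_q hx1, mem_bot] at this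
    subst hb1
    rw [one_mul] at he ⊢
    exact hfixD d hd' he

include hloss

/-- All bad hyperplanes lie in the orbit of a moved one. -/
theorem bad_mem_orbit {H : Subgroup G} (hH : IsHyp r N H) (ha : atom V N H ≠ ⊥)
    (hm : conjBy x H ≠ H) {H' : Subgroup G} (hH' : IsHyp r N H') (ha' : atom V N H' ≠ ⊥)
    (hb : Bad N x H') : H' ∈ orbSet x H := by
  by_contra hn
  obtain ⟨v, hv, hvx⟩ := bad_not_quiet h hab hxR hH' ha' hb
  have hvV : v ∈ V := atom_le h.velem (N_elem h hab) h.hNV h.r_ne_q _ hv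
  have hv1 : v ≠ 1 := fun e => hvx (e ▸ one_mem _)
  have hov : orderOf v = q := orderOf_eq_prime (h.velem.2 v hvV) hv1
  have hD : zpowers v ⊓ centralizer ({x} : Set G) = ⊥ := by
    refine le_bot_iff.1 fun w hw => ?_
    by_contra hw1
    rw [mem_bot] at hw1
    have e : zpowers w = zpowers v := Subgroup.eq_of_le_of_card_ge (zpowers_le.2 hw.1) (by
      rw [Nat.card_zpowers, Nat.card_zpowers, hov,
        orderOf_eq_prime (h.velem.2 w (zpowers_le.2 hvV hw.1)) hw1])
    exact hvx (zpowers_le.2 hw.2 (e ▸ mem_zpowers v))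
  obtain ⟨b1, b2⟩ := moved_bound h hab hxR hxq hH hm (zpowers_le.2 hvV) hD
    fun K hK => zpowers_le.2 (atom_le_others hH' (fun e => hn (e ▸ hK)) hv)
  rw [Nat.card_zpowers, hov] at b1 b2
  obtain ⟨f1, f2⟩ := four_le_atom h.velem (N_elem h hab) h.hNV h.r_ne_q hH ha
  have h2 := hq.out.two_le
  by_cases hq2 : q = 2
  · subst hq2
    have := f2 rfl
    nlinarith [b1.trans hloss]
  · have := b2 hq2
    have hlt : 2 * 2 < q * q * q := by nlinarith
    have h3 : q * (q * q) ≤ q ^ 2 := le_trans (Nat.mul_le_mul f1 (Nat.mul_le_mul f1 le_rfl)) (this.trans hloss)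
    nlinarith

/-- The stabiliser in `A` of a moved hyperplane centralises the quotient. -/
theorem moved_stab {H : Subgroup G} (hH : IsHyp r N H) (ha : atom V N H ≠ ⊥)
    (hm : conjBy x H ≠ H) {a : G} (haA : a ∈ A) (hfix : conjBy a H = H) :
    ∀ u ∈ N, a * u * a⁻¹ * u⁻¹ ∈ H := by
  obtain ⟨m, hact⟩ := exists_acts (N_elem h hab) hH (h.hAN haA) (conjBy_eq_self_iff.1 hfix)
  have hb := pow_le_card_atom h.velem (N_elem h hab) h.hNV h.r_ne_q hH ha (h.hAV haA) (h.hAN haA)
    hfix hact
  obtain ⟨b1, b2⟩ := moved_bound h hab hxR hxq hH hm (bot_le : (⊥ : Subgroup G) ≤ V) (bot_inf_eq _)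
    fun K _ => bot_le
  rw [Subgroup.card_bot, mul_one] at b1 b2
  obtain ⟨i, hi⟩ := h.pA ⟨a, haA⟩
  have hi' : a ^ p ^ i = 1 := congrArg Subtype.val hi
  obtain ⟨j, -, hj⟩ := (Nat.dvd_prime_pow hp.out).1 (orderOf_dvd_of_pow_eq_one
    (hact.pow_eq_one (N_elem h hab) hH (h.hAN haA) (conjBy_eq_self_iff.1 hfix) hi'))
  have hm1 : m = 1 := by
    rw [← orderOf_eq_one_iff, hj]
    rcases j with - | j
    · exact pow_zero p
    exfalso
    have hple : p ≤ orderOf m := hj ▸ Nat.le_self_pow j.succ_ne_zero p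
    have hp2 := hp.out.two_le
    by_cases hq2 : q = 2
    · subst hq2
      have hp3 : 3 ≤ p := by have := h.hpq; omega
      have := (Nat.pow_le_pow_right two_pos (hp3.trans hple)).trans (hb.trans (b1.trans hloss))
      norm_num at this
    · have hle : q ^ 2 ≤ Nat.card (atom V N H) :=
        (Nat.pow_le_pow_right hq.out.pos (hp2.trans hple)).trans hb
      have := (Nat.mul_le_mul hle hle).trans ((b2 hq2).trans hloss)
      have h2 := hq.out.two_le
      have h4 : 4 ≤ q ^ 2 := by nlinarith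
      nlinarith
  intro u hu
  have h1 := hact u hu
  rw [hm1, ZMod.val_one, pow_one] at h1
  have hc : u⁻¹ * (a * u * a⁻¹) = a * u * a⁻¹ * u⁻¹ :=
    hab _ (inv_mem hu) _ (conj_mem_of_le_normalizer h.hAN haA hu)
  rwa [hc] at h1

omit hloss in
theorem conj_loss {a : G} (haA : a ∈ A) :
    Nat.card (mv V (a * x * a⁻¹)) = Nat.card (mv V x) := by
  have e : mv V (a * x * a⁻¹) = conjBy a (mv V x) := by
    rw [mv, conjBy, mv, MonoidHom.map_closure]
    congr 1
    ext w
    constructor
    · rintro ⟨v, hv, rfl⟩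
      refine ⟨x * (a⁻¹ * v * a) * x⁻¹ * (a⁻¹ * v * a)⁻¹,
        ⟨_, (mem_normalizer_iff''.1 (h.hAV haA) v).1 hv, rfl⟩, ?_⟩
      simp [mul_assoc]
    · rintro ⟨_, ⟨v, hv, rfl⟩, rfl⟩
      exact ⟨a * v * a⁻¹, conj_mem_of_le_normalizer h.hAV haA hv, by simp [mul_assoc]⟩
  rw [e]
  exact Nat.card_congr ((mv V x).equivMapOfInjective _ (MulAut.conj a).injective).toEquiv.symm

/-- If a translate of the orbit meets it, then it is the orbit. -/
theorem orbit_conj_eq {H : Subgroup G} (hH : IsHyp r N H) (ha : atom V N H ≠ ⊥)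
    (hm : conjBy x H ≠ H) {a : G} (haA : a ∈ A) {K : Subgroup G} (hK : K ∈ orbSet x H)
    (hK' : conjBy a K ∈ orbSet x H) {L : Subgroup G} (hL : L ∈ orbSet x H) :
    conjBy a L ∈ orbSet x H := by
  classical
  by_contra hLn
  set y := a * x * a⁻¹ with hy
  have hyR : y ∈ R := conj_mem_of_le_normalizer h.hAR haA hxR
  have hyq : y ^ q = 1 := by rw [hy, conj_pow, hxq, mul_one, mul_inv_cancel]
  have hyloss : Nat.card (mv V y) ≤ q ^ 2 := (conj_loss h hab hxR hxq haA).trans_le hloss
  have hyi : ∀ i : ℕ, conjBy (y ^ i) (conjBy a H) = conjBy a (conjBy (x ^ i) H) := by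
    intro i
    rw [conjBy_conjBy, conjBy_conjBy, hy, conj_pow, inv_mul_cancel_right]
  have hHa : IsHyp r N (conjBy a H) := conj_le h hab (h.hAN haA) hH
  have haa : atom V N (conjBy a H) ≠ ⊥ := atom_ne_bot h hab (h.hAV haA) (h.hAN haA) ha
  have hma : conjBy y (conjBy a H) ≠ conjBy a H := fun e => hm (by
    have e1 := hyi 1
    rw [pow_one, pow_one] at e1
    exact map_injective (MulAut.conj a).injective (e1.symm.trans e))
  -- the union of the two orbits
  let O' := orbSet y (conjBy a H)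
  let U : Set (Subgroup G) := orbSet x H ∪ O'
  have inO : ∀ {z : G} {M : Subgroup G}, M ∈ orbSet z (conjBy a H) → conjBy z M ∈ orbSet z (conjBy a H) := by
    rintro z M ⟨i, rfl⟩
    exact ⟨i + 1, by rw [pow_succ', ← conjBy_conjBy]⟩
  have hgood : ∀ M ∈ U, IsHyp r N M ∧ atom V N M ≠ ⊥ := by
    rintro M (⟨i, rfl⟩ | ⟨i, rfl⟩)
    · exact ⟨conj_le h hab (pow_mem (h.hRN hxR) i) hH,
        atom_ne_bot h hab (pow_mem (h.hRV hxR) i) (pow_mem (h.hRN hxR) i) ha⟩
    · exact ⟨conj_le h hab (pow_mem (h.hRN hyR) i) hHa,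
        atom_ne_bot h hab (pow_mem (h.hRV hyR) i) (pow_mem (h.hRN hyR) i) haa⟩
  have hxU : ∀ M ∈ U, conjBy x M ∈ U := by
    intro M hM
    by_cases hMO : M ∈ orbSet x H
    · obtain ⟨i, rfl⟩ := hMO
      exact Or.inl ⟨i + 1, by rw [pow_succ', ← conjBy_conjBy]⟩
    · have hfix : conjBy x M = M := by
        by_contra hne
        exact hMO (bad_mem_orbit h hab hxR hxq hloss hH ha hm (hgood M hM).1 (hgood M hM).2
          (bad_of_moved h hab hxR (hgood M hM).1 hne))
      rw [hfix]
      exact hM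
  have hyU : ∀ M ∈ U, conjBy y M ∈ U := by
    intro M hM
    by_cases hMO : M ∈ O'
    · exact Or.inr (inO hMO)
    · have hfix : conjBy y M = M := by
        by_contra hne
        exact hMO (bad_mem_orbit h hab hyR hyq hyloss hHa haa hma (hgood M hM).1 (hgood M hM).2
          (bad_of_moved h hab hyR (hgood M hM).1 hne))
      rw [hfix]
      exact hM
  let Y : Subgroup G := closure ({x, y} : Set G)
  have hxY : x ∈ Y := Subgroup.subset_closure (Or.inl rfl)
  have hyY : y ∈ Y := Subgroup.subset_closure (Or.inr rfl)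
  have hYR : Y ≤ R := (closure_le R).2 (by
    rintro z (rfl | rfl)
    · exact hxR
    · exact hyR)
  have hYq : IsPGroup q Y := h.qR.to_le hYR
  letI act : MulAction Y (Subgroup G) :=
    { smul := fun g M => conjBy (g : G) M
      one_smul := fun M => conjBy_one M
      mul_smul := fun g k M => (conjBy_conjBy (g : G) k M).symm }
  have hsmul : ∀ (g : Y) (M : Subgroup G), g • M = conjBy (g : G) M := fun g M => rfl
  have horb : MulAction.orbit Y K = U := by
    apply Set.Subset.antisymm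
    · rintro M ⟨g, rfl⟩
      have hgen : ∀ z : G, ∀ hz : z ∈ Y, ∀ M ∈ U, conjBy z M ∈ U := by
        intro z hz
        induction hz using closure_induction_left with
        | one => intro M hM; rwa [conjBy_one]
        | mul_left u hu w _ ih =>
          intro M hM
          rw [← conjBy_conjBy]
          rcases hu with rfl | rfl
          · exact hxU _ (ih M hM)
          · exact hyU _ (ih M hM)
        | inv_mul_cancel u hu w _ ih =>
          intro M hM
          rw [← conjBy_conjBy]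
          have e : u⁻¹ = u ^ (q - 1) := inv_eq_of_mul_eq_one_left (by
            rw [← pow_succ, Nat.sub_add_cancel hq.out.one_le]
            rcases hu with rfl | rfl
            · exact hxq
            · exact hyq)
          rw [e]
          have hstep : ∀ (n : ℕ) (M : Subgroup G), M ∈ U → conjBy (u ^ n) M ∈ U := by
            intro n
            induction n with
            | zero => intro M hM; rwa [pow_zero, conjBy_one]
            | succ n ihn =>
              intro M hM
              rw [pow_succ', ← conjBy_conjBy]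
              rcases hu with rfl | rfl
              · exact hxU _ (ihn M hM)
              · exact hyU _ (ihn M hM)
          exact hstep _ _ (ih M hM)
      exact hgen g g.2 K (Or.inl hK)
    · have hxO : ∀ M ∈ orbSet x H, M ∈ MulAction.orbit Y K := by
        rintro M ⟨i, rfl⟩
        obtain ⟨j, rfl⟩ := hK
        refine ⟨⟨x ^ i * (x ^ j)⁻¹, mul_mem (pow_mem hxY _) (inv_mem (pow_mem hxY _))⟩, ?_⟩
        show conjBy (x ^ i * (x ^ j)⁻¹) (conjBy (x ^ j) H) = _
        rw [conjBy_conjBy, inv_mul_cancel_right]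
      rintro M (hM | hM)
      · exact hxO M hM
      · obtain ⟨i, rfl⟩ := hM
        obtain ⟨g, hg⟩ := hxO _ hK'
        obtain ⟨j, hj⟩ := id hK
        have hmem : y ^ i * (y ^ j)⁻¹ ∈ Y :=
          mul_mem (pow_mem hyY _)
            (inv_mem (pow_mem hyY _))
        refine ⟨⟨y ^ i * (y ^ j)⁻¹, hmem⟩ * g, ?_⟩
        show (⟨y ^ i * (y ^ j)⁻¹, hmem⟩ * g) • K = _
        rw [mul_smul]
        change g • K = conjBy a K at hg
        rw [hg, hsmul, ← hj, ← hyi, conjBy_conjBy, inv_mul_cancel_right]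
  haveI : Finite (MulAction.orbit Y K) := Set.Finite.to_subtype (Set.toFinite _)
  obtain ⟨n, hn⟩ := hYq.card_orbit K
  rw [horb] at hn
  have c1 : Nat.card (orbSet x H) = q := card_orbSet hxq hm
  have c2 : Nat.card O' = q := card_orbSet hyq hma
  have hKa : conjBy a K ∈ O' := by
    obtain ⟨j, rfl⟩ := hK
    exact ⟨j, hyi j⟩
  have hLa : conjBy a L ∈ O' := by
    obtain ⟨j, rfl⟩ := hL
    exact ⟨j, hyi j⟩
  rw [Nat.card_coe_set_eq] at hn c1 c2
  have h1 : (orbSet x H ∪ O').ncard + (orbSet x H ∩ O').ncard = q + q := by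
    rw [Set.ncard_union_add_ncard_inter, c1, c2]
  have h2 : 0 < (orbSet x H ∩ O').ncard := (Set.ncard_pos (Set.toFinite _)).2 ⟨_, hK', hKa⟩
  have h3 : q < (orbSet x H ∪ O').ncard := c1 ▸ Set.ncard_lt_ncard
    (Set.ssubset_iff_of_subset Set.subset_union_left |>.2 ⟨_, Or.inr hLa, hLn⟩) (Set.toFinite _)
  have hq2 := hq.out.two_le
  change (orbSet x H ∪ O').ncard = _ at hn
  rcases n with - | - | n
  · rw [pow_zero] at hn; omega
  · rw [zero_add, pow_one] at hn; omega
  · have : q ^ 2 ≤ q ^ (n + 1 + 1) := Nat.pow_le_pow_right hq.out.pos (by omega)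
    nlinarith

/-- No element with a small commutator space moves an abelian minimal configuration. -/
theorem not_moved_abelian (hxN : x ∉ centralizer (N : Set G)) : False := by
  classical
  have hT := N_elem h hab
  obtain ⟨H, hH, ha, hb⟩ := exists_bad h hab hxR hxN
  -- a convenient hyperplane `K` and element `g`
  have finish : ∀ (K : Subgroup G), IsHyp r N K → ∀ g ∈ N, g ∉ K →
      (∀ b ∈ A, conjBy b K = K → ∀ u ∈ N, b * u * b⁻¹ * u⁻¹ ∈ K) →
      (∀ b ∈ A, conjBy b K ≠ K → g ∈ conjBy b K) → False := by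
    intro K hK g hg hgK hstab hoth
    refine h.orbit_contra (K := K) (by rw [phi_eq_bot h hab]; exact bot_le) hg hgK
      (fun b hbA hbK => hstab b hbA (conjBy_eq_self_iff.2 hbK) g hg) fun b hbA hbK => ?_
    have hne : conjBy b⁻¹ K ≠ K := fun e => hbK (by
      simpa using inv_mem (conjBy_eq_self_iff.1 e))
    have := mem_conjBy.1 (hoth _ (inv_mem hbA) hne)
    simpa using this
  by_cases hmov : ∃ H', IsHyp r N H' ∧ atom V N H' ≠ ⊥ ∧ conjBy x H' ≠ H'
  · obtain ⟨H₀, hH₀, ha₀, hm₀⟩ := hmov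
    set O := orbSet x H₀ with hO
    let T : Subgroup A :=
      { carrier := {b | ∀ M, conjBy (b : G) M ∈ O ↔ M ∈ O}
        one_mem' := fun M => by rw [OneMemClass.coe_one, conjBy_one]
        mul_mem' := fun {b c} hb hc M => by rw [Subgroup.coe_mul, ← conjBy_conjBy, hb, hc]
        inv_mem' := fun {b} hb M => by
          rw [← hb, conjBy_conjBy, InvMemClass.coe_inv, mul_inv_cancel, conjBy_one] }
    letI : MulAction T O :=
      { smul := fun b M => ⟨conjBy ((b : A) : G) M.1, ((b.2 M.1).2 M.2)⟩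
        one_smul := fun M => Subtype.ext (conjBy_one _)
        mul_smul := fun b c M => Subtype.ext (conjBy_conjBy _ _ _).symm }
    obtain ⟨⟨K, hKO⟩, hKfix⟩ := (h.pA.to_subgroup T).nonempty_fixed_point_of_prime_not_dvd_card O
      (by rw [card_orbSet hxq hm₀]
          exact fun hd => h.hpq ((Nat.prime_dvd_prime_iff_eq hp.out hq.out).1 hd))
    have halone : ∀ b ∈ A, conjBy b K ∈ O → conjBy b K = K := by
      intro b hb hbO
      have hbT : (⟨b, hb⟩ : A) ∈ T := by
        intro M
        constructor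
        · intro hM
          have h1 : conjBy b⁻¹ (conjBy b K) = K := by rw [conjBy_conjBy, inv_mul_cancel, conjBy_one]
          have h2 := orbit_conj_eq h hab hxR hxq hloss hH₀ ha₀ hm₀ (inv_mem hb) hbO
            (by rw [h1]; exact hKO) hM
          rwa [conjBy_conjBy, inv_mul_cancel, conjBy_one] at h2
        · exact fun hM => orbit_conj_eq h hab hxR hxq hloss hH₀ ha₀ hm₀ hb hKO hbO hM
      exact congrArg Subtype.val (hKfix ⟨⟨b, hb⟩, hbT⟩)
    obtain ⟨i, hi⟩ := id hKO
    have hK : IsHyp r N K := hi ▸ conj_le h hab (pow_mem (h.hRN hxR) i) hH₀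
    have haK : atom V N K ≠ ⊥ :=
      hi ▸ atom_ne_bot h hab (pow_mem (h.hRV hxR) i) (pow_mem (h.hRN hxR) i) ha₀
    have hmK : conjBy x K ≠ K := orbSet_ne hxq hm₀ hKO
    obtain ⟨u, hu, hg⟩ := bad_of_moved h hab hxR hK hmK
    refine finish K hK _ (mul_mem (conj_mem_of_le_normalizer h.hRN hxR hu) (inv_mem hu)) hg
      (fun b hbA hbK => moved_stab h hab hxR hxq hloss hK haK hmK hbA hbK) fun b hbA hbne => ?_
    by_contra hn
    exact hbne (halone b hbA (bad_mem_orbit h hab hxR hxq hloss hH₀ ha₀ hm₀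
      (conj_le h hab (h.hAN hbA) hK) (atom_ne_bot h hab (h.hAV hbA) (h.hAN hbA) haK) ⟨u, hu, hn⟩))
  · push Not at hmov
    -- three bad hyperplanes are too many
    have hatx : ∀ M, IsHyp r N M → atom V N M ≠ ⊥ → x ∈ normalizer (atom V N M : Set G) :=
      fun M hM haM => mem_normalizer_atom h.velem hT h.hNV h.r_ne_q (h.hRV hxR) (h.hRN hxR) (hmov M hM haM)
    have hothx : ∀ M, IsHyp r N M → atom V N M ≠ ⊥ → ∀ w ∈ others r V N M,
        x * w * x⁻¹ ∈ others r V N M := fun M hM haM w hw => by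
      have := conj_others h.velem hT h.hNV h.r_ne_q (h.hRV hxR) (h.hRN hxR) M (mem_map_of_mem _ hw)
      rw [show M.map (MulAut.conj x).toMonoidHom = M from hmov M hM haM] at this
      exact this
    have hqv : ∀ {M : Subgroup G}, IsHyp r N M → atom V N M ≠ ⊥ → Bad N x M →
        q ≤ Nat.card (mv (atom V N M) x) := by
      intro M hM haM hbM
      obtain ⟨v, hv, hvx⟩ := bad_not_quiet h hab hxR hM haM hbM
      obtain ⟨k, hk⟩ := IsPGroup.iff_card.1 ((CfsgLib.EABasic.isPGroup_of_isElementaryAbelian h.velem).to_le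
        ((mv_le (hatx M hM haM)).trans (atom_le h.velem hT h.hNV h.r_ne_q M)))
      rw [hk]
      refine Nat.le_self_pow (fun hk0 => hvx ?_) q
      have he : mv (atom V N M) x = ⊥ := card_eq_one.1 (by rw [hk, hk0, pow_zero])
      exact mem_centralizer_singleton_iff.2 (mem_centralizer_iff.1 (mv_eq_bot_iff.1 he) v hv)
    have three : ∀ M₁ M₂ M₃, IsHyp r N M₁ → IsHyp r N M₂ → IsHyp r N M₃ → atom V N M₁ ≠ ⊥ →
        atom V N M₂ ≠ ⊥ → atom V N M₃ ≠ ⊥ → Bad N x M₁ → Bad N x M₂ → Bad N x M₃ →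
        M₂ ≠ M₁ → M₃ ≠ M₁ → M₃ ≠ M₂ → False := by
      intro M₁ M₂ M₃ h1 h2 h3 a1 a2 a3 b1 b2 b3 n21 n31 n32
      have hle : atom V N M₂ ⊔ atom V N M₃ ≤ others r V N M₁ :=
        sup_le (atom_le_others h2 n21) (atom_le_others h3 n31)
      have hV' := fun M => atom_le h.velem hT h.hNV h.r_ne_q (H := M)
      have e1 := card_mv_mul_card_mv_le h.velem (hV' M₁) (sup_le (hV' M₂) (hV' M₃)) (hatx _ h1 a1)
        (CfsgLib.Coprime.sup_le_normalizer (A := zpowers x) (zpowers_le.2 (hatx _ h2 a2))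
          (zpowers_le.2 (hatx _ h3 a3)) (mem_zpowers x))
        (le_bot_iff.1 ((inf_le_inf_left _ hle).trans (atom_inf_others h.velem hT h.hNV h.r_ne_q h1).le))
      have e2 := card_mv_mul_card_mv_le (V := atom V N M₂ ⊔ atom V N M₃)
        (CfsgLib.EABasic.isElementaryAbelian_le h.velem (sup_le (hV' M₂) (hV' M₃)))
        le_sup_left le_sup_right (hatx _ h2 a2) (hatx _ h3 a3)
        (atom_disjoint h.velem hT h.hNV h.r_ne_q h2 h3 n32)
      have q1 := hqv h1 a1 b1
      have q23 := Nat.mul_le_mul (hqv h2 a2 b2) (hqv h3 a3 b3)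
      have := (Nat.mul_le_mul q1 (q23.trans e2)).trans (e1.trans hloss)
      have hq2 := hq.out.two_le
      nlinarith
    -- the stabiliser centralises the quotient
    have hfx := fun {M : Subgroup G} (hM : IsHyp r N M) (haM : atom V N M ≠ ⊥) =>
      exists_acts hT hM (h.hRN hxR) (conjBy_eq_self_iff.1 (hmov M hM haM))
    have hne1 : ∀ {M : Subgroup G}, IsHyp r N M → Bad N x M → ∀ {m : ZMod r}, Acts N M x m → m ≠ 1 := by
      intro M hM hbM m hm hm1
      obtain ⟨u, hu, hn⟩ := hbM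
      have h1 := hm u hu
      rw [hm1, ZMod.val_one, pow_one, hab _ (inv_mem hu) _ (conj_mem_of_le_normalizer h.hRN hxR hu)] at h1
      exact hn h1
    have hstab : ∀ b ∈ A, conjBy b H = H → ∀ u ∈ N, b * u * b⁻¹ * u⁻¹ ∈ H := by
      intro b hbA hbH u hu
      obtain ⟨mx, hmx⟩ := hfx hH ha
      obtain ⟨mb, hmb⟩ := exists_acts hT hH (h.hAN hbA) (conjBy_eq_self_iff.1 hbH)
      have hxH := conjBy_eq_self_iff.1 (hmov H hH ha)
      have ox : orderOf mx = q := orderOf_eq_prime (hmx.pow_eq_one hT hH (h.hRN hxR) hxH hxq)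
        (hne1 hH hb hmx)
      obtain ⟨i, hi⟩ := h.pA ⟨b, hbA⟩
      obtain ⟨j, -, hj⟩ := (Nat.dvd_prime_pow hp.out).1 (orderOf_dvd_of_pow_eq_one
        (hmb.pow_eq_one hT hH (h.hAN hbA) (conjBy_eq_self_iff.1 hbH)
          (congrArg Subtype.val hi : b ^ p ^ i = 1)))
      have hm1 : mb = 1 := by
        rw [← orderOf_eq_one_iff, hj]
        rcases j with - | j
        · exact pow_zero p
        exfalso
        have hmul := Acts.mul hT hH (h.hRN hxR) hxH (h.hAN hbA) hmx hmb
        have hroot := pow_le_card_atom h.velem hT h.hNV h.r_ne_q hH ha (mul_mem (h.hRV hxR) (h.hAV hbA))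
          (mul_mem (h.hRN hxR) (h.hAN hbA))
          (by rw [← conjBy, ← conjBy_conjBy, hbH]; exact hmov H hH ha) hmul
        rw [(Commute.all mx mb).orderOf_mul_eq_mul_orderOf_of_coprime (by
            rw [ox, hj]; exact Nat.Coprime.pow_right _ ((Nat.coprime_primes hq.out hp.out).2 h.hpq.symm)),
          ox, hj] at hroot
        -- the atom is small
        set W := atom V N H with hW
        have hWV : W ≤ V := atom_le h.velem hT h.hNV h.r_ne_q H
        obtain ⟨w, hw, hn⟩ := id hb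
        set c := w * x * w⁻¹ with hc
        have hWe := CfsgLib.EABasic.isElementaryAbelian_le h.velem hWV
        have hwW := T_norm_atom h.velem hT h.hNV h.r_ne_q hH hw
        have k1 := card_mv_mul hWe (hatx H hH ha)
        have k2 := card_mv_mul hWe (mul_mem (mul_mem hwW (hatx H hH ha)) (inv_mem hwW) :
          c ∈ normalizer (W : Set G))
        have emv : mv W c = conjBy w (mv W x) := by
          rw [mv, conjBy, mv, MonoidHom.map_closure]
          congr 1
          ext z
          constructor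
          · rintro ⟨v, hv, rfl⟩
            refine ⟨x * (w⁻¹ * v * w) * x⁻¹ * (w⁻¹ * v * w)⁻¹,
              ⟨_, (mem_normalizer_iff''.1 hwW v).1 hv, rfl⟩, ?_⟩
            simp [hc, mul_assoc]
          · rintro ⟨_, ⟨v, hv, rfl⟩, rfl⟩
            exact ⟨w * v * w⁻¹, (mem_normalizer_iff.1 hwW v).1 hv, by simp [hc, mul_assoc]⟩
        have hmc : Nat.card (mv W c) = Nat.card (mv W x) := by
          rw [emv]
          exact Nat.card_congr ((mv W x).equivMapOfInjective _ (MulAut.conj w).injective).toEquiv.symm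
        have hmx2 : Nat.card (mv W x) ≤ q ^ 2 := (card_le_of_le (mv_mono hWV x)).trans hloss
        have hdisj : W ⊓ centralizer ({x} : Set G) ⊓ centralizer ({c} : Set G) = ⊥ := by
          refine le_bot_iff.1 (le_trans ?_ (atom_fixed_bot h.velem hT h.hNV h.r_ne_q hH
            (mul_mem (conj_mem_of_le_normalizer h.hRN hxR hw) (inv_mem hw)) hn).le)
          refine fun v hv => mem_inf.2 ⟨hv.1.1, mem_centralizer_singleton_iff.2 ?_⟩
          have c1 : Commute v x := mem_centralizer_singleton_iff.1 hv.1.2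
          have c2 : Commute v c := mem_centralizer_singleton_iff.1 hv.2
          have e : x * w * x⁻¹ * w⁻¹ = x * c⁻¹ := by rw [hc]; group
          rw [e]
          exact c1.mul_right c2.inv_right
        have hprod : Nat.card (W ⊓ centralizer ({x} : Set G) : Subgroup G) *
            Nat.card (W ⊓ centralizer ({c} : Set G) : Subgroup G) ≤ Nat.card W := by
          rw [← CfsgLib.CFun.ZLen.card_sup_eq (comm_normalizer h hab hxR (inf_le_left.trans hWV)
            (inf_le_left.trans hWV)) (le_bot_iff.1 (le_trans (le_inf inf_le_left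
              (inf_le_right.trans inf_le_right)) hdisj.le))]
          exact card_le_of_le (sup_le inf_le_left inf_le_left)
        have hW4 : Nat.card W ≤ q ^ 2 * q ^ 2 := by
          have e : Nat.card W * Nat.card W = (Nat.card (mv W x) * Nat.card (mv W c)) *
              (Nat.card (W ⊓ centralizer ({x} : Set G) : Subgroup G) *
                Nat.card (W ⊓ centralizer ({c} : Set G) : Subgroup G)) := by
            rw [← mul_mul_mul_comm, k1, k2]
          have h4 : Nat.card W * Nat.card W ≤ q ^ 2 * q ^ 2 * Nat.card W := by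
            rw [e]
            exact Nat.mul_le_mul (Nat.mul_le_mul hmx2 (hmc ▸ hmx2)) hprod
          exact Nat.le_of_mul_le_mul_right h4 Nat.card_pos
        have h6 : 6 ≤ q * p ^ (j + 1) := by
          have h2 := hq.out.two_le
          have h3 := hp.out.two_le
          have hpp : p ≤ p ^ (j + 1) := Nat.le_self_pow j.succ_ne_zero p
          rcases eq_or_lt_of_le h2 with e | e
          · have : 3 ≤ p := by have := h.hpq; omega
            nlinarith
          · nlinarith
        have h7 := (Nat.pow_le_pow_right hq.out.pos h6).trans (hroot.trans hW4)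
        rw [← pow_add] at h7
        exact absurd ((Nat.pow_le_pow_iff_right hq.out.one_lt).1 h7) (by norm_num)
      have h1 := hmb u hu
      rwa [hm1, ZMod.val_one, pow_one,
        hab _ (inv_mem hu) _ (conj_mem_of_le_normalizer h.hAN hbA hu)] at h1
    by_cases hsec : ∃ H', IsHyp r N H' ∧ atom V N H' ≠ ⊥ ∧ Bad N x H' ∧ H' ≠ H
    · obtain ⟨H', hH', ha', hb', hne⟩ := hsec
      obtain ⟨u, hu, huH⟩ : ∃ u ∈ H', u ∉ H := Set.not_subset.1 fun hle => hne
        (Subgroup.eq_of_le_of_card_ge hle (le_of_eq (by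
          have a := relIndex_mul_relIndex ⊥ H N bot_le hH.1
          have b := relIndex_mul_relIndex ⊥ H' N bot_le hH'.1
          rw [relIndex_bot_left, relIndex_bot_left, hH.2] at a
          rw [relIndex_bot_left, relIndex_bot_left, hH'.2] at b
          exact Nat.eq_of_mul_eq_mul_right hr.out.pos (a.trans b.symm))))
      obtain ⟨mx, hmx⟩ := hfx hH ha
      have hgH : x * u * x⁻¹ * u⁻¹ ∉ H := by
        intro hg
        apply hne1 hH hb hmx
        refine hmx.unique hT hH fun t ht => ?_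
        -- `x` fixes `u` modulo `H`, so fixes everything modulo `H`
        obtain ⟨k, hk⟩ := hH.exists_pow hT (hH'.1 hu) huH ht
        rw [ZMod.val_one, pow_one, hab _ (inv_mem ht) _ (conj_mem_of_le_normalizer h.hRN hxR ht)]
        have hk' : x * ((u ^ k.val)⁻¹ * t) * x⁻¹ ∈ H :=
          (mem_normalizer_iff.1 (conjBy_eq_self_iff.1 (hmov H hH ha)) _).1 hk
        have hpow : (x * u * x⁻¹ * u⁻¹) ^ k.val ∈ H := pow_mem hg _
        have hcm : Commute (x * u * x⁻¹) u⁻¹ :=
          hab _ (conj_mem_of_le_normalizer h.hRN hxR (hH'.1 hu)) _ (inv_mem (hH'.1 hu))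
        rw [hcm.mul_pow, conj_pow] at hpow
        have e2 : x * t * x⁻¹ * t⁻¹ = (x * u ^ k.val * x⁻¹) *
            (x * ((u ^ k.val)⁻¹ * t) * x⁻¹ * ((u ^ k.val)⁻¹ * t)⁻¹) * (u⁻¹) ^ k.val := by
          rw [inv_pow]; group
        rw [e2, mul_assoc, hab _ (mul_mem (hH.1 hk') (hH.1 (inv_mem hk))) _
          (pow_mem (inv_mem (hH'.1 hu)) _), ← mul_assoc]
        exact mul_mem hpow (mul_mem hk' (inv_mem hk))
      refine finish H hH _ (mul_mem (conj_mem_of_le_normalizer h.hRN hxR (hH'.1 hu))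
        (inv_mem (hH'.1 hu))) hgH hstab fun b hbA hbne => ?_
      have hHb := conj_le h hab (h.hAN hbA) hH
      have hab' := atom_ne_bot h hab (h.hAV hbA) (h.hAN hbA) ha
      by_cases e : conjBy b H = H'
      · rw [e]
        exact mul_mem ((mem_normalizer_iff.1 (conjBy_eq_self_iff.1 (hmov H' hH' ha')) u).1 hu) (inv_mem hu)
      · by_contra hn
        exact three H H' (conjBy b H) hH hH' hHb ha ha' hab' hb hb' ⟨u, hH'.1 hu, hn⟩ hne hbne e
    · push Not at hsec
      obtain ⟨u, hu, hg⟩ := id hb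
      refine finish H hH _ (mul_mem (conj_mem_of_le_normalizer h.hRN hxR hu) (inv_mem hu)) hg hstab
        fun b hbA hbne => ?_
      by_contra hn
      exact hbne (hsec _ (conj_le h hab (h.hAN hbA) hH)
        (atom_ne_bot h hab (h.hAV hbA) (h.hAN hbA) ha) ⟨u, hu, hn⟩)

end SmallAbelian

end CfsgLib.SolvSignalizer
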