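import Cfsg.Agent.Lib.SolvSignalizer.FactorJZ

/-!
# Maximal members whose generalized core is a `q`-group are all equal

`SFCtx.class_unique`: two members of the class `InClass p q A θ K` coincide.
-/

set_option autoImplicit false
set_option linter.style.haveILetI false
set_option linter.unusedSectionVars false

open Subgroup
open scoped commutatorElement
open CfsgLib.CFun (core coCore)
open Cfsg (signalizerFamily signalizerInf)

namespace CfsgLib.SolvSignalizer

universe u

variable {G : Type u} [Group G] [Finite G] {q : ℕ} [hq : Fact q.Prime]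

theorem eJ_ne_bot {k : ℕ} {P : Subgroup G} (hP : IsPGroup q P) (h : P ≠ ⊥) : eJ q k P ≠ ⊥ := by
  intro e
  obtain ⟨E, hE, -⟩ := exists_isBig (q := q) P
  exact omegaZ_ne_bot hP h (le_bot_iff.1 ((((omegaZ_le_big hE).trans hE.le_eJ).trans
    (eJ_mono (Nat.zero_le k))).trans e.le))

variable {p : ℕ} [hp : Fact p.Prime] {A K : Subgroup G} {θ : G → Subgroup G}

theorem InClass.of_ge {X Y : Subgroup G} (hX : InClass p q A θ K X) (hY : IsMaxMem p A θ Y)
    (hC : signalizerInf A θ ≤ Y) (hle : K ⊓ X ≤ Y) : InClass p q A θ K Y :=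
  ⟨hY, hC, hX.hered Y hY hC hle,
    fun Z hZ hCZ hYZ => hX.hered Z hZ hCZ ((le_inf inf_le_left hle).trans hYZ)⟩

namespace SFCtx

variable (h : SFCtx p A θ)

include h

theorem inf_normalizer_mem {X N : Subgroup G} (hX : X ∈ signalizerFamily p A θ)
    (hN : A ≤ normalizer (N : Set G)) : X ⊓ normalizer (N : Set G) ∈ signalizerFamily p A θ :=
  h.inf_mem hX (le_normalizer_normalizer_of hN)

variable (hK : QMember p q A θ K)

include hK

/-- Factorisation of `fTilde q X` through the centraliser of a fixed part of the core. -/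
theorem fTilde_factor {X R Z P : Subgroup G} (hX : InClass p q A θ K X) (hR : R ≤ K ⊓ X)
    (hAR : A ≤ normalizer (R : Set G)) (hCR : signalizerInf A θ ≤ normalizer (R : Set G))
    (hZQ : Z ≤ omegaZ q (core X q)) (hRZ : R ≤ centralizer (Z : Set G))
    (hAZ : A ≤ normalizer (Z : Set G)) {k : ℕ} (hk : k ≤ 1)
    (hQP : core X q ≤ P) (hPR : P ≤ R) :
    fTilde q X ≤ (fTilde q X ⊓ normalizer (Z : Set G)) ⊔
      (fTilde q X ⊓ normalizer ((core X q ⊔ eJ q k P : Subgroup G) : Set G)) := by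
  haveI : Group.IsSolvable X := hX.max.1.1
  set Q := core X q with hQ
  set F := fTilde q X with hF
  set U := conjClosure F Z with hU
  set P1 := Q ⊔ eJ q k P with hP1
  have hFQ : F ≤ normalizer (Q : Set G) := fTilde_le.trans CfsgLib.CFun.le_normalizer_core
  have hZR : R ≤ normalizer (Z : Set G) :=
    hRZ.trans (CfsgLib.Coprime.centralizer_le_normalizer_self Z)
  have hRF : R ≤ normalizer (F : Set G) :=
    ((hR.trans inf_le_right).trans le_normalizer).trans normalizer_le_fTilde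
  have hUC : ∀ {M : Subgroup G}, M ≤ normalizer (U : Set G) →
      M ≤ normalizer (centralizer (U : Set G) : Set G) := fun hM =>
    hM.trans (CfsgLib.Coprime.normalizer_le_normalizer_centralizer _)
  have hFU : F ≤ normalizer (U : Set G) := le_normalizer_conjClosure
  have hRU : R ≤ normalizer (U : Set G) := le_normalizer_conjClosure_of hRF hZR
  have hP1P : P1 ≤ P := sup_le hQP eJ_le
  have hcomm : eJ q k P ≤ commSet R F (centralizer (U : Set G)) :=
    iSup_le fun E e he => ⟨hPR (E.2.1 he), hUC hRU (hPR (E.2.1 he)), fun g hg =>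
      h.class_offender hK hX hR hAR hCR hZQ hRZ hAZ hk hQP hPR E.2 g hg e he⟩
  set N := (F ⊓ centralizer (U : Set G)) ⊔ Q with hN
  have hNF : N ≤ F := sup_le inf_le_left core_le_fTilde
  have hQN : Q ≤ N := le_sup_right
  have hP1N : P1 ≤ normalizer (N : Set G) :=
    CfsgLib.Coprime.sup_le_normalizer
      (CfsgLib.Coprime.inf_le_normalizer ((hP1P.trans hPR).trans hRF) (hUC ((hP1P.trans hPR).trans hRU)))
      (((hP1P.trans hPR).trans (hR.trans inf_le_right)).trans CfsgLib.CFun.le_normalizer_core)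
  have hFN : F ≤ normalizer (N : Set G) :=
    CfsgLib.Coprime.sup_le_normalizer (CfsgLib.Coprime.inf_le_normalizer le_normalizer (hUC hFU)) hFQ
  intro g hg
  have hgN : g ∈ normalizer ((N ⊔ P1 : Subgroup G) : Set G) := by
    refine CfsgLib.Invol.le_normalizer_of_forall_conj (A := F) (fun x hx w hw => ?_) hg
    obtain ⟨a, ha, b, hb, rfl⟩ := CfsgLib.Coprime.mem_sup_exists hP1N hw
    rw [show x * (a * b) * x⁻¹ = (x * a * x⁻¹) * ((x * b * x⁻¹ * b⁻¹) * b) by group]
    refine mul_mem ((le_sup_left : N ≤ _) ((mem_normalizer_iff.1 (hFN hx) a).1 ha))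
      (mul_mem ((le_sup_left : N ≤ _) ?_) ((le_sup_right : P1 ≤ _) hb))
    obtain ⟨c, hc, j, hj, rfl⟩ := CfsgLib.Coprime.mem_sup_exists
      ((eJ_le.trans hPR).trans ((hR.trans inf_le_right).trans CfsgLib.CFun.le_normalizer_core)) hb
    have h1 : x * j * x⁻¹ * j⁻¹ ∈ N := (le_sup_left : F ⊓ centralizer (U : Set G) ≤ N) (mem_inf.2 ⟨by
      rw [show x * j * x⁻¹ * j⁻¹ = x * (j * x⁻¹ * j⁻¹) by group]
      exact mul_mem hx ((mem_normalizer_iff.1 (hRF (hPR (eJ_le hj))) _).1 (inv_mem hx)),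
      (hcomm hj).2.2 x hx⟩)
    rw [show x * (c * j) * x⁻¹ * (c * j)⁻¹ =
      (x * c * x⁻¹) * (x * j * x⁻¹ * j⁻¹) * c⁻¹ by group]
    exact mul_mem (mul_mem (hQN ((mem_normalizer_iff.1 (hFQ hx) c).1 hc)) h1) (inv_mem (hQN hc))
  obtain ⟨c, hc, r, hr, hn⟩ := exists_normalizing (q := q)
    ((hK.group.to_le (hR.trans inf_le_left)).to_le (hP1P.trans hPR))
    (le_sup_left : Q ≤ P1) hQN hP1N (not_dvd_relIndex_of_between rfl hQN hNF) hgN
  have hc' : r⁻¹ * c * r ∈ N := (mem_normalizer_iff''.1 (hP1N hr) c).1 hc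
  set m := r⁻¹ * c * r * g with hm
  have hmF : m ∈ F := mul_mem (hNF hc') hg
  have hmP : m ∈ normalizer (P1 : Set G) := by
    rw [hm, show r⁻¹ * c * r * g = r⁻¹ * (c * r * g) by group]
    exact mul_mem (inv_mem (le_normalizer hr)) hn
  have hgm : g = (r⁻¹ * c * r)⁻¹ * m := by rw [hm, inv_mul_cancel_left]
  rw [hgm]
  refine mul_mem (inv_mem ?_) ((le_sup_right : F ⊓ normalizer (P1 : Set G) ≤ _) (mem_inf.2 ⟨hmF, hmP⟩))
  refine (sup_le ?_ ?_ : N ≤ _) hc'
  · exact le_trans (inf_le_inf_left F ((centralizer_le le_conjClosure).trans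
      (CfsgLib.Coprime.centralizer_le_normalizer_self Z))) le_sup_left
  · exact le_trans (le_inf core_le_fTilde ((le_sup_left : Q ≤ P1).trans le_normalizer)) le_sup_right

/-- An element of two cores in `K` lies in the core of a member generated by the two others. -/
theorem cores_inf_le {X Y W : Subgroup G} (hX : InClass p q A θ K X) (hY : InClass p q A θ K Y)
    (hW : InClass p q A θ K W) (hKX : K ≤ X)
    (hgen : fTilde q X ≤ (fTilde q X ⊓ Y) ⊔ (fTilde q X ⊓ W)) :
    core Y q ⊓ core W q ≤ core X q := by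
  haveI : Group.IsSolvable X := hX.max.1.1
  intro d hd
  have hdK : d ∈ K := h.core_le_K hK hY hd.1
  have hdX : d ∈ X := hKX hdK
  have hdF : d ∈ normalizer (fTilde q X : Set G) := normalizer_le_fTilde (le_normalizer hdX)
  have hXQ : X ≤ normalizer (core X q : Set G) := CfsgLib.CFun.le_normalizer_core
  have hY' : ∀ M : Subgroup G, InClass p q A θ K M → d ∈ core M q → ∀ g ∈ fTilde q X ⊓ M,
      g ∈ pieceSub (fTilde q X) (zpowers d) (core X q) := by
    intro M hM hdM g hg
    refine ⟨hg.1, hXQ (fTilde_le hg.1), fun e he => ?_⟩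
    have heM : e ∈ core M q := zpowers_le.2 hdM he
    refine h.R_inter_fTilde_le hK (mem_inf.2 ⟨h.core_le_K hK hM
      (mul_mem ((mem_normalizer_iff.1 (CfsgLib.CFun.le_normalizer_core hg.2) e).1 heM) (inv_mem heM)), ?_⟩)
    rw [show g * e * g⁻¹ * e⁻¹ = g * (e * g⁻¹ * e⁻¹) by group]
    exact mul_mem hg.1 ((mem_normalizer_iff.1 (zpowers_le.2 hdF he) _).1 (inv_mem hg.1))
  have hall : fTilde q X ≤ pieceSub (fTilde q X) (zpowers d) (core X q) :=
    hgen.trans (sup_le (hY' Y hY hd.1) (hY' W hW hd.2))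
  refine h.R_inter_fTilde_le hK (mem_inf.2 ⟨hdK, ?_⟩)
  refine le_fTilde_of_centralizes (zpowers_le.2 hdX) (fun e he f hf => ?_) (mem_zpowers d)
  have h1 := (hall hf).2.2 e he
  rw [show e * f * e⁻¹ * f⁻¹ = (f * e * f⁻¹ * e⁻¹)⁻¹ by group]
  exact inv_mem h1

/-- All class members containing `K` are equal. -/
theorem class_eq_of_K {X Y : Subgroup G} (hX : InClass p q A θ K X) (hY : InClass p q A θ K Y)
    (hKX : K ≤ X) (hKY : K ≤ Y) : X = Y := by
  have hQX := h.class_core_ne_bot hX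
  have hQK := h.core_le_K hK hX
  have hK1 : K ≠ ⊥ := fun e => hQX (le_bot_iff.1 (hQK.trans e.le))
  have hAK : A ≤ normalizer (K : Set G) := h.le_normA hK.mem
  have hmax : ∀ N : Subgroup G, N ≤ K → N ≠ ⊥ → normalizer (K : Set G) ≤ normalizer (N : Set G) →
      ∃ M, InClass p q A θ K M ∧ K ≤ M ∧
        ∀ W ∈ signalizerFamily p A θ, W ≤ normalizer (N : Set G) → W ≤ M := by
    intro N hNK hN1 hNn
    obtain ⟨M, hM, -, hMle⟩ :=
      h.exists_max_normalizer (h.mem_of_le hK.mem hNK (hAK.trans hNn)) hN1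
    have hKM : K ≤ M := hMle K hK.mem (le_normalizer.trans hNn)
    exact ⟨M, hX.of_ge hM (hMle _ h.inf_mem_family (hK.inv.trans hNn)) (inf_le_left.trans hKM),
      hKM, hMle⟩
  obtain ⟨M₁, hM₁, hK₁, hle₁⟩ := hmax (omegaZ q K) omegaZ_le (omegaZ_ne_bot hK.group hK1)
    normalizer_le_omegaZ
  obtain ⟨M₂, hM₂, hK₂, hle₂⟩ := hmax (eJ q 0 K) eJ_le (eJ_ne_bot hK.group hK1) normalizer_le_eJ
  obtain ⟨M₃, hM₃, hK₃, hle₃⟩ := hmax (zOne q K) zOne_le (zOne_ne_bot hK.group hK1) normalizer_le_zOne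
  -- the three factorisations of a member containing `K`
  have hfac : ∀ W, InClass p q A θ K W → K ≤ W →
      fTilde q W ≤ (fTilde q W ⊓ M₁) ⊔ (fTilde q W ⊓ M₂) ∧
      fTilde q W ≤ (fTilde q W ⊓ M₁) ⊔ (fTilde q W ⊓ M₃) ∧
      fTilde q W ≤ (fTilde q W ⊓ M₂) ⊔ (fTilde q W ⊓ M₃) := by
    intro W hW hKW
    haveI : Group.IsSolvable W := hW.max.1.1
    have hF : fTilde q W ∈ signalizerFamily p A θ :=
      h.mem_of_le hW.max.1 fTilde_le ((h.le_normA hW.max.1).trans normalizer_le_fTilde)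
    have hQK' := h.core_le_K hK hW
    have hZ : omegaZ q K ≤ omegaZ q (core W q) := fun z hz =>
      ⟨centralizer_core_le hW.coCore_eq ⟨hKW hz.1, centralizer_le hQK' hz.2.1⟩,
        centralizer_le hQK' hz.2.1, hz.2.2⟩
    have hKc : K ≤ centralizer (omegaZ q K : Set G) := by
      rw [le_centralizer_iff]; exact omegaZ_le_centralizer
    have hin : ∀ {N M : Subgroup G}, A ≤ normalizer (N : Set G) →
        (∀ V ∈ signalizerFamily p A θ, V ≤ normalizer (N : Set G) → V ≤ M) →
        fTilde q W ⊓ normalizer (N : Set G) ≤ fTilde q W ⊓ M := fun hA hM =>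
      le_inf inf_le_left (hM _ (h.inf_normalizer_mem hF hA) inf_le_right)
    have hP : ∀ {k : ℕ} {N : Subgroup G}, k ≤ 1 →
        normalizer ((core W q ⊔ eJ q k K : Subgroup G) : Set G) ≤ normalizer (N : Set G) →
        fTilde q W ≤ (fTilde q W ⊓ normalizer (omegaZ q K : Set G)) ⊔
          (fTilde q W ⊓ normalizer (N : Set G)) := fun hk hN =>
      (h.fTilde_factor hK hW (le_inf le_rfl hKW) hAK hK.inv hZ hKc (hAK.trans normalizer_le_omegaZ)
        hk hQK' le_rfl).trans (sup_le_sup_left (inf_le_inf_left _ hN) _)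
    have h0 : normalizer ((core W q ⊔ eJ q 0 K : Subgroup G) : Set G) ≤
        normalizer (eJ q 0 K : Set G) := by
      refine (normalizer_le_eJ (q := q) (k := 0)).trans (le_of_eq ?_)
      rw [eJ_eq_of_le le_rfl (le_sup_right : eJ q 0 K ≤ core W q ⊔ eJ q 0 K) (sup_le hQK' eJ_le)]
    have h1 : normalizer ((core W q ⊔ eJ q 1 K : Subgroup G) : Set G) ≤
        normalizer (zOne q K : Set G) := by
      refine (normalizer_le_zOne (q := q)).trans (le_of_eq ?_)
      rw [zOne_eq_of_le (le_sup_right : eJ q 1 K ≤ core W q ⊔ eJ q 1 K) (sup_le hQK' eJ_le)]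
    exact ⟨(hP (Nat.zero_le 1) h0).trans (sup_le_sup (hin (hAK.trans normalizer_le_omegaZ) hle₁)
        (hin (hAK.trans normalizer_le_eJ) hle₂)),
      (hP le_rfl h1).trans (sup_le_sup (hin (hAK.trans normalizer_le_omegaZ) hle₁)
        (hin (hAK.trans normalizer_le_zOne) hle₃)),
      (h.fTilde_le_JZ hK hW hKW).trans (sup_le_sup (hin (hAK.trans normalizer_le_eJ) hle₂)
        (hin (hAK.trans normalizer_le_zOne) hle₃))⟩
  obtain ⟨f12, f13, f23⟩ := hfac M₃ hM₃ hK₃
  obtain ⟨g12, g13, g23⟩ := hfac M₂ hM₂ hK₂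
  obtain ⟨e12, e13, e23⟩ := hfac M₁ hM₁ hK₁
  have c3 := h.cores_inf_le hK hM₃ hM₁ hM₂ hK₃ f12
  have c2 := h.cores_inf_le hK hM₂ hM₁ hM₃ hK₂ g13
  have c1 := h.cores_inf_le hK hM₁ hM₂ hM₃ hK₁ e23
  set D := core M₁ q ⊓ core M₂ q ⊓ core M₃ q with hD
  have d12 : D = core M₁ q ⊓ core M₂ q :=
    le_antisymm inf_le_left (le_inf le_rfl c3)
  have d13 : D = core M₁ q ⊓ core M₃ q :=
    le_antisymm (le_inf (inf_le_left.trans inf_le_left) inf_le_right)
      (le_inf (le_inf inf_le_left c2) inf_le_right)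
  have d23 : D = core M₂ q ⊓ core M₃ q :=
    le_antisymm (le_inf (inf_le_left.trans inf_le_right) inf_le_right)
      (le_inf (le_inf c1 inf_le_left) inf_le_right)
  have hn : ∀ {M : Subgroup G}, M ≤ normalizer (core M q : Set G) :=
    fun {M} => CfsgLib.CFun.le_normalizer_core
  have hDF : ∀ {M N : Subgroup G}, D = core M q ⊓ core N q →
      fTilde q N ⊓ M ≤ normalizer (D : Set G) := by
    intro M N e
    rw [e]
    exact CfsgLib.Coprime.inf_le_normalizer (inf_le_right.trans hn) ((inf_le_left.trans fTilde_le).trans hn)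
  have hDK : K ≤ normalizer (D : Set G) := CfsgLib.Coprime.inf_le_normalizer
    (CfsgLib.Coprime.inf_le_normalizer (hK₁.trans hn) (hK₂.trans hn)) (hK₃.trans hn)
  have hDC : signalizerInf A θ ≤ normalizer (D : Set G) := CfsgLib.Coprime.inf_le_normalizer
    (CfsgLib.Coprime.inf_le_normalizer (hM₁.C_le.trans hn) (hM₂.C_le.trans hn)) (hM₃.C_le.trans hn)
  have hDA : A ≤ normalizer (D : Set G) := CfsgLib.Coprime.inf_le_normalizer
    (CfsgLib.Coprime.inf_le_normalizer (h.le_normA (h.core_mem hM₁.max.1 q))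
      (h.le_normA (h.core_mem hM₂.max.1 q))) (h.le_normA (h.core_mem hM₃.max.1 q))
  have hD1 : D ≠ ⊥ := by
    intro e
    refine omegaZ_ne_bot hK.group hK1 (le_bot_iff.1 (le_trans ?_ e.le))
    have : ∀ {M : Subgroup G}, InClass p q A θ K M → K ≤ M → omegaZ q K ≤ core M q := by
      intro M hM hKM z hz
      haveI : Group.IsSolvable M := hM.max.1.1
      exact centralizer_core_le hM.coCore_eq
        ⟨hKM hz.1, centralizer_le (h.core_le_K hK hM) hz.2.1⟩
    exact le_inf (le_inf (this hM₁ hK₁) (this hM₂ hK₂)) (this hM₃ hK₃)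
  obtain ⟨M, hM, -, hMle⟩ := h.exists_max_normalizer
    (h.mem_of_le hM₃.max.1 (inf_le_right.trans CfsgLib.CFun.core_le) hDA) hD1
  have hKM : K ≤ M := hMle K hK.mem hDK
  have hMc : InClass p q A θ K M :=
    hX.of_ge hM (hMle _ h.inf_mem_family hDC) (inf_le_left.trans hKM)
  have hF : ∀ {W : Subgroup G}, InClass p q A θ K W → fTilde q W ≤ normalizer (D : Set G) →
      W = M := fun {W} hW hWD => by
    refine h.class_final hK hW hMc (hMle _ ?_ hWD) (inf_le_left.trans hKM)
    exact h.mem_of_le hW.max.1 fTilde_le ((h.le_normA hW.max.1).trans normalizer_le_fTilde)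
  have e3 : M₃ = M := hF hM₃ (f12.trans (sup_le (hDF d13) (hDF d23)))
  have e2 : M₂ = M := hF hM₂ (g13.trans (sup_le (hDF d12) (hDF (d23.trans (inf_comm _ _)))))
  have e1 : M₁ = M :=
    hF hM₁ (e23.trans (sup_le (hDF (d12.trans (inf_comm _ _))) (hDF (d13.trans (inf_comm _ _)))))
  have key : ∀ {W : Subgroup G}, InClass p q A θ K W → K ≤ W → W = M := fun {W} hW hKW => by
    obtain ⟨w12, -, -⟩ := hfac W hW hKW
    refine h.class_final hK hW hMc (w12.trans (sup_le ?_ ?_)) (inf_le_left.trans hKM)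
    · exact e1 ▸ inf_le_right
    · exact e2 ▸ inf_le_right
  rw [key hX hKX, key hY hKY]

/-- Every class member contains `K`. -/
theorem class_ge_K {X : Subgroup G} (hX : InClass p q A θ K X) : K ≤ X := by
  induction hn : Nat.card K - Nat.card (K ⊓ X : Subgroup G) using Nat.strong_induction_on
    generalizing X with
  | _ n ih =>
  subst hn
  by_contra hne
  haveI : Group.IsSolvable X := hX.max.1.1
  set R := K ⊓ X with hR
  set Q := core X q with hQ
  have hQR : Q ≤ R := le_inf (h.core_le_K hK hX) CfsgLib.CFun.core_le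
  have hR1 : R ≠ ⊥ := fun e => h.class_core_ne_bot hX (le_bot_iff.1 (hQR.trans e.le))
  have hRq : IsPGroup q R := hK.group.to_le inf_le_left
  have hAK : A ≤ normalizer (K : Set G) := h.le_normA hK.mem
  have hAR : A ≤ normalizer (R : Set G) :=
    CfsgLib.Coprime.inf_le_normalizer hAK (h.le_normA hX.max.1)
  have hCR : signalizerInf A θ ≤ normalizer (R : Set G) :=
    CfsgLib.Coprime.inf_le_normalizer hK.inv (hX.C_le.trans le_normalizer)
  have hmax : ∀ N : Subgroup G, N ≤ R → N ≠ ⊥ → normalizer (R : Set G) ≤ normalizer (N : Set G) →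
      ∃ M, InClass p q A θ K M ∧ K ≤ M ∧
        ∀ W ∈ signalizerFamily p A θ, W ≤ normalizer (N : Set G) → W ≤ M := by
    intro N hNR hN1 hNn
    obtain ⟨M, hM, -, hMle⟩ :=
      h.exists_max_normalizer (h.mem_of_le hX.max.1 (hNR.trans inf_le_right) (hAR.trans hNn)) hN1
    have hNK : normalizer (R : Set G) ⊓ K ≤ M := by
      refine hMle _ ?_ (inf_le_left.trans hNn)
      rw [inf_comm]
      exact h.inf_normalizer_mem hK.mem hAR
    have hRM : R ≤ M := (le_inf le_normalizer inf_le_left).trans hNK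
    have hMc := hX.of_ge hM (hMle _ h.inf_mem_family (hCR.trans hNn)) hRM
    refine ⟨M, hMc, ih _ ?_ hMc rfl, hMle⟩
    have hlt : R < K ⊓ M := lt_of_le_of_ne (le_inf inf_le_left hRM) fun e =>
      CfsgLib.Invol.normalizer_grows hK.group (inf_le_left : R ≤ K)
        (fun e' => hne (inf_eq_left.1 e')) ((le_inf inf_le_right hNK).trans e.ge)
    have h1 := Set.Finite.card_lt_card (Set.toFinite _) (SetLike.coe_ssubset_coe.2 hlt)
    change Nat.card R < Nat.card (K ⊓ M : Subgroup G) at h1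
    have h2 : Nat.card (K ⊓ M : Subgroup G) ≤ Nat.card K :=
      Nat.le_of_dvd Nat.card_pos (card_dvd_of_le inf_le_left)
    omega
  obtain ⟨M, hM, hKM, hMle⟩ := hmax (omegaZ q R) omegaZ_le (omegaZ_ne_bot hRq hR1) normalizer_le_omegaZ
  obtain ⟨M', hM', hKM', hM'le⟩ := hmax (eJ q 0 R) eJ_le (eJ_ne_bot hRq hR1) normalizer_le_eJ
  obtain rfl : M = M' := h.class_eq_of_K hK hM hM' hKM hKM'
  have hZ : omegaZ q R ≤ omegaZ q Q := fun z hz =>
    ⟨centralizer_core_le hX.coCore_eq ⟨hz.1.2, centralizer_le hQR hz.2.1⟩,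
      centralizer_le hQR hz.2.1, hz.2.2⟩
  have hRc : R ≤ centralizer (omegaZ q R : Set G) := by
    rw [le_centralizer_iff]; exact omegaZ_le_centralizer
  have hF : fTilde q X ∈ signalizerFamily p A θ :=
    h.mem_of_le hX.max.1 fTilde_le ((h.le_normA hX.max.1).trans normalizer_le_fTilde)
  have hJeq : eJ q 0 (Q ⊔ eJ q 0 R) = eJ q 0 R :=
    eJ_eq_of_le le_rfl le_sup_right (sup_le hQR eJ_le)
  have hFM : fTilde q X ≤ M := by
    refine (h.fTilde_factor hK hX le_rfl hAR hCR hZ hRc (hAR.trans normalizer_le_omegaZ)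
      (Nat.zero_le 1) hQR le_rfl).trans (sup_le ?_ ?_)
    · exact hMle _ (h.inf_normalizer_mem hF (hAR.trans normalizer_le_omegaZ)) inf_le_right
    · refine le_trans (inf_le_inf_left _ (normalizer_le_eJ (q := q) (k := 0))) ?_
      rw [hJeq]
      exact hM'le _ (h.inf_normalizer_mem hF (hAR.trans normalizer_le_eJ)) inf_le_right
  exact hne ((h.class_final hK hX hM hFM (inf_le_left.trans hKM)).symm ▸ hKM)

/-- All members of the class are equal. -/
theorem class_unique {X Y : Subgroup G} (hX : InClass p q A θ K X) (hY : InClass p q A θ K Y) :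
    X = Y :=
  h.class_eq_of_K hK hX hY (h.class_ge_K hK hX) (h.class_ge_K hK hY)

end SFCtx

end CfsgLib.SolvSignalizer
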