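import Cfsg.Agent.Lib.SolvSignalizer.Unique
import Cfsg.Agent.Lib.SolvSignalizer.PairAction

/-!
# The maximal member attached to a frame

`World`: for a frame `S` the maximal member `M` containing all members normalising `S`.  The
maximal members containing `S` are compared with `M` through the cores `O_v(M)`, `v ≠ q`.
-/

set_option autoImplicit false
set_option linter.style.haveILetI false
set_option linter.unusedSectionVars false

open Subgroup
open scoped commutatorElement
open CfsgLib.Coprime (conj_mem_of_le_normalizer)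
open CfsgLib.CFun (core coCore)
open Cfsg (signalizerFamily signalizerInf)

namespace CfsgLib.SolvSignalizer

universe u

variable {G : Type u} [Group G] [Finite G]

/-- An element normalising each member of a family normalises their supremum. -/
theorem le_normalizer_iSup_of {ι : Sort*} {M : Subgroup G} {f : ι → Subgroup G}
    (hf : ∀ i, M ≤ normalizer (f i : Set G)) :
    M ≤ normalizer ((⨆ i, f i : Subgroup G) : Set G) := by
  refine CfsgLib.Invol.le_normalizer_of_forall_conj fun g hg x hx => ?_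
  have hle : (⨆ i, f i).map (MulAut.conj g).toMonoidHom ≤ ⨆ i, f i := by
    rw [Subgroup.map_iSup]
    exact iSup_mono fun i => le_of_eq (mem_normalizer_iff_map_conj_eq.1 (hf i hg))
  exact hle ⟨x, hx, rfl⟩

/-- A nontrivial normal subgroup of a `v`-group meets `omegaZ` of it. -/
theorem inf_omegaZ_ne_bot {v : ℕ} [hv : Fact v.Prime] {D R : Subgroup G} (hD : IsPGroup v D)
    (hRD : R ≤ D) (hDR : D ≤ normalizer (R : Set G)) (hR : R ≠ ⊥) : R ⊓ omegaZ v D ≠ ⊥ := by
  haveI := hD.isNilpotent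
  haveI : (R.subgroupOf D).Normal := (normal_subgroupOf_iff_le_normalizer hRD).2 hDR
  set T := R.subgroupOf D ⊓ center D with hT
  have hne : T ≠ ⊥ := CfsgLib.Coprime.nilpotent_inf_center_ne_bot (R.subgroupOf D) fun e =>
    hR (by rw [← Subgroup.map_subgroupOf_eq_of_le hRD, e, Subgroup.map_bot])
  haveI : Nontrivial T := (Subgroup.nontrivial_iff_ne_bot _).2 hne
  obtain ⟨z, hz⟩ := exists_prime_orderOf_dvd_card' (G := T) v (by
    obtain ⟨k, hk, hk'⟩ := (hD.to_subgroup T).nontrivial_iff_card.1 inferInstance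
    rw [hk']
    exact dvd_pow_self v hk.ne')
  have hzG : orderOf ((z : D) : G) = v := by rw [Subgroup.orderOf_coe, Subgroup.orderOf_coe, hz]
  intro e
  have hmem : ((z : D) : G) ∈ R ⊓ omegaZ v D := mem_inf.2 ⟨z.2.1, (z : D).2,
    mem_centralizer_iff.2 fun t ht => congrArg Subtype.val (mem_center_iff.1 z.2.2 ⟨t, ht⟩),
    orderOf_dvd_iff_pow_eq_one.1 hzG.dvd⟩
  rw [e, mem_bot] at hmem
  rw [hmem, orderOf_one] at hzG
  exact hv.out.ne_one hzG.symm

variable {p : ℕ} [hp : Fact p.Prime] {A : Subgroup G} {θ : G → Subgroup G}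

/-- The maximal member attached to a frame. -/
structure World (p : ℕ) (A : Subgroup G) (θ : G → Subgroup G) (q : ℕ) (L S M : Subgroup G) :
    Prop where
  frame : Frame p A θ q L S
  max : IsMaxMem p A θ M
  le : ∀ X ∈ signalizerFamily p A θ, X ≤ normalizer (S : Set G) → X ≤ M

namespace SFCtx

variable (h : SFCtx p A θ)

include h

theorem exists_qMember (q : ℕ) [Fact q.Prime] : ∃ K, QMember p q A θ K := by
  obtain ⟨K, hK, hKq, hKC, hKmax⟩ := h.primeMember q
  exact ⟨K, ⟨hK, hKq, hKC, hKmax⟩⟩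

theorem exists_world {q : ℕ} {L S : Subgroup G} (hS : Frame p A θ q L S) :
    ∃ M, World p A θ q L S M := by
  obtain ⟨M, hM, -, hle⟩ := h.exists_max_normalizer hS.mem hS.ne_bot
  exact ⟨M, hS, hM, hle⟩

theorem frame_commute_right {q : ℕ} {L S : Subgroup G} (hS : Frame p A θ q L S) {X : Subgroup G}
    (hX : X ∈ signalizerFamily p A θ) (hSX : S ≤ X) : coCore X q ≤ centralizer (S : Set G) := by
  haveI := Fact.mk hS.prime
  refine le_trans ?_ (centralizer_le (h.frame_le_core hS hX hSX))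
  exact CfsgLib.CFun.le_centralizer_of_inf_eq_bot
    (CfsgLib.CFun.coCore_le.trans CfsgLib.CFun.le_normalizer_core)
    (CfsgLib.CFun.core_le.trans CfsgLib.CFun.le_normalizer_coCore)
    ((inf_comm _ _).trans
      (CfsgLib.CFun.inf_eq_bot_of_isPGroup CfsgLib.CFun.isPGroup_core CfsgLib.CFun.not_dvd_coCore))

omit h in
theorem core_le_centralizer_coCore {X : Subgroup G} {q : ℕ} [Fact q.Prime] :
    core X q ≤ centralizer (coCore X q : Set G) :=
  CfsgLib.CFun.le_centralizer_of_inf_eq_bot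
    (CfsgLib.CFun.core_le.trans CfsgLib.CFun.le_normalizer_coCore)
    (CfsgLib.CFun.coCore_le.trans CfsgLib.CFun.le_normalizer_core)
    (CfsgLib.CFun.inf_eq_bot_of_isPGroup CfsgLib.CFun.isPGroup_core CfsgLib.CFun.not_dvd_coCore)

omit h in
theorem core_le_centralizer_core {X : Subgroup G} {q r : ℕ} [Fact q.Prime] [Fact r.Prime] (hqr : q ≠ r) :
    core X q ≤ centralizer (core X r : Set G) :=
  core_le_centralizer_coCore.trans (centralizer_le (CfsgLib.CFun.core_le_coCore hqr.symm))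

variable {q : ℕ} [hq : Fact q.Prime] {L S M : Subgroup G} (hw : World p A θ q L S M)

include hw

theorem world_C : signalizerInf A θ ≤ M := hw.le _ h.inf_mem_family hw.frame.inv

theorem world_S : S ≤ M := hw.le _ hw.frame.mem le_normalizer

theorem world_centralizer {X : Subgroup G} (hX : X ∈ signalizerFamily p A θ)
    (hXS : X ≤ centralizer (S : Set G)) : X ≤ M :=
  hw.le X hX (hXS.trans (CfsgLib.Coprime.centralizer_le_normalizer_self S))

theorem core_ne_bot_of_S {Z : Subgroup G} (hZ : Z ∈ signalizerFamily p A θ) (hSZ : S ≤ Z) :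
    core Z q ≠ ⊥ := fun e =>
  hw.frame.ne_bot (le_bot_iff.1 (e ▸ h.frame_le_core hw.frame hZ hSZ))

theorem le_coCore_centralizer {Z : Subgroup G} (hZ : IsMaxMem p A θ Z) (hSZ : S ≤ Z) :
    coCore Z q ≤ coCore (M ⊓ centralizer (S : Set G)) q := by
  set H := M ⊓ centralizer (S : Set G) with hH
  set W := coCore Z q with hW
  set P := core Z q with hP
  have hWm := h.coCore_mem hZ.1 q
  have hWS : W ≤ centralizer (S : Set G) := h.frame_commute_right hw.frame hZ.1 hSZ
  have hWH : W ≤ H := le_inf (h.world_centralizer hw hWm hWS) hWS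
  have hAS : A ≤ normalizer (centralizer (S : Set G) : Set G) :=
    (h.le_normA hw.frame.mem).trans (CfsgLib.Coprime.normalizer_le_normalizer_centralizer S)
  have hHm : H ∈ signalizerFamily p A θ := h.inf_mem hw.max.1 hAS
  haveI : Group.IsSolvable H := hHm.1
  have hPm := h.core_mem hZ.1 q
  have hSP : S ≤ P := h.frame_le_core hw.frame hZ.1 hSZ
  have hP0 : P ⊓ centralizer (S : Set G) ≤ H :=
    le_inf (h.world_centralizer hw (h.inf_mem hPm hAS) inf_le_right) inf_le_right
  have hZP : omegaZ q P ≤ P ⊓ centralizer (S : Set G) :=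
    le_inf omegaZ_le (omegaZ_le_centralizer.trans (centralizer_le hSP))
  have hne : omegaZ q P ≠ ⊥ := omegaZ_ne_bot CfsgLib.CFun.isPGroup_core (h.core_ne_bot_of_S hw hZ.1 hSZ)
  refine CfsgLib.CFun.le_coCore_of_centralizer (R := P ⊓ centralizer (S : Set G))
    (CfsgLib.CFun.isPGroup_core.to_le inf_le_left) (fun e => hne (le_bot_iff.1 (e ▸ hZP))) hP0 hWH
    CfsgLib.CFun.not_dvd_coCore ?_ ?_
  · rw [le_centralizer_iff]
    exact inf_le_left.trans core_le_centralizer_coCore
  · refine le_trans ?_ CfsgLib.CFun.le_normalizer_coCore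
    refine h.le_max hZ (omegaZ_le.trans CfsgLib.CFun.core_le) ((h.le_normA hPm).trans normalizer_le_omegaZ)
      hne (CfsgLib.CFun.le_normalizer_core.trans normalizer_le_omegaZ) ?_ ?_
    · exact h.inf_mem hHm ((CfsgLib.Coprime.inf_le_normalizer (h.le_normA hPm) hAS).trans
        (CfsgLib.Coprime.normalizer_le_normalizer_centralizer _))
    · exact (inf_le_right.trans (centralizer_le hZP)).trans
        (CfsgLib.Coprime.centralizer_le_normalizer_self _)

theorem coCore_centralizer_inf_le {Z : Subgroup G} (hZ : IsMaxMem p A θ Z) (hSZ : S ≤ Z) :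
    coCore (M ⊓ centralizer (S : Set G)) q ⊓ Z ≤ coCore Z q := by
  set H := M ⊓ centralizer (S : Set G) with hH
  set W := coCore H q ⊓ Z with hW
  set P := core Z q with hP
  have hAS : A ≤ normalizer (centralizer (S : Set G) : Set G) :=
    (h.le_normA hw.frame.mem).trans (CfsgLib.Coprime.normalizer_le_normalizer_centralizer S)
  have hPm := h.core_mem hZ.1 q
  haveI : Group.IsSolvable Z := hZ.1.1
  have hSP : S ≤ P := h.frame_le_core hw.frame hZ.1 hSZ
  have hWS : W ≤ centralizer (S : Set G) := inf_le_left.trans (CfsgLib.CFun.coCore_le.trans inf_le_right)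
  have hP0 : P ⊓ centralizer (S : Set G) ≤ H :=
    le_inf (h.world_centralizer hw (h.inf_mem hPm hAS) inf_le_right) inf_le_right
  have hWq : ¬ q ∣ Nat.card W := fun hd =>
    CfsgLib.CFun.not_dvd_coCore (hd.trans (card_dvd_of_le inf_le_left))
  have hWP : W ≤ centralizer (P : Set G) := by
    refine CfsgLib.Coprime.pq_lemma (P := S) hw.frame.group (hq.out.coprime_iff_not_dvd.2 hWq).symm
      CfsgLib.CFun.isPGroup_core (le_centralizer_iff.1 hWS) (hSP.trans le_normalizer)
      (inf_le_right.trans CfsgLib.CFun.le_normalizer_core) ?_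
    intro x hx
    rw [mem_centralizer_iff]
    intro y hy
    have h1 : y * x * y⁻¹ * x⁻¹ ∈ P ⊓ coCore H q := by
      refine mem_inf.2 ⟨mul_mem ((mem_normalizer_iff.1 (CfsgLib.CFun.le_normalizer_core hy.2) x).1 hx.1)
        (inv_mem hx.1), ?_⟩
      rw [show y * x * y⁻¹ * x⁻¹ = y * (x * y⁻¹ * x⁻¹) by group]
      exact mul_mem hy.1 ((mem_normalizer_iff.1 (CfsgLib.CFun.le_normalizer_coCore (hP0 hx)) _).1
        (inv_mem hy.1))
    rw [CfsgLib.CFun.inf_eq_bot_of_isPGroup CfsgLib.CFun.isPGroup_core CfsgLib.CFun.not_dvd_coCore,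
      mem_bot, mul_inv_eq_one, mul_inv_eq_iff_eq_mul] at h1
    exact h1
  refine CfsgLib.CFun.le_coCore_of_centralizer (R := P) CfsgLib.CFun.isPGroup_core
    (h.core_ne_bot_of_S hw hZ.1 hSZ) CfsgLib.CFun.core_le inf_le_right hWq hWP ?_
  refine CfsgLib.Coprime.inf_le_normalizer ?_ (inf_le_left.trans le_normalizer)
  refine le_trans (le_inf ?_ ?_) CfsgLib.CFun.le_normalizer_coCore
  · exact h.world_centralizer hw (h.inf_mem hZ.1
      ((h.le_normA hPm).trans (CfsgLib.Coprime.normalizer_le_normalizer_centralizer _)))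
      (inf_le_right.trans (centralizer_le hSP))
  · exact inf_le_right.trans (centralizer_le hSP)

theorem coCore_M : coCore (M ⊓ centralizer (S : Set G)) q = coCore M q :=
  le_antisymm
    ((le_inf le_rfl (CfsgLib.CFun.coCore_le.trans inf_le_left)).trans
      (h.coCore_centralizer_inf_le hw hw.max (h.world_S hw)))
    (h.le_coCore_centralizer hw hw.max (h.world_S hw))

/-- `O_{q'}` of a maximal member containing `S` is cut out by that of `M`. -/
theorem coCore_eq_inf {Z : Subgroup G} (hZ : IsMaxMem p A θ Z) (hSZ : S ≤ Z) :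
    coCore Z q = coCore M q ⊓ Z := by
  rw [← h.coCore_M hw]
  exact le_antisymm (le_inf (h.le_coCore_centralizer hw hZ hSZ) CfsgLib.CFun.coCore_le)
    (h.coCore_centralizer_inf_le hw hZ hSZ)

theorem coCore_le_M {Z : Subgroup G} (hZ : IsMaxMem p A θ Z) (hSZ : S ≤ Z) :
    coCore Z q ≤ coCore M q := (h.coCore_eq_inf hw hZ hSZ).le.trans inf_le_left

theorem core_le_of_core {Z : Subgroup G} (hZ : IsMaxMem p A θ Z) (hSZ : S ≤ Z) {v : ℕ} [Fact v.Prime]
    (hvq : v ≠ q) (hV : core Z v ≠ ⊥) : core M v ≤ core Z v := by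
  set V := core Z v with hVdef
  set F := core M v with hF
  have hVM : V ≤ M :=
    ((CfsgLib.CFun.core_le_coCore hvq).trans (h.coCore_le_M hw hZ hSZ)).trans CfsgLib.CFun.coCore_le
  have hVF : V ≤ normalizer (F : Set G) := hVM.trans CfsgLib.CFun.le_normalizer_core
  have hVm := h.core_mem hZ.1 v
  have hP : F ⊔ V ∈ signalizerFamily p A θ := h.sup_mem (h.core_mem hw.max.1 v) hVm hVF
  by_contra hne
  refine CfsgLib.Invol.normalizer_grows (Q := F ⊔ V) (D := V)
    (CfsgLib.Invol.isPGroup_sup CfsgLib.CFun.isPGroup_core CfsgLib.CFun.isPGroup_core hVF) le_sup_right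
    (fun e => hne (le_sup_left.trans e.ge)) ?_
  intro x hx
  have hxZ : x ∈ Z := h.le_max hZ CfsgLib.CFun.core_le (h.le_normA hVm) hV
    CfsgLib.CFun.le_normalizer_core (h.inf_normalizer_mem hP (h.le_normA hVm)) inf_le_right
    (mem_inf.2 ⟨hx.2, hx.1⟩)
  obtain ⟨a, ha, b, hb, rfl⟩ := CfsgLib.Coprime.mem_sup_exists hVF hx.2
  have haZ : a ∈ Z := by
    have := mul_mem hxZ (inv_mem (CfsgLib.CFun.core_le hb))
    rwa [mul_inv_cancel_right] at this
  refine mul_mem ?_ hb
  have h1 : core (coCore Z q) v ≤ V := le_core_of_normal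
    (CfsgLib.CFun.core_le.trans CfsgLib.CFun.coCore_le)
    (CfsgLib.CFun.le_normalizer_coCore.trans (normalizer_le_core v)) CfsgLib.CFun.isPGroup_core
  have h2 : F ⊓ coCore Z q ≤ core (coCore Z q) v := le_core_of_normal inf_le_right
    (CfsgLib.Coprime.inf_le_normalizer (((h.coCore_le_M hw hZ hSZ).trans CfsgLib.CFun.coCore_le).trans
      CfsgLib.CFun.le_normalizer_core) le_normalizer) (CfsgLib.CFun.isPGroup_core.to_le inf_le_left)
  exact h1 (h2 (mem_inf.2 ⟨ha,
    (h.coCore_eq_inf hw hZ hSZ).ge (mem_inf.2 ⟨CfsgLib.CFun.core_le_coCore hvq ha, haZ⟩)⟩))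

theorem core_le_of_meet {Z : Subgroup G} (hZ : IsMaxMem p A θ Z) (hSZ : S ≤ Z) {v : ℕ} [Fact v.Prime]
    (hvq : v ≠ q) (hV : core M v ⊓ Z ≠ ⊥) : core M v ≤ core Z v := by
  refine h.core_le_of_core hw hZ hSZ hvq fun e => hV (le_bot_iff.1 ?_)
  have h1 : core (coCore Z q) v ≤ core Z v := le_core_of_normal
    (CfsgLib.CFun.core_le.trans CfsgLib.CFun.coCore_le)
    (CfsgLib.CFun.le_normalizer_coCore.trans (normalizer_le_core v)) CfsgLib.CFun.isPGroup_core
  refine le_trans (le_trans (le_core_of_normal (H := coCore Z q) ?_ ?_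
    (CfsgLib.CFun.isPGroup_core.to_le inf_le_left)) h1) e.le
  · exact (inf_le_inf_right Z (CfsgLib.CFun.core_le_coCore hvq)).trans (h.coCore_eq_inf hw hZ hSZ).ge
  · exact CfsgLib.Coprime.inf_le_normalizer (((h.coCore_le_M hw hZ hSZ).trans CfsgLib.CFun.coCore_le).trans
      CfsgLib.CFun.le_normalizer_core) (CfsgLib.CFun.coCore_le.trans le_normalizer)

/-- A maximal member containing `θ(A)`, `S` and every `O_v(M)` is `M`. -/
theorem eq_of_all_in {Z : Subgroup G} (hZ : IsMaxMem p A θ Z) (hCZ : signalizerInf A θ ≤ Z)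
    (hSZ : S ≤ Z) (hall : ∀ v : ℕ, v.Prime → v ≠ q → core M v ≤ Z) : Z = M := by
  by_cases hΦ : coCore M q = ⊥
  · obtain ⟨K, hK⟩ := h.exists_qMember q
    have hSK : S ≤ K := hK.le_of S hw.frame.mem hw.frame.group hw.frame.inv
    have hcl : ∀ X, IsMaxMem p A θ X → signalizerInf A θ ≤ X → S ≤ X → InClass p q A θ K X := by
      intro X hX hCX hSX
      have h0 : ∀ Y, IsMaxMem p A θ Y → S ≤ Y → coCore Y q = ⊥ := fun Y hY hSY =>
        le_bot_iff.1 (hΦ ▸ h.coCore_le_M hw hY hSY)
      exact ⟨hX, hCX, h0 X hX hSX, fun Y hY _ hle => h0 Y hY ((le_inf hSK hSX).trans hle)⟩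
    exact h.class_unique hK (hcl Z hZ hCZ hSZ) (hcl M hw.max (h.world_C hw) (h.world_S hw))
  set Φ := coCore M q with hΦdef
  have hΦm := h.coCore_mem hw.max.1 q
  haveI : Group.IsSolvable Φ := hΦm.1
  set F := Cfsg.fittingOf Φ with hF
  have hΦq : ¬ q ∣ Nat.card Φ := CfsgLib.CFun.not_dvd_coCore
  have hcoreΦ : ∀ t : ℕ, t.Prime → core Φ t ≠ ⊥ → t ≠ q := by
    intro t ht hne e
    subst e
    refine hne ?_
    rw [← inf_eq_left.2 (CfsgLib.CFun.core_le (H := Φ) (s := t))]
    exact CfsgLib.CFun.inf_eq_bot_of_isPGroup CfsgLib.CFun.isPGroup_core hΦq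
  have hcM : ∀ t : ℕ, t.Prime → core Φ t ≤ core M t := fun t ht => by
    haveI := Fact.mk ht
    exact le_core_of_normal (CfsgLib.CFun.core_le.trans CfsgLib.CFun.coCore_le)
      (CfsgLib.CFun.le_normalizer_coCore.trans (normalizer_le_core t)) CfsgLib.CFun.isPGroup_core
  obtain ⟨v, hv, hvne⟩ : ∃ v : ℕ, v.Prime ∧ core Φ v ≠ ⊥ := by
    by_contra hnone
    push Not at hnone
    have hF0 : F = ⊥ := le_bot_iff.1 (CfsgLib.CFun.fittingOf_le_of_cores fun t ht => (hnone t ht).le)
    refine hΦ (le_bot_iff.1 (hF0 ▸ fun x hx => CfsgLib.CFun.centralizer_fittingOf_le ⟨hx, ?_⟩))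
    rw [← hF, hF0]
    exact mem_centralizer_iff.2 fun y hy => by rw [mem_bot.1 hy, one_mul, mul_one]
  haveI := Fact.mk hv
  have hvq := hcoreΦ v hv hvne
  have hFv : core M v ≠ ⊥ := fun e => hvne (le_bot_iff.1 (e ▸ hcM v hv))
  have hWF : core M v ≤ coCore Z q :=
    (le_inf (CfsgLib.CFun.core_le_coCore hvq) (hall v hv hvq)).trans (h.coCore_eq_inf hw hZ hSZ).ge
  set V := core Z v with hVdef
  have hFV : core M v ≤ V := h.core_le_of_meet hw hZ hSZ hvq (by rwa [inf_eq_left.2 (hall v hv hvq)])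
  have hV : V ≠ ⊥ := fun e => hFv (le_bot_iff.1 (e ▸ hFV))
  have hVΦ : V ≤ Φ := (CfsgLib.CFun.core_le_coCore hvq).trans (h.coCore_le_M hw hZ hSZ)
  have hcM' : core M q ≤ centralizer (Φ : Set G) := core_le_centralizer_coCore
  have hQMZ : core M q ≤ Z := h.le_max hZ CfsgLib.CFun.core_le (h.le_normA (h.core_mem hZ.1 v)) hV
    CfsgLib.CFun.le_normalizer_core (h.core_mem hw.max.1 q)
    ((hcM'.trans (centralizer_le hVΦ)).trans (CfsgLib.Coprime.centralizer_le_normalizer_self V))
  have hWle : ∀ {X : Subgroup G}, X ∈ signalizerFamily p A θ →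
      X ≤ centralizer (coCore Z q : Set G) → X ≤ M := fun hX hXW =>
    h.le_max hw.max CfsgLib.CFun.core_le (h.le_normA (h.core_mem hw.max.1 v)) hFv
      CfsgLib.CFun.le_normalizer_core hX
      ((hXW.trans (centralizer_le hWF)).trans (CfsgLib.Coprime.centralizer_le_normalizer_self _))
  have hQZM : core Z q ≤ M := hWle (h.core_mem hZ.1 q) core_le_centralizer_coCore
  -- `O_q(Z)` centralises `O_{q'}(M)`
  set Q := core Z q with hQ
  have hQΦn : Q ≤ normalizer (Φ : Set G) := hQZM.trans CfsgLib.CFun.le_normalizer_coCore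
  have hQF : Q ≤ centralizer (F : Set G) := by
    rw [le_centralizer_iff]
    refine CfsgLib.CFun.fittingOf_le_of_cores fun t ht => ?_
    rcases eq_or_ne (core Φ t) ⊥ with e | e
    · rw [e]; exact bot_le
    haveI := Fact.mk ht
    have htq := hcoreΦ t ht e
    rw [← le_centralizer_iff]
    refine core_le_centralizer_coCore.trans (centralizer_le ?_)
    exact ((hcM t ht).trans (le_inf (CfsgLib.CFun.core_le_coCore htq) (hall t ht htq))).trans
      (h.coCore_eq_inf hw hZ hSZ).ge
  have hQΦ : Q ≤ centralizer (Φ : Set G) := by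
    have hle : ⁅Φ, Q⁆ ≤ F := by
      rw [commutator_le]
      intro x hx y hy
      refine CfsgLib.CFun.centralizer_fittingOf_le (mem_inf.2 ⟨?_, mem_centralizer_iff.2 fun f hf => ?_⟩)
      · rw [commutatorElement_def, mul_assoc x y, mul_assoc x]
        exact mul_mem hx ((mem_normalizer_iff.1 (hQΦn hy) _).1 (inv_mem hx))
      · have h1 : f * y = y * f := mem_centralizer_iff.1 (hQF hy) f hf
        have h2 : (x⁻¹ * f * x) * y = y * (x⁻¹ * f * x) := mem_centralizer_iff.1 (hQF hy) _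
          ((mem_normalizer_iff''.1 (CfsgLib.CFun.le_normalizer_fittingOf hx) f).1 hf)
        rw [commutatorElement_def]
        calc f * (x * y * x⁻¹ * y⁻¹) = x * ((x⁻¹ * f * x) * y) * x⁻¹ * y⁻¹ := by group
          _ = x * y * x⁻¹ * (f * y⁻¹) := by rw [h2]; group
          _ = x * y * x⁻¹ * y⁻¹ * f := by
            rw [show f * y⁻¹ = y⁻¹ * f by rw [eq_inv_mul_iff_mul_eq, ← mul_assoc, ← h1, mul_inv_cancel_right]]
            group
    have hcop : (Nat.card Q).Coprime (Nat.card Φ) := by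
      obtain ⟨i, hi⟩ := IsPGroup.iff_card.1 (CfsgLib.CFun.isPGroup_core (H := Z) (s := q))
      rw [hi]
      exact (hq.out.coprime_iff_not_dvd.2 hΦq).pow_left i
    rw [le_centralizer_iff, ← commutator_eq_bot_iff_le_centralizer,
      ← CfsgLib.Coprime.commutator_commutator_eq hQΦn hcop (Or.inr hΦm.1),
      commutator_eq_bot_iff_le_centralizer]
    exact hle.trans (le_centralizer_iff.1 hQF)
  -- the two `q`-cores coincide
  have hAΦ : A ≤ normalizer (centralizer (Φ : Set G) : Set G) :=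
    (h.le_normA hΦm).trans (CfsgLib.Coprime.normalizer_le_normalizer_centralizer Φ)
  set E := M ⊓ centralizer (Φ : Set G) with hE
  set E' := Z ⊓ centralizer (coCore Z q : Set G) with hE'
  have hEZ : E ≤ Z := h.le_max hZ CfsgLib.CFun.core_le (h.le_normA (h.core_mem hZ.1 v)) hV
    CfsgLib.CFun.le_normalizer_core (h.inf_mem hw.max.1 hAΦ)
    ((inf_le_right.trans (centralizer_le hVΦ)).trans (CfsgLib.Coprime.centralizer_le_normalizer_self V))
  have hEE' : E ≤ E' := le_inf hEZ (inf_le_right.trans (centralizer_le (h.coCore_le_M hw hZ hSZ)))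
  have hE'M : E' ≤ M := hWle (h.inf_mem hZ.1 ((h.le_normA (h.coCore_mem hZ.1 q)).trans
    (CfsgLib.Coprime.normalizer_le_normalizer_centralizer _))) inf_le_right
  have hME : M ≤ normalizer (E : Set G) := CfsgLib.Coprime.inf_le_normalizer le_normalizer
    (CfsgLib.CFun.le_normalizer_coCore.trans (CfsgLib.Coprime.normalizer_le_normalizer_centralizer Φ))
  have hZE' : Z ≤ normalizer (E' : Set G) := CfsgLib.Coprime.inf_le_normalizer le_normalizer
    (CfsgLib.CFun.le_normalizer_coCore.trans (CfsgLib.Coprime.normalizer_le_normalizer_centralizer _))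
  have h1 : core M q ≤ Q :=
    (le_core_of_normal ((le_inf CfsgLib.CFun.core_le hcM').trans hEE')
      (hE'M.trans CfsgLib.CFun.le_normalizer_core) CfsgLib.CFun.isPGroup_core).trans
    (le_core_of_normal (CfsgLib.CFun.core_le.trans inf_le_left) (hZE'.trans (normalizer_le_core q))
      CfsgLib.CFun.isPGroup_core)
  have h2 : Q ≤ core M q :=
    (le_core_of_normal (le_inf hQZM hQΦ) (hEZ.trans CfsgLib.CFun.le_normalizer_core)
      CfsgLib.CFun.isPGroup_core).trans
    (le_core_of_normal (CfsgLib.CFun.core_le.trans inf_le_left) (hME.trans (normalizer_le_core q))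
      CfsgLib.CFun.isPGroup_core)
  refine (hZ.2 M hw.max.1 (h.le_max hw.max (N := Q) (h2.trans CfsgLib.CFun.core_le)
    (h.le_normA (h.core_mem hZ.1 q)) (h.core_ne_bot_of_S hw hZ.1 hSZ) ?_ hZ.1
    CfsgLib.CFun.le_normalizer_core)).symm
  rw [show Q = core M q from le_antisymm h2 h1]
  exact CfsgLib.CFun.le_normalizer_core

/-- A member normalising a member `N` whose normaliser meets each `O_v(M)` lies in `M`. -/
theorem le_world_of_normalized {N : Subgroup G} (hN : N ∈ signalizerFamily p A θ) (hN1 : N ≠ ⊥)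
    (hC : signalizerInf A θ ≤ normalizer (N : Set G)) (hS : S ≤ normalizer (N : Set G))
    (hall : ∀ r : ℕ, r.Prime → r ≠ q → core M r ≠ ⊥ → core M r ⊓ normalizer (N : Set G) ≠ ⊥)
    {X : Subgroup G} (hX : X ∈ signalizerFamily p A θ) (hXN : X ≤ normalizer (N : Set G)) : X ≤ M := by
  obtain ⟨Z, hZ, -, hle⟩ := h.exists_max_normalizer hN hN1
  have hSZ : S ≤ Z := hle S hw.frame.mem hS
  have hall' : ∀ r : ℕ, r.Prime → r ≠ q → core M r ≤ Z := by
    intro r hr hrq
    haveI := Fact.mk hr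
    rcases eq_or_ne (core M r) ⊥ with e | e
    · rw [e]; exact bot_le
    refine (h.core_le_of_meet hw hZ hSZ hrq fun e' => hall r hr hrq e ?_).trans CfsgLib.CFun.core_le
    refine le_bot_iff.1 (le_trans (le_inf inf_le_left ?_) e'.le)
    exact hle _ (h.inf_normalizer_mem (h.core_mem hw.max.1 r) (h.le_normA hN)) inf_le_right
  exact h.eq_of_all_in hw hZ (hle _ h.inf_mem_family hC) hSZ hall' ▸ hle X hX hXN

/-- A frame of another prime lies in the core of `M` and has the same maximal member. -/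
theorem other_frame {v : ℕ} {L' T : Subgroup G} (hT : Frame p A θ v L' T) (hvq : v ≠ q) :
    T ≤ core M v ∧ World p A θ v L' T M := by
  haveI := Fact.mk hT.prime
  have hST := h.frame_commute hw.frame hT hvq.symm
  have hTM : T ≤ M := h.world_centralizer hw hT.mem (le_centralizer_iff.1 hST)
  have hTc : T ≤ core M v := h.frame_le_core hT hw.max.1 hTM
  refine ⟨hTc, hT, hw.max, fun X hX hXT => h.le_world_of_normalized hw hT.mem hT.ne_bot hT.inv
    (hST.trans (CfsgLib.Coprime.centralizer_le_normalizer_self T)) (fun r hr hrq hne => ?_) hX hXT⟩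
  haveI := Fact.mk hr
  rcases eq_or_ne r v with rfl | hrv
  · intro e
    exact hT.ne_bot (le_bot_iff.1 (e ▸ le_inf hTc le_normalizer))
  · rw [inf_eq_left.2 ((core_le_centralizer_core hrv).trans ((centralizer_le hTc).trans
      (CfsgLib.Coprime.centralizer_le_normalizer_self T)))]
    exact hne

/-- The displacement of a member by a point. -/
theorem point_commutator {Q : Subgroup G} (hQ : Q ∈ signalizerFamily p A θ) {b : G} (hb : b ∈ A) (hb1 : b ≠ 1)
    (hθ : θ b ≤ normalizer (Q : Set G)) :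
    ⁅Q, zpowers b⁆ ∈ signalizerFamily p A θ ∧ ⁅Q, zpowers b⁆ ≤ Q ∧
      θ b ≤ normalizer (⁅Q, zpowers b⁆ : Subgroup G) ∧
      (¬ Q ≤ centralizer ({b} : Set G) → ⁅Q, zpowers b⁆ ≠ ⊥) := by
  have hle : ⁅Q, zpowers b⁆ ≤ Q :=
    le_normalizer_iff_commutator_le_left.1 ((zpowers_le.2 hb).trans (h.le_normA hQ))
  have hAb : A ≤ normalizer (zpowers b : Set G) := le_trans
    (fun a ha => mem_centralizer_iff.2 fun g hg => h.commA (zpowers_le.2 hb hg) ha)
    (CfsgLib.Coprime.centralizer_le_normalizer_self _)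
  have hθb : θ b ≤ normalizer (zpowers b : Set G) := by
    refine le_trans ?_ (CfsgLib.Coprime.centralizer_le_normalizer_self (zpowers b))
    rw [zpowers_eq_closure, centralizer_closure]
    exact h.theta_le_centralizer hb hb1
  refine ⟨h.mem_of_le hQ hle (CfsgLib.CFun.le_normalizer_commutator (h.le_normA hQ) hAb), hle,
    CfsgLib.CFun.le_normalizer_commutator hθ hθb, fun hne e => hne fun x hx => ?_⟩
  rw [mem_centralizer_singleton_iff]
  exact commutatorElement_eq_one_iff_mul_comm.1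
    (mem_bot.1 (e.le (commutator_mem_commutator hx (mem_zpowers b))))

theorem frame_point {b : G} (hb : b ∈ L) (hb1 : b ≠ 1) : S ≤ θ b :=
  (hw.frame.in_core b hb hb1).trans CfsgLib.CFun.core_le

/-- A bad point has no fixed points in a core out of its maximal member. -/
theorem bad_point {v : ℕ} [Fact v.Prime] (hvq : v ≠ q) (hne : core M v ≠ ⊥)
    (honly : ∀ Y, IsMaxMem p A θ Y → signalizerInf A θ ≤ Y → S ≤ Y → coCore Y q ≠ ⊥ → Y = M)
    {b : G} {J : Subgroup G} (hb : b ∈ L) (hb1 : b ≠ 1) (hnb : ¬ θ b ≤ M)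
    (hJ : IsMaxMem p A θ J) (hbJ : θ b ≤ J) : coCore J q = ⊥ ∧ core M v ⊓ J = ⊥ := by
  have hSJ := (h.frame_point hw hb hb1).trans hbJ
  have hJne : J ≠ M := fun e => hnb (e ▸ hbJ)
  have h0 : coCore J q = ⊥ := by
    by_contra hne'
    exact hJne (honly J hJ ((h.C_le_theta (hw.frame.plane_le hb) hb1).trans hbJ) hSJ hne')
  refine ⟨h0, ?_⟩
  by_contra hm
  exact hne (le_bot_iff.1 (h0 ▸
    (h.core_le_of_meet hw hJ hSJ hvq hm).trans (CfsgLib.CFun.core_le_coCore hvq)))

/-- A bad point has a maximal member in the class. -/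
theorem exists_class_point {K : Subgroup G} (hK : QMember p q A θ K) {v : ℕ} [hv : Fact v.Prime]
    (hvq : v ≠ q) (hne : core M v ≠ ⊥)
    (honly : ∀ Y, IsMaxMem p A θ Y → signalizerInf A θ ≤ Y → S ≤ Y → coCore Y q ≠ ⊥ → Y = M)
    (hother : ∀ r : ℕ, r.Prime → r ≠ q → r ≠ v → core M r = ⊥)
    (hnoF : ∀ L' T, ¬ Frame p A θ v L' T) {b : G} (hb : b ∈ L) (hb1 : b ≠ 1) (hnb : ¬ θ b ≤ M) :
    ∃ J, θ b ≤ J ∧ InClass p q A θ K J := by
  have hbA := hw.frame.plane_le hb
  have hSb := h.frame_point hw hb hb1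
  have hSK : S ≤ K := hK.le_of S hw.frame.mem hw.frame.group hw.frame.inv
  by_contra hnone
  push Not at hnone
  have hRM : ∀ J, IsMaxMem p A θ J → θ b ≤ J → K ⊓ J ≤ M := by
    intro J hJ hbJ
    by_contra hR
    refine hnone J hbJ ⟨hJ, (h.C_le_theta hbA hb1).trans hbJ,
      (h.bad_point hw hvq hne honly hb hb1 hnb hJ hbJ).1, fun Y hY hCY hle => ?_⟩
    by_contra hne'
    exact hR (honly Y hY hCY ((le_inf hSK (hSb.trans hbJ)).trans hle) hne' ▸ hle)
  have hcen : ∀ {X : Subgroup G}, X ∈ signalizerFamily p A θ → X ≠ ⊥ →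
      θ b ≤ normalizer (X : Set G) → core M v ⊓ normalizer (X : Set G) ≠ ⊥ → False :=
    fun hX hX1 hXb hmeet => hnb (h.le_world_of_normalized hw hX hX1 ((h.C_le_theta hbA hb1).trans hXb)
      (hSb.trans hXb) (fun r hr hrq hne' => by
        rcases eq_or_ne r v with rfl | hrv
        · exact hmeet
        · exact absurd (hother r hr hrq hrv) hne') (h.theta_mem hbA hb1) hXb)
  by_cases hreg : IsRegular p A θ b
  · obtain ⟨J, hJ, hbJ, u, hu, Q, hQ, hQb⟩ := hreg
    haveI := Fact.mk hu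
    obtain ⟨hQle, hQn, hQor⟩ : Q ≤ core J u ∧ normalizer (J : Set G) ≤ normalizer (Q : Set G) ∧
        ((∀ x ∈ Q, ∀ y ∈ Q, x * y = y * x) ∨ u ≠ 2) := by
      rcases hQ with rfl | ⟨hu2, rfl⟩
      · exact ⟨omegaZ_le, (normalizer_le_core u).trans normalizer_le_omegaZ, Or.inl omegaZ_comm⟩
      · exact ⟨le_rfl, normalizer_le_core u, Or.inr hu2⟩
    have hQu : IsPGroup u Q := CfsgLib.CFun.isPGroup_core.to_le hQle
    have hQm : Q ∈ signalizerFamily p A θ :=
      h.mem_of_le hJ.1 (hQle.trans CfsgLib.CFun.core_le) ((h.le_normA hJ.1).trans hQn)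
    have huq : u = q := by
      by_contra huq
      exact hQb (((hQle.trans (CfsgLib.CFun.core_le_coCore huq)).trans
        (h.bad_point hw hvq hne honly hb hb1 hnb hJ hbJ).1.le).trans bot_le)
    have hQK : Q ≤ K := hK.le_of Q hQm (huq ▸ hQu)
      ((((h.C_le_theta hbA hb1).trans hbJ).trans le_normalizer).trans hQn)
    have hQM : Q ≤ M := (le_inf hQK (hQle.trans CfsgLib.CFun.core_le)).trans (hRM J hJ hbJ)
    obtain ⟨hYm, hYQ, hθY, hYne⟩ := h.point_commutator hw hQm hbA hb1 ((hbJ.trans le_normalizer).trans hQn)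
    have hYΦ : ⁅Q, zpowers b⁆ ≤ centralizer (coCore M q : Set G) := by
      refine commutator_le_of_hyperplanes h.elem
        (le_trans (Nat.pow_le_pow_right hp.out.pos (by norm_num)) h.card_le) hQm.2.1 hQm.1
        (h.le_normA hQm) hbA fun E hE hi _ => ?_
      rcases eq_or_ne ⁅Q ⊓ centralizer (E : Set G), zpowers b⁆ ⊥ with e | e
      · rw [e]; exact bot_le
      have hT := h.frame_of_core hu hbA hb1 hJ.1 hbJ (hQle.trans CfsgLib.CFun.core_le) hQn hQu hQor
        hE hi e
      have hTc := h.frame_le_core hT hw.max.1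
        ((((commutator_mono inf_le_left le_rfl).trans hYQ)).trans hQM)
      rw [huq] at hTc
      exact hTc.trans core_le_centralizer_coCore
    refine hcen hYm (hYne hQb) hθY ?_
    rw [inf_eq_left.2]
    · exact hne
    exact (CfsgLib.CFun.core_le_coCore hvq).trans ((le_centralizer_iff.1 hYΦ).trans
      (CfsgLib.Coprime.centralizer_le_normalizer_self _))
  obtain ⟨J, hJ, hbJ⟩ := h.exists_max (h.theta_mem hbA hb1)
  have h2 := h.exceptional_two hbA hb1 hreg hJ hbJ
  haveI : Fact (Nat.Prime 2) := ⟨Nat.prime_two⟩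
  obtain ⟨hJ0, hJv⟩ := h.bad_point hw hvq hne honly hb hb1 hnb hJ hbJ
  have hq2 : q = 2 := by
    by_contra hq2
    exact h2 ((CfsgLib.CFun.core_le_coCore (Ne.symm hq2)).trans (hJ0.le.trans bot_le))
  have hUm := h.core_mem hJ.1 2
  have hUK : core J 2 ≤ K := hK.le_of _ hUm (by rw [hq2]; exact CfsgLib.CFun.isPGroup_core)
    (((h.C_le_theta hbA hb1).trans hbJ).trans CfsgLib.CFun.le_normalizer_core)
  have hUM : core J 2 ≤ M := (le_inf hUK CfsgLib.CFun.core_le).trans (hRM J hJ hbJ)
  have hfix : omegaZ v (core M v) ⊓ centralizer ({b} : Set G) ≤ centralizer (core J 2 : Set G) := by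
    refine le_trans ?_ (bot_le : ⊥ ≤ _)
    rw [← hJv]
    exact le_inf (inf_le_left.trans omegaZ_le) fun x hx => hbJ (h.fix_le hw.max.1 hbA hb1
      ⟨CfsgLib.CFun.core_le (omegaZ_le hx.1), hx.2⟩)
  rcases h.pair_action (hq2 ▸ hvq) hbA hb1 hJ.1 hbJ (h.omegaZ_mem (h.core_mem hw.max.1 v) v)
    omegaZ_elementary (((h.world_C hw).trans CfsgLib.CFun.le_normalizer_core).trans normalizer_le_omegaZ)
    ((hUM.trans CfsgLib.CFun.le_normalizer_core).trans normalizer_le_omegaZ)
    hfix with hc | ⟨L', T, hT, -, -, -⟩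
  swap
  · exact hnoF L' T hT
  obtain ⟨hYm, -, hθY, hYne⟩ := h.point_commutator hw hUm hbA hb1 (hbJ.trans CfsgLib.CFun.le_normalizer_core)
  refine hcen hYm (hYne h2) hθY fun e =>
    omegaZ_ne_bot CfsgLib.CFun.isPGroup_core hne (le_bot_iff.1 ?_)
  exact le_trans (le_inf omegaZ_le ((le_centralizer_iff.1 hc).trans
    (CfsgLib.Coprime.centralizer_le_normalizer_self _))) e.le

end SFCtx

end CfsgLib.SolvSignalizer
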