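import Cfsg.Agent.Lib.SolvSignalizer.World

/-!
# A prime in the core of the maximal member of a frame

`SFCtx.frame_or_member`: it has a frame or a maximal member containing the largest `q`-member.
-/

set_option autoImplicit false
set_option linter.style.haveILetI false
set_option linter.unusedSectionVars false

open Subgroup
open scoped commutatorElement
open CfsgLib.Coprime (conj_mem_of_le_normalizer)
open CfsgLib.CFun (core coCore)
open Cfsg (signalizerFamily signalizerInf)

namespace CfsgLib.SolvSignalizer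

universe u

variable {G : Type u} [Group G] [Finite G] {p : ℕ} [hp : Fact p.Prime] {A : Subgroup G}
  {θ : G → Subgroup G}

namespace SFCtx

variable (h : SFCtx p A θ)

include h

variable {q : ℕ} [hq : Fact q.Prime] {L S M : Subgroup G} (hw : World p A θ q L S M)

include hw

/-- A prime `v` where `M` has a core either has a frame or a maximal member containing both the
largest `q`-member and that core. -/
theorem frame_or_member {K : Subgroup G} (hK : QMember p q A θ K) {v : ℕ} [hv : Fact v.Prime]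
    (hvq : v ≠ q) (hne : core M v ≠ ⊥) :
    (∃ L' T, Frame p A θ v L' T) ∨
      ∃ Z, IsMaxMem p A θ Z ∧ signalizerInf A θ ≤ Z ∧ K ≤ Z ∧ core M v ≤ Z := by
  have hFm := h.core_mem hw.max.1 v
  have hFC : signalizerInf A θ ≤ normalizer (core M v : Set G) :=
    (h.world_C hw).trans CfsgLib.CFun.le_normalizer_core
  have hpi : ∀ {r : ℕ} {X : Subgroup G}, r.Prime → IsPGroup r X → r ∈ ({q, v} : Set ℕ) →
      CfsgLib.Coprime.IsPiNum {q, v} (Nat.card X) := by
    intro r X hr hX hmem s hs hd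
    haveI := Fact.mk hr
    haveI := Fact.mk hs
    rcases eq_or_ne r s with rfl | hne'
    · exact hmem
    · exact absurd hd (CfsgLib.CFun.not_dvd_of_isPGroup hne' hX)
  by_cases hbig : ∃ a ∈ A, a ≠ 1 ∧ ¬ CfsgLib.Coprime.IsPiNum {q, v} (Nat.card (θ a))
  · obtain ⟨K', hK'm, -, hK'C, hK'max⟩ := h.piMember {q, v} hbig
    obtain ⟨Z, hZ, hle⟩ := h.exists_max (h.sup_mem hK'm h.inf_mem_family hK'C)
    exact Or.inr ⟨Z, hZ, le_sup_right.trans hle,
      (hK'max K hK.mem (hpi hq.out hK.group (Or.inl rfl)) hK.inv).trans (le_sup_left.trans hle),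
      (hK'max _ hFm (hpi hv.out CfsgLib.CFun.isPGroup_core (Or.inr rfl)) hFC).trans
        (le_sup_left.trans hle)⟩
  push Not at hbig
  by_contra hcon
  push Not at hcon
  obtain ⟨hnoF, hnoZ⟩ := hcon
  have htwo : ∀ {X : Subgroup G}, X ∈ signalizerFamily p A θ → ∀ r : ℕ, r.Prime → r ∣ Nat.card X →
      r = q ∨ r = v := by
    intro X hX r hr hd
    obtain ⟨a, ha, ha1, hda⟩ := h.prime_dvd_theta hX hr hd
    exact hbig a ha ha1 r hr hda
  have hother : ∀ r : ℕ, r.Prime → r ≠ q → r ≠ v → core M r = ⊥ := by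
    intro r hr hrq hrv
    haveI := Fact.mk hr
    obtain ⟨k, hk⟩ := IsPGroup.iff_card.1 (CfsgLib.CFun.isPGroup_core (H := M) (s := r))
    rcases k with - | k
    · exact card_eq_one.1 (hk.trans (pow_zero r))
    · rcases htwo (h.core_mem hw.max.1 r) r hr ((dvd_pow_self r (Nat.succ_ne_zero k)).trans hk.symm.dvd)
        with e | e
      · exact absurd e hrq
      · exact absurd e hrv
  have hSK : S ≤ K := hK.le_of S hw.frame.mem hw.frame.group hw.frame.inv
  have hKM : ¬ K ≤ M := fun hle => hnoZ M hw.max (h.world_C hw) hle CfsgLib.CFun.core_le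
  -- only `M` has a nontrivial `q'`-core
  have honly : ∀ Y, IsMaxMem p A θ Y → signalizerInf A θ ≤ Y → S ≤ Y → coCore Y q ≠ ⊥ → Y = M := by
    intro Y hY hCY hSY hne'
    refine h.eq_of_all_in hw hY hCY hSY fun r hr hrq => ?_
    rcases eq_or_ne r v with rfl | hrv
    · refine (h.core_le_of_core hw hY hSY hrq fun e => hne' (le_bot_iff.1 (e ▸ ?_))).trans
        CfsgLib.CFun.core_le
      refine le_core_of_normal CfsgLib.CFun.coCore_le CfsgLib.CFun.le_normalizer_coCore ?_
      refine IsPGroup.of_card (n := (Nat.card (coCore Y q)).factorization r) ?_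
      refine (Nat.eq_pow_of_factorization_eq_single Nat.card_pos.ne' ?_)
      ext s
      rcases eq_or_ne s r with rfl | hsr
      · rw [Finsupp.single_eq_same]
      rw [Finsupp.single_eq_of_ne hsr]
      by_contra hf
      have hs := Nat.prime_of_mem_primeFactors (Finsupp.mem_support_iff.2 hf)
      have hd := Nat.dvd_of_factorization_pos hf
      rcases htwo (h.coCore_mem hY.1 q) s hs hd with rfl | e
      · exact CfsgLib.CFun.not_dvd_coCore hd
      · exact hsr e
    · rw [hother r hr hrq hrv]; exact bot_le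
  set V₀ := omegaZ v (core M v) with hV₀
  have hV₀1 : V₀ ≠ ⊥ := omegaZ_ne_bot CfsgLib.CFun.isPGroup_core hne
  -- good points centralise `V₀`
  have hgood : ∀ e ∈ A, e ≠ 1 → θ e ≤ M → V₀ ≤ centralizer ({e} : Set G) := by
    intro e he he1 hle
    by_contra hnot
    obtain ⟨L', T, hT⟩ := h.frame_of_regular he he1 hw.max.1 hle hv.out
      (omegaZ_le.trans CfsgLib.CFun.core_le) ((normalizer_le_core v).trans normalizer_le_omegaZ)
      (CfsgLib.CFun.isPGroup_core.to_le omegaZ_le) (Or.inl omegaZ_comm) hnot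
    exact hnoF L' T hT
  have hbad : ∀ {b : G} {J : Subgroup G}, b ∈ L → b ≠ 1 → ¬ θ b ≤ M → IsMaxMem p A θ J → θ b ≤ J →
      coCore J q = ⊥ ∧ core M v ⊓ J = ⊥ := fun hb hb1 hnb hJ hbJ =>
    h.bad_point hw hvq hne honly hb hb1 hnb hJ hbJ
  have hclass : ∀ {b : G}, b ∈ L → b ≠ 1 → ¬ θ b ≤ M → ∃ J, θ b ≤ J ∧ InClass p q A θ K J :=
    fun hb hb1 hnb => h.exists_class_point hw hK hvq hne honly hother hnoF hb hb1 hnb
  -- all bad points share one member
  obtain ⟨b₀, hb₀, hb₀1, hb₀M⟩ : ∃ b ∈ L, b ≠ 1 ∧ ¬ θ b ≤ M := by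
    by_contra hall
    push Not at hall
    exact h.no_plane_member hw.max.1 hw.frame.plane_le hw.frame.plane hall
  obtain ⟨J₀, hbJ₀, hJ₀⟩ := hclass hb₀ hb₀1 hb₀M
  have hin : ∀ b ∈ L, b ≠ 1 → ¬ θ b ≤ M → θ b ≤ J₀ := by
    intro b hb hb1 hnb
    obtain ⟨J, hbJ, hJ⟩ := hclass hb hb1 hnb
    exact h.class_unique hK hJ hJ₀ ▸ hbJ
  obtain ⟨e, he, he1, heM⟩ : ∃ e ∈ L, e ≠ 1 ∧ θ e ≤ M := by
    by_contra hall
    push Not at hall
    exact h.no_plane_member hJ₀.max.1 hw.frame.plane_le hw.frame.plane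
      fun b hb hb1 => hin b hb hb1 (hall b hb hb1)
  refine h.no_commutator_member hJ₀.max.1 (hw.frame.plane_le he) he1 fun E hE hi heE => ?_
  obtain ⟨d, hdE, hdL, hd1⟩ := h.planes_meet hE hi hw.frame.plane_le hw.frame.plane
  have hdA := hE hdE
  have hdM : ¬ θ d ≤ M := by
    intro hdM
    -- the plane would centralise `V₀`
    set W := L ⊓ centralizer (V₀ : Set G) with hW
    have hin' : ∀ {g : G}, g ∈ L → g ≠ 1 → θ g ≤ M → g ∈ W := fun {g} hg hg1 hgM => mem_inf.2 ⟨hg,
      mem_centralizer_iff.2 fun x hx =>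
        mem_centralizer_singleton_iff.1 (hgood g (hw.frame.plane_le hg) hg1 hgM hx)⟩
    have hWL : W = L := by
      refine le_antisymm inf_le_left ?_
      obtain ⟨i, hi2, hWc⟩ := (Nat.dvd_prime_pow hp.out).1
        ((card_dvd_of_le (inf_le_left : W ≤ L)).trans (h.plane_card hw.frame.plane_le hw.frame.plane).dvd)
      rcases Nat.lt_or_ge i 2 with hi1 | hi1
      · exfalso
        have hWd : Nat.card W ∣ p := hWc ▸ (pow_dvd_pow p (by omega : i ≤ 1)).trans (pow_one p).dvd
        have hde : zpowers d = W := by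
          refine eq_of_le_of_card_ge (zpowers_le.2 (hin' hdL hd1 hdM)) ?_
          rw [Nat.card_zpowers, orderOf_eq_prime (h.elem.2 d hdA) hd1]
          exact Nat.le_of_dvd hp.out.pos hWd
        exact heE (zpowers_le.2 hdE (hde.ge (hin' he he1 heM)))
      · exact (eq_of_le_of_card_ge inf_le_left
          (by rw [hWc, h.plane_card hw.frame.plane_le hw.frame.plane, show i = 2 by omega])).ge
    obtain ⟨J, hJ, hbJ⟩ := h.exists_max (h.theta_mem (hw.frame.plane_le hb₀) hb₀1)
    refine hV₀1 (le_bot_iff.1 (le_trans (le_inf omegaZ_le fun x hx => ?_) (hbad hb₀ hb₀1 hb₀M hJ hbJ).2.le))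
    refine hbJ (h.fix_le hw.max.1 (hw.frame.plane_le hb₀) hb₀1 ⟨CfsgLib.CFun.core_le (omegaZ_le hx),
      mem_centralizer_singleton_iff.2 ?_⟩)
    exact mem_centralizer_iff.1 (hWL.ge hb₀).2 x hx
  have hle : signalizerInf E θ ≤ J₀ :=
    (iInf_le (fun x : {x : G // x ∈ E ∧ x ≠ 1} => θ (x : G)) ⟨d, hdE, hd1⟩).trans (hin d hdL hd1 hdM)
  exact (commutator_mono hle le_rfl).trans (le_normalizer_iff_commutator_le_left.1
    ((zpowers_le.2 (hw.frame.plane_le he)).trans (h.le_normA hJ₀.max.1)))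

end SFCtx

end CfsgLib.SolvSignalizer
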